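import Mathlib
import Cfsg.Prelude.Def_JankoFourType
import Cfsg.Agent.Spor.ESBasic
import Cfsg.Agent.Spor.J4.HMod

/-!
Groups of Janko-four type: the normal form of the hypothesis, coordinates for the extraspecial group `Q` of order
`2 ^ 13`, codes for the automorphisms of `Q`, and the stages of the identification.
-/

set_option autoImplicit false

namespace Cfsg.Agent.J4T

open Cfsg.Agent.Spor Cfsg.Agent.Spor.MB Cfsg.Agent.Spor.J4C Subgroup
open scoped Pointwise

/-! ### Arithmetic on codes -/

/-- Parity of a number below 64. -/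
def par (n : ℕ) : ℕ := Nat.land (Nat.shiftRight (nat_lit 0x6996966996696996) n) 1

/-- Product in `Q`: bits 0-5 and 6-11 are exponents of the generators, bit 12 is the exponent of `z`. -/
def qmul (a b : ℕ) : ℕ :=
  Nat.xor (Nat.xor a b) (Nat.shiftLeft (par (Nat.land (Nat.land (Nat.shiftRight a 6) b) 63)) 12)

/-- Inverse in `Q`. -/
def qinv (a : ℕ) : ℕ := Nat.xor a (Nat.shiftLeft (par (Nat.land (Nat.land (Nat.shiftRight a 6) a) 63)) 12)

/-- The image of generator `k` under the automorphism with code `c`. -/
def img (c k : ℕ) : ℕ := Nat.land (Nat.shiftRight c (Nat.mul 13 k)) 8191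

/-- One step of `app` (`k' = 13 * k`). -/
noncomputable def appS (c x k k' r : ℕ) : ℕ :=
  Nat.rec r (fun _ _ => Spor.force r fun r => Spor.force (Nat.land (Nat.shiftRight c k') (nat_lit 8191)) fun y =>
    Nat.xor (Nat.xor r y) (Nat.shiftLeft (Nat.land (Nat.shiftRight (nat_lit 0x6996966996696996)
      (Nat.land (Nat.land (Nat.shiftRight r (nat_lit 6)) y) (nat_lit 63))) (nat_lit 1)) (nat_lit 12)))
    (Nat.land (Nat.shiftRight x k) (nat_lit 1))

/-- The image of the element with code `x` under the automorphism with code `c`. -/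
noncomputable def app (c x : ℕ) : ℕ :=
  Spor.force c fun c => Spor.force x fun x =>
    appS c x (nat_lit 11) (nat_lit 143)
    (appS c x (nat_lit 10) (nat_lit 130)
    (appS c x (nat_lit 9) (nat_lit 117)
    (appS c x (nat_lit 8) (nat_lit 104)
    (appS c x (nat_lit 7) (nat_lit 91)
    (appS c x (nat_lit 6) (nat_lit 78)
    (appS c x (nat_lit 5) (nat_lit 65)
    (appS c x (nat_lit 4) (nat_lit 52)
    (appS c x (nat_lit 3) (nat_lit 39)
    (appS c x (nat_lit 2) (nat_lit 26)
    (appS c x (nat_lit 1) (nat_lit 13)
    (appS c x (nat_lit 0) (nat_lit 0)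
    (Nat.land x (nat_lit 4096)))))))))))))

/-- Twelve fields of 13 bits. -/
def pk12 (f : ℕ → ℕ) : ℕ :=
  Nat.lor (f 0) (Nat.shiftLeft (Nat.lor (f 1) (Nat.shiftLeft (Nat.lor (f 2) (Nat.shiftLeft (Nat.lor (f 3)
    (Nat.shiftLeft (Nat.lor (f 4) (Nat.shiftLeft (Nat.lor (f 5) (Nat.shiftLeft (Nat.lor (f 6) (Nat.shiftLeft
    (Nat.lor (f 7) (Nat.shiftLeft (Nat.lor (f 8) (Nat.shiftLeft (Nat.lor (f 9) (Nat.shiftLeft (Nat.lor (f 10)
    (Nat.shiftLeft (f 11) 13)) 13)) 13)) 13)) 13)) 13)) 13)) 13)) 13)) 13)) 13)

/-- Product of automorphisms (`b` acts first). -/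
noncomputable def amul (a b : ℕ) : ℕ :=
  Spor.force a fun a => Spor.force b fun b => pk12 fun k => app a (img b k)

/-- The identity. -/
def aid : ℕ := nat_lit 0x400100040010004001000400100040010004001

/-- Conjugation by the element of `Q` with code `x`. -/
noncomputable def inn (x : ℕ) : ℕ :=
  Spor.force x fun x => pk12 fun k => Spor.force (qmul x (Nat.shiftLeft 1 k)) fun y => qmul y (qinv x)

/-- The code of a word. -/
noncomputable def aev (c : ℕ → ℕ) (w : List ℕ) : ℕ := List.rec aid (fun x _ ih => amul (c x) ih) w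

/-- The code in `Q` of the element of `V ⊓ Q` with `V`-code `x` (bits 0-5 and bit 10 of `x`). -/
def vq (x : ℕ) : ℕ := Nat.lor (Nat.land x 63) (Nat.shiftLeft (Nat.land x 1024) 2)

/-! ### Data -/

/-- Codes of the letters `p`, `s1 .. s5`, `u1 .. u4`, `t`. -/
def cL (i : ℕ) : ℕ := List.getD [nat_lit 0x200300020030002003000600200060020006002, nat_lit 0x4403301b006c0040030007001c002002007e015, nat_lit 0x200200040030004003000200200060010006001, nat_lit 0x200200020020046031000260210020020004003, nat_lit 0x3802400400300040030002002001600d0006001, nat_lit 0x8008008008003e0250000a00a009008c004003, nat_lit 0xc0ad0aa42b12a04a01a00400100040010004001, nat_lit 0x405103c46011005801400400100040010004001, nat_lit 0x4039024422122852c1e80400100040010004001, nat_lit 0xc0c50b046011004001000400100040010004001, nat_lit 0x400100040010004001007c01504043011004c01] i aid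

/-- Their images in the stabiliser of the duad. -/
def pL (i : ℕ) : ℕ := List.getD [nat_lit 0xbdab49ca307b9ac5a928398a418820, nat_lit 0x31f49c1d2ac5b65a8e84984409477, nat_lit 0x36a99c864516cc5be88399d088457, nat_lit 0x5ab49a4a7788cc5a24a836240b877, nat_lit 0x26ad44870786875aad361844895d7, nat_lit 0x5aa459c49795ac9aa08919d40c477, nat_lit 0xbb1f3a4232ab916218ed4a8ab18820, nat_lit 0xbb4c93ae2453ac893e8c9d4b018820, nat_lit 0xbd6cb22627638cfa224a834b318820, nat_lit 0xba64d4562f83a87312d362caa18820, nat_lit 0xb96a99b0837b5d25aa8831ed180440] i idc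

/-- The elements of the sextet group that correspond to `p`, `s1 .. s5`. -/
def sL (i : ℕ) : ℕ := List.getD [nat_lit 0xb6b4b01e333a695dce8644b214144, nat_lit 0xb6b49c9823bad15a8c57a5001c2e4, nat_lit 0xdab4681e78ba624286b818a44b2f2, nat_lit 0xb6b498e2032ecc728e84bca2912f0, nat_lit 0x92ae94de28d0075a928618b61c2ed, nat_lit 0x6869554a2233aec5cce84bca01c2c4] i idc

/-- The elements of the sextet group that correspond to the generators `6 .. 11` of `Q`. -/
def beL (i : ℕ) : ℕ := List.getD [nat_lit 0xadaf49c8a3339a91058743e2482d40, nat_lit 0xd9549c9e28b9a71d509614c45c2e0, nat_lit 0xbceadb3a237ca8912987418a082c24, nat_lit 0xbd2b668222792671a909618ae5c032, nat_lit 0x5583499222781a91dd87418b25c2ae, nat_lit 0xadaf49ba2b7c9a780509618a010d44] i idc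

/-- Code of the element of order 11. -/
def cA11 : ℕ := nat_lit 0x44011036996c483543fe1630e38374266a6fa2e
/-- Code of the element of order 5. -/
def cB5 : ℕ := nat_lit 0xbe1fa075875819ce4992ad5a95f7bddba44d31d
/-- Code of the element of order 4. -/
def cD4 : ℕ := nat_lit 0xc0c50b131274ed7656d3409f0c42b32f6a6ba2f
/-- Code of the outer element. -/
def cE2 : ℕ := nat_lit 0x3a726264e53a1794945e0a50e383743dcba8fa8
/-- Image of the element of order 11. -/
def pA11 : ℕ := nat_lit 0xbd6717b56939461b52507314831040
/-- Image of the element of order 5. -/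
def pB5 : ℕ := nat_lit 0xbc6b63c9e154ccd2d1035c1c911180
/-- Image of the element of order 4. -/
def pD4 : ℕ := nat_lit 0xbbe56456868920d4a8e51306e9ac20
/-- Image of the outer element. -/
def pE2 : ℕ := nat_lit 0x364c4d4cf812d4186674444e59557

/-- The `V`-code of the duad formed by the point `i` and the point at infinity. -/
def lamP (i : ℕ) : ℕ := getP 11 2047 (nat_lit 0x155a09152abdd2b4864dd22d4aad6ed4a408f63ad2df1a4d49766cef9a018f7e) i

/-- The `V`-code of the cocode element of a mask. -/
def lam (m : ℕ) : ℕ := xorN (fun i => Nat.mul (Nat.land (Nat.shiftRight m i) 1) (lamP i)) 24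

/-- The `V`-code `x` is a duad. -/
def dua (x : ℕ) : Bool := Nat.beq (Nat.land (Nat.shiftRight (nat_lit 0x111e8000040000201110480002402080842104000020800011100140201018004281000d0007000b000110804100021028410010100001001110001010000100000e801014000120000022208880444000010410102081000000040000208000000e8400042080200000800004000020000e841214288124111e000000000000eee10888404422020001001210080104000040442202088800018002040800240000000200080004000e0402002880040000110101111011000100e0e0000e0000010204008240082841000200080004111020080804004242810b0000d070000001002180010401842170000b0000d00001841214288124111e) x) 1) 1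

/-- The element of `V ⊓ Q` with exponents `w` (bits 0-5, bit 6 for `z`) is a commutator `⁅q, û⁆` with `q ∈ Q`, where
`û` is the product of the letters `u1 .. u4` selected by the bits of `u`. -/
def br (u w : ℕ) : Bool := Nat.beq (Nat.land (Nat.shiftRight (nat_lit 0x111e000000000000eee180000400002011100888404422020001001210080104000048000240208084210400002080001110404422020888000180020408002400000140201018004281000200080004000e000d0007000b00010402002880040000108041000210284100101000010011101101011110110001001010000100000e00e0e0000e000001801014000120000002040082400828410002000800041110222088804440000104101020810000002008080400424281040000208000000e0b0000d07000000184000420802000000021800104018421800004000020000e70000b0000d0000100000000000000000000000000000001) (Nat.add (Nat.mul 128 u) w)) 1) 1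

/-- The elements of `V` conjugate to `z`, when `f u` says whether `û` is. -/
def oTab (f : ℕ → Bool) (x : ℕ) : Bool :=
  if x / 64 % 16 = 0 then !dua x
  else if br (x / 64 % 16) (x % 64 + 64 * (x / 1024)) then f (x / 64 % 16)
  else if br (x / 64 % 16) (x % 64 + 64 * (1 - x / 1024)) then !f (x / 64 % 16) else true

/-- The stabiliser in `M24` of the duad formed by infinity and zero. -/
def D22 : Subgroup PG := M24 ⊓ MulAction.stabilizer PG ({none, some 0} : Finset GolayPt)

/-! ### Coordinates -/

variable {G : Type*} [Group G]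

/-- The ordered product of the `g k`, `k < n`, selected by the bits of `x`. -/
def gp (g : ℕ → G) (x : ℕ) : ℕ → G
  | 0 => 1
  | n + 1 => gp g x n * (if x.testBit n then g n else 1)

/-- The element of `Q` with code `x`. -/
def qv (z : G) (g : ℕ → G) (x : ℕ) : G := (if x.testBit 12 then z else 1) * gp g x 12

/-- The generators of `V`. -/
def vg (z : G) (g l : ℕ → G) (k : ℕ) : G := if k < 6 then g k else if k < 10 then l k else z

/-- The element of `V` with code `x`: bits 0-5 for `g 0 .. g 5`, bits 6-9 for `l 6 .. l 9`, bit 10 for `z`. -/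
def vv (z : G) (g l : ℕ → G) (x : ℕ) : G := gp (vg z g l) x 11

/-- The extraspecial group. -/
def QG (g : ℕ → G) : Subgroup G := genLt g 12

/-- The elementary abelian group of order `2 ^ 11`. -/
def VG (z : G) (g l : ℕ → G) : Subgroup G := genLt (vg z g l) 11

/-- The image of the cocode. -/
def ZG (z : G) (g l : ℕ → G) (s : Finset GolayPt) : G := vv z g l (lam (mask s))

/-- A Sylow 2-subgroup. -/
def TG (g l : ℕ → G) : Subgroup G :=
  QG g ⊔ closure {l 1, l 5, evalW l [2, 1, 3, 2], l 6, l 7, l 8, l 9}

/-- `h` commutes with `z` and acts on `Q` as the automorphism with code `c`. -/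
def Rp (z : G) (g : ℕ → G) (h : G) (c : ℕ) : Prop :=
  h * z = z * h ∧ c < 2 ^ 156 ∧ ∀ k < 12, h * g k * h⁻¹ = qv z g (img c k)

/-- The relations of the extraspecial group. -/
structure StQ (z : G) (g : ℕ → G) : Prop where
  z_ne : z ≠ 1
  z_sq : z * z = 1
  z_comm : ∀ k < 12, z * g k = g k * z
  sq : ∀ k < 12, g k * g k = 1
  comm : ∀ i < 12, ∀ j < i, i ≠ j + 6 → g i * g j = g j * g i
  anti : ∀ j < 6, g (j + 6) * g j = z * (g j * g (j + 6))

/-- The hypothesis in normal form. -/
structure St0 (z : G) (Q : Subgroup G) (p : G) (π : centralizer ({z} : Set G) →* PG) : Prop where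
  es : ES2 Q z
  card : Nat.card Q = 2 ^ 13
  nQ : ∀ h, h * z = z * h → ∀ q ∈ Q, h * q * h⁻¹ ∈ Q
  cQ : ∀ h, h * z = z * h → (∀ q ∈ Q, h * q = q * h) → h ∈ Q
  p3 : orderOf p = 3
  pH : p * z = z * p
  range : π.range = D22
  ker : ∀ h, π h = 1 ↔ (h : G) ∈ Q ⊔ zpowers p
  fpf : ∀ q ∈ Q, p * q = q * p → q = 1 ∨ q = z

/-- A frame: coordinates in which `p` and elements of orders 11 and 5 act in the standard way. -/
structure StF (z : G) (π : centralizer ({z} : Set G) →* PG) (g : ℕ → G) (p a b : G) : Prop where
  q : StQ z g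
  st : St0 z (QG g) p π
  rp : Rp z g p (cL 0)
  ra : Rp z g a cA11
  rb : Rp z g b cB5
  pa : ∀ h : centralizer ({z} : Set G), (h : G) = a → π h = toPerm pA11
  pb : ∀ h : centralizer ({z} : Set G), (h : G) = b → π h = toPerm pB5

/-- The centraliser of `z` modulo `z` in coordinates. -/
structure StX (z : G) (π : centralizer ({z} : Set G) →* PG) (g l : ℕ → G) : Prop where
  q : StQ z g
  st : St0 z (QG g) (l 0) π
  rp : ∀ i < 11, Rp z g (l i) (cL i)
  pi : ∀ i < 11, ∀ h : centralizer ({z} : Set G), (h : G) = l i → π h = toPerm (pL i)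
  gen : centralizer ({z} : Set G) = QG g ⊔ genLt l 11

/-- The letters `l 6 .. l 9` are normalised: the elements of `V` not conjugate to `z` are the duads. -/
structure StO (z : G) (π : centralizer ({z} : Set G) →* PG) (g l : ℕ → G) : Prop where
  x : StX z π g l
  fus : ∀ x < 2048, x ≠ 0 → (IsConj z (vv z g l x) ↔ dua x = false)

/-- The normaliser of `V` acts on `V` as `M24` on the even cocode. -/
structure StS (z : G) (π : centralizer ({z} : Set G) →* PG) (g l : ℕ → G)
    (σ : normalizer (VG z g l : Set G) →* PG) : Prop where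
  o : StO z π g l
  range : σ.range = M24
  act : ∀ n : normalizer (VG z g l : Set G), ∀ s : Finset GolayPt, Even s.card →
    (n : G) * ZG z g l s * (n : G)⁻¹ = ZG z g l (σ n • s)
  ker : ∀ n, σ n = 1 ↔ (n : G) ∈ VG z g l
  sl : ∀ i < 6, ∀ n : normalizer (VG z g l : Set G), (n : G) = l i → σ n = toPerm (sL i)
  be : ∀ k < 6, ∀ n : normalizer (VG z g l : Set G), (n : G) = g (k + 6) → σ n = toPerm (beL k)

/-- The normaliser of `V` is a split extension, compatibly with the letters. -/
structure StM (z : G) (π : centralizer ({z} : Set G) →* PG) (g l : ℕ → G) (ψ : M24 →* G) : Prop where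
  o : StO z π g l
  zs : ZS ψ z (ZG z g l)
  inj : ∀ x : M24, ψ x ∈ VG z g l → x = 1
  hs : normalizer (VG z g l : Set G) = zs.HS
  sl : ∀ i < 6, l i = valN ψ (sL i)
  be : ∀ k < 6, g (k + 6) = valN ψ (beL k)

/-- The letter `t = l 10` satisfies the relations of the fourth Janko group over `2 ^ 11 : M24`. -/
structure StT (z : G) (π : centralizer ({z} : Set G) →* PG) (g l : ℕ → G) (ψ : M24 →* G) : Prop where
  m : StM z π g l ψ
  tz : IsConj z (l 10)
  tt : l 10 * l 10 = 1
  tx : Commute (valN ψ cX) (l 10)
  tu : Commute (valN ψ cU) (l 10)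
  seed : Good (valH ψ (ZG z g l)) (l 10) 5803857035021770968585845407905278073079840
    5803856952026145912643140565371199818894660
  r1 : Am.W (valN ψ) (l 10) [cA, cA, cA] = 1

/-- The final stage: `G` is generated by the image of `M24` and `t`; there are two classes of involutions,
represented by `z` and the duad `l 6`. -/
structure StJ (z : G) (π : centralizer ({z} : Set G) →* PG) (g l : ℕ → G) (ψ : M24 →* G) : Prop where
  t : StT z π g l ψ
  setup : Setup ψ (l 10)
  zz : zz ψ (l 10) = z
  cd : ∀ x < 2048, dua x = true → centralizer ({vv z g l x} : Set G) ≤ normalizer (VG z g l : Set G)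
  top : ψ.range ⊔ zpowers (l 10) = ⊤
  cls : ∀ y : G, y * y = 1 → y ≠ 1 → IsConj z y ∨ IsConj (l 6) y

end Cfsg.Agent.J4T
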