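import Mathlib
import Cfsg.Agent.J4T.VBB
import Cfsg.Agent.Rec.Loc

/-!
The Sylow 2-subgroup and the involutions of `Q`.
-/

set_option autoImplicit false

namespace Cfsg.Agent.J4T.VB

open Cfsg.Agent.Spor Cfsg.Agent.Spor.MB Cfsg.Agent.Spor.J4C Subgroup
open scoped Pointwise

variable {G : Type*} [Group G]

/-- Words for a group of order 16. -/
def dw (j : ℕ) : List ℕ := List.getD [[], [1], [5], [2, 1, 3, 2], [1, 5], [1, 2, 1, 3, 2], [5, 2, 1, 3, 2], [2, 1, 3, 2, 1], [1, 5, 2, 1, 3, 2],
  [1, 2, 1, 3, 2, 1], [5, 2, 1, 3, 2, 1], [2, 1, 3, 2, 1, 2, 1, 3, 2], [1, 5, 2, 1, 3, 2, 1], [1, 2, 1, 3, 2, 1,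
  2, 1, 3, 2], [5, 2, 1, 3, 2, 1, 2, 1, 3, 2], [1, 5, 2, 1, 3, 2, 1, 2, 1, 3, 2]] j []

/-- Their codes. -/
def dc (j : ℕ) : ℕ := List.getD [nat_lit 0x400100040010004001000400100040010004001, nat_lit 0x4403301b006c0040030007001c002002007e015, nat_lit
  0x8008008008003e0250000a00a009008c004003, nat_lit 0x24031014805c02203300032037004001004a01f, nat_lit
  0x36036019808803e03a0003a03b011804807e02a, nat_lit 0x6201200b80a40600100001a006002002004a03a, nat_lit
  0x2e029018804805a0360003602d009008c04a03a, nat_lit 0x600101280e80220220004c03b002002003002c, nat_lit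
  0x5201700900c401800800064021011804804a01f, nat_lit 0x200301d00940600200001e00a0040010030034, nat_lit
  0x74025000800c05a01b0004801c0118048030034, nat_lit 0x200200020020046031000260210020020004003, nat_lit
  0x4a03a001800401800400060010009008c03002c, nat_lit 0x6602200d80d80460120006c02d004001007e02a, nat_lit
  0x10004010004007c029000160060118048004001, nat_lit 0x6c01b01100cc07c0170005c037009008c07e015] j aid

/-- The multiplication table. -/
def dt (i j : ℕ) : ℕ := getP 4 15 (nat_lit 0x123456789abcdef1045238967cdabfe2406183a5c7e9fbd3760ab21ed45f98c4218065c3a9f7edb5981cd40fb23e76a6a327e04bf18dc5973ab60ed21f945c88c549f12de06ba3795cd81fb40e723a6a67e32bf04dc1895bde7f9a3c5608124c89f54de12ba0673dbf9e7c5a3816042efbadc7698325401fedcba9876543210) (16 * i + j)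

/-- The letter that moves a singular vector towards `W`. -/
def st (a : ℕ) : ℕ := getP 4 15 (nat_lit 0x900909a00390a0090a70a00aa00a07a00a60a006600a06a05008088008808009008a8300670000573300008a0055310033000033003333000037680076000086040a509050600a01a010080a0a0480a090a00a07010a804009061090a0500409492800000000227a00009a2877a700000000222a893a0000723a00000000a2a909400420a0046009a00440090a2006a02002900202900220027007604007a0029a00a900009a00a900220028970018000069008179002200680086000018008640609040050505070903030630906030040907046050509070303070040707030000000077448589444469660000000098884444000000000000000099964444033040010310a003a00409a0800a0a40900a0aa0a00408a004a090060a9040095a000058a800005700566a00005aa600005897000056550079000057970000589090090aa09005090a06a060060a60a00a0aa0a00a0aa0a080800108808008090000931500008366888600009951000019350000668600000000368800003159300680091006100708700160089001a00980071006a00710700190036001900800a40069004400496400490079004400940046009a004400004400440094004602080202020206087060802050507020202020a0508060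700802070a050508029666693299966369000000000000000000000000000000008a82a823773a32a806a0600aa0060a600aa0a00aa0050aa0900a09a00990700910080880088080093a00003a00a3a400aa000084006a9a0000313100330000a30097a5004a0000892020050a050660207090050605085050050880a06050050705077090902005080000959188860000000068669315000031950000000036866838000000001539800aa00401a00a70a007100a0a90048009500180400aa0010a1006a09008400900aa00aaaa007a0000a6006aa6006a009a003900009900a98800880000580089080a020230301030030303033030303030807060080a05078060607006080706a2987a7700000000aa27438200000000000000009243272a0000000023722a2930090930600303607004055040090750049060050640500907304007037070030049a10000741a00009aa90000a9aa00420000aa94000067760000a7670000760208709002028010080190700609a02090a0090aa0900a096080060880600806966600004544000044440000889800000000747400005889000099960000445402800550067002700a200850022007602002200220086008700250058002a002160039008700190071006a00980061000089001700360017009300610071009890409070406040406040a04040904040060904040a090409040409040404040600000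000000000000000000000000000936299966696366982a3737aa882aa380780600980010220900a09a00a90a0090970200a700901801008068008608006550000490074750000656400490000599300006300393600004737007300007390200a09090220200a04409020400607a0a007040409a060040a706060700a0200008988444500004774000000006859000054446696000099980000000045445006500809a005500a800560500850075002500702200260097002905006500800aa00aaaa00aa009a009900009a0039006a00a66a00a60088008800001800890a04090aa0a0a0601030303003010a03030a0a03a03040a070a0a04009070809866631950000000000000000193568365991888600000000000000008368531930030330300303300670800a0830200720020330800203100760300706808006001aa90000a748008a00004aa50000a100a41a00008aa6006a000098a1000049060a60a00a06a06090300909a0900a090a0aa0a00a0aa07080800508808008093842000032a700000000a4930000722aa777000029a80000000037220000a22809a00940046004406004a004600940090790064004900440900440044004400685002200aa00760000270028002a00685500670028002200005500820072008210608090107010700106030608090107903070806010901006010701090309080000000000000000999669663692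66390000000000000000877a88aa2a83a3285006048004908005a0060a6006a0600a5006094006408005400809800890800900a1a6005700009a00a6a8005a00001a00336100360000390068a7001a000079040650a0a05008060a0650a0a0500a0a0a0a50a08050080a06065060905008095666000000005858555600000000577555560000000055585456000000005558055005a0a006a00a0a500570a002800a0a5002a0400420060650049040068009a6006a0000a6006a94008400005600854600490000560085980089000058008980a0a0500a06010a106060300903030960a070500a01090a50a0a01006070709000000002556775800000000525652580000000066568a58000000004556255803603003061030030550a0010a60900a05a0a0060830100a01a060070a607009580000a3a500008aaa000093a50000a95a0000a6a50000aa360000966500008940800506409008059040050660400805a0600a0660a0060a908005088090080900002556000025580000656600002588000055a600007575000055460000552850055006300380065005800750078005500580058007800650053003800580060087005700550085008500870055008600560033005500860033008500550086080a05050805080603030505050608060507050508070806080505050a0308060000000000000000000000000000000000000000000000000000000000000000)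 (Nat.land a 4095)

/-- The vector reaches `W` in at most `n` steps. -/
noncomputable def red (n : ℕ) : ℕ → Bool :=
  Nat.rec (fun a => Nat.beq (a / 64 % 64) 0) (fun _ ih a => bor (Nat.beq (a / 64 % 64) 0)
    (Spor.force (st a) fun k => band (blt k 11) (Spor.force (app (cL k) a) ih))) n

theorem dw_ok : ∀ j < 16, lettersLt 11 (dw j) = true ∧ lettersLt 10 (dw j) = true ∧ aev cL (dw j) = dc j := by
  decide +kernel

theorem dt_ok : ∀ i < 16, (∀ j < 16, amul (dc i) (dc j) = dc (dt i j)) ∧ ∃ j < 16, dt i j = 0 := by decide +kernel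

theorem dt_lt (i j : ℕ) : dt i j < 16 := lt_of_le_of_lt Nat.and_le_right (by norm_num)

theorem red_ok : allRange 0 8192 (fun a => bor (!Nat.beq (qmul a a) 0) (red 5 a)) = true := by decide +kernel

theorem tp_inj : ∀ i < 256, ∀ j < 256, mul (pev (uw (i % 16))) (pev (dw (i / 16))) =
    mul (pev (uw (j % 16))) (pev (dw (j / 16))) → i = j := by
  have h : distinct (fun i => mul (pev (uw (i % 16))) (pev (dw (i / 16)))) 256 (List.range 256) = true := by
    decide +kernel
  exact fun i hi j hj e => List.inj_on_of_nodup_map (distinct_spec h).1 (List.mem_range.2 hi) (List.mem_range.2 hj) e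

variable {z : G} {g l : ℕ → G} {π : centralizer ({z} : Set G) →* PG} (s : StX z π g l)

include s

theorem rp_dw {j : ℕ} (hj : j < 16) : Rp z g (evalW l (dw j)) (dc j) := (dw_ok j hj).2.2 ▸ rw s (dw_ok j hj).1

omit s in
theorem dw_mem {j : ℕ} (hj : j < 16) : evalW l (dw j) ∈ TG g l := by
  have h1 : l 1 ∈ TG g l := mem_sup_right (subset_closure (by simp))
  have h5 : l 5 ∈ TG g l := mem_sup_right (subset_closure (by simp))
  have h2 : ∀ x ∈ TG g l, l 2 * (l 1 * (l 3 * (l 2 * x))) ∈ TG g l := fun x hx => by
    have h3 : evalW l [2, 1, 3, 2] ∈ TG g l := mem_sup_right (subset_closure (by simp))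
    simpa only [evalW_cons, evalW_nil, mul_one, mul_assoc] using mul_mem h3 hx
  interval_cases j <;> simp only [dw, List.getD_cons_succ, List.getD_cons_zero, evalW_cons, evalW_nil] <;>
    repeat first | exact one_mem _ | refine h2 _ ?_ | refine mul_mem h1 ?_ | refine mul_mem h5 ?_

theorem V_le_T : VG z g l ≤ TG g l := genLt_le fun k hk => by
  unfold vg
  split_ifs with h1 h2
  · exact mem_sup_left (mem_genLt g (by omega))
  · refine mem_sup_right (subset_closure ?_)
    have h3 : k = 6 ∨ k = 7 ∨ k = 8 ∨ k = 9 := by omega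
    rcases h3 with rfl | rfl | rfl | rfl <;> simp
  · exact mem_sup_left s.q.z_mem

omit s in
theorem T_le_A' : TG g l ≤ QG g ⊔ genLt l 10 := sup_le_sup_left ((closure_le _).2 (by
  simp only [Set.insert_subset_iff, Set.singleton_subset_iff, SetLike.mem_coe]
  exact ⟨mem_genLt l (by norm_num), mem_genLt l (by norm_num), evalW_mem_genLt l (by decide +kernel),
    mem_genLt l (by norm_num), mem_genLt l (by norm_num), mem_genLt l (by norm_num), mem_genLt l (by norm_num)⟩)) _

theorem conj_Q {q : G} (hq : q ∈ QG g) (h2 : q * q = 1) :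
    ∃ x : G, x * z = z * x ∧ x * q * x⁻¹ ∈ VG z g l := by
  have key : ∀ n, ∀ a < 8192, red n a = true → ∃ x : G, x * z = z * x ∧ x * qv z g a * x⁻¹ ∈ VG z g l := by
    have h0 : ∀ a < 8192, Nat.beq (a / 64 % 64) 0 = true →
        ∃ x : G, x * z = z * x ∧ x * qv z g a * x⁻¹ ∈ VG z g l := fun a ha h =>
      ⟨1, by rw [one_mul, mul_one], by
        rw [one_mul, inv_one, mul_one, qv_mem_V s ha]; exact (nbeq_iff _ _).1 h⟩
    intro n
    induction n with
    | zero => exact h0
    | succ n ih =>
      intro a ha h
      have h1 : bor (Nat.beq (a / 64 % 64) 0) (band (blt (st a) 11) (red n (app (cL (st a)) a))) = true := h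
      rw [bor_iff, band_iff, blt_iff] at h1
      rcases h1 with h1 | ⟨h1, h3⟩
      · exact h0 a ha h1
      · obtain ⟨x, hx, h4⟩ := ih _ (app_lt _ _) h3
        rw [← s.q.rp_app (s.rp _ h1) ha] at h4
        exact ⟨x * l (st a), by rw [mul_assoc, lz s h1, ← mul_assoc, hx, mul_assoc], by
          rwa [mul_inv_rev, ← mul_assoc, mul_assoc x, mul_assoc x]⟩
  obtain ⟨a, ha, rfl⟩ := s.q.mem_QG.1 hq
  have h1 := allRange_zero red_ok a ha
  rw [← s.q.qv_mul ha ha, ← s.q.qv_zero] at h2
  rw [s.q.qv_inj (qmul_lt ha ha) (by norm_num) h2] at h1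
  exact key 5 a ha (by simpa using h1)

variable [Finite G]

theorem T_le_A : TG g l ≤ centralizer ({z} : Set G) ⊓ normalizer (VG z g l : Set G) := A_eq s ▸ T_le_A'

theorem mem_QV {x : G} (hx : x ∈ QG g ⊔ VG z g l) : ∃ a < 8192, ∃ u < 16, x = qv z g a * evalW l (uw u) := by
  have h1 : VG z g l ≤ normalizer (QG g : Set G) := fun v hv => norm_Q s (V_comm s hv z_mem)
  have h2 : x ∈ ((QG g : Set G) * (VG z g l : Set G)) := by
    rw [← coe_mul_of_right_le_normalizer_left _ _ h1]; exact hx
  obtain ⟨q, hq, v, hv, rfl⟩ := h2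
  obtain ⟨a, ha, rfl⟩ := s.q.mem_QG.1 hq
  obtain ⟨b, hb, rfl⟩ := (mem_VG s).1 hv
  exact ⟨_, qmul_lt ha (vq_lt b), _, Nat.mod_lt _ (by norm_num), by
    rw [s.q.qv_mul ha (vq_lt b), mul_assoc, ← vv_eq s hb]⟩

theorem mem_T' {x : G} (hx : x ∈ TG g l) : ∃ y ∈ QG g ⊔ VG z g l, ∃ j < 16, x = y * evalW l (dw j) := by
  have hz : z ∈ QG g ⊔ VG z g l := mem_sup_left s.q.z_mem
  have h1 : ∀ j < 16, ∀ y ∈ QG g ⊔ VG z g l, evalW l (dw j) * y * (evalW l (dw j))⁻¹ ∈ QG g ⊔ VG z g l :=
    fun j hj y hy => (sup_le (fun q hq => mem_sup_left (s.st.nQ _ (rp_dw s hj).1 q hq)) (fun v hv => mem_sup_right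
      ((mem_normalizer_iff.1 (T_le_A s (dw_mem hj)).2 v).1 hv)) :
      QG g ⊔ VG z g l ≤ (QG g ⊔ VG z g l).comap (MulAut.conj (evalW l (dw j))).toMonoidHom) hy
  have h2 : ∀ i < 16, ∀ j < 16, ∃ y ∈ QG g ⊔ VG z g l,
      evalW l (dw i) * evalW l (dw j) = y * evalW l (dw (dt i j)) := fun i hi j hj => by
    rcases s.st.rp_eq_or s.q (rp_dw s (dt_lt i j)) ((dt_ok i hi).1 j hj ▸ s.q.rp_mul (rp_dw s hi) (rp_dw s hj))
      with e | e
    exacts [⟨1, one_mem _, by rw [e, one_mul]⟩, ⟨z, hz, by rw [e, (rp_dw s (dt_lt i j)).1]⟩]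
  let K : Subgroup G :=
    { carrier := {x | ∃ y ∈ QG g ⊔ VG z g l, ∃ j < 16, x = y * evalW l (dw j)}
      one_mem' := ⟨1, one_mem _, 0, by norm_num, (mul_one _).symm⟩
      mul_mem' := by
        rintro _ _ ⟨y, hy, i, hi, rfl⟩ ⟨y', hy', j, hj, rfl⟩
        obtain ⟨w, hw, e⟩ := h2 i hi j hj
        refine ⟨_, mul_mem (mul_mem hy (h1 i hi _ hy')) hw, _, dt_lt i j, ?_⟩
        rw [mul_assoc _ w, ← e]; group
      inv_mem' := by
        rintro _ ⟨y, hy, i, hi, rfl⟩
        obtain ⟨j, hj, e0⟩ := (dt_ok i hi).2
        obtain ⟨w, hw, e⟩ := h2 i hi j hj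
        rw [e0, show evalW l (dw 0) = 1 from rfl, mul_one] at e
        refine ⟨_, h1 j hj _ (inv_mem (mul_mem hy hw)), j, hj, ?_⟩
        rw [← e]; group }
  have h3 : ∀ y ∈ QG g ⊔ VG z g l, y ∈ K := fun y hy => ⟨y, hy, 0, by norm_num, (mul_one _).symm⟩
  have h4 : ∀ j < 16, evalW l (dw j) ∈ K := fun j hj => ⟨1, one_mem _, j, hj, (one_mul _).symm⟩
  refine (sup_le (fun q hq => h3 q (mem_sup_left hq)) ((closure_le K).2 ?_) : TG g l ≤ K) hx
  simp only [Set.insert_subset_iff, Set.singleton_subset_iff, SetLike.mem_coe]
  exact ⟨by simpa [dw] using h4 1 (by norm_num), by simpa [dw] using h4 2 (by norm_num), h4 3 (by norm_num),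
    h3 _ (mem_sup_right (l_mem (by norm_num) (by norm_num))), h3 _ (mem_sup_right (l_mem (by norm_num) (by norm_num))),
    h3 _ (mem_sup_right (l_mem (by norm_num) (by norm_num))), h3 _ (mem_sup_right (l_mem (by norm_num) (by norm_num)))⟩

/-- The elements of the Sylow subgroup. -/
theorem mem_T {x : G} (hx : x ∈ TG g l) :
    ∃ a < 8192, ∃ u < 16, ∃ j < 16, x = qv z g a * (evalW l (uw u) * evalW l (dw j)) := by
  obtain ⟨y, hy, j, hj, rfl⟩ := mem_T' s hx
  obtain ⟨a, ha, u, hu, rfl⟩ := mem_QV s hy
  exact ⟨a, ha, u, hu, j, hj, mul_assoc _ _ _⟩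

theorem card_T : Nat.card (TG g l) = 2 ^ 21 := by
  have h1 : ∀ u < 16, evalW l (uw u) ∈ TG g l := fun u hu => by
    have h2 := vv_eq s (a := 64 * u) (by omega)
    rw [show 64 * u / 64 % 16 = u by omega] at h2
    exact (mul_mem_cancel_left (mem_sup_left (s.q.qv_mem _))).1 (h2 ▸ V_le_T s (vv_mem _))
  have h2 : ∀ t < 256, t % 16 < 16 ∧ t / 16 < 16 := fun t ht => by omega
  have h3 : ∀ a, ∀ t < 256, Pc π (qv z g a * (evalW l (uw (t % 16)) * evalW l (dw (t / 16))))
      (mul (pev (uw (t % 16))) (pev (dw (t / 16)))) := fun a t ht =>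
    pc_Q_mul s (s.q.qv_mem a) ((pc_w s (uw_lt _ (h2 t ht).1)).mul (pc_w s (dw_ok _ (h2 t ht).2).1))
  rw [← Nat.card_eq_of_bijective (fun a : Fin 8192 × Fin 256 => (⟨qv z g a.1 * (evalW l (uw (a.2 % 16)) *
    evalW l (dw (a.2 / 16))), mul_mem (mem_sup_left (s.q.qv_mem _)) (mul_mem (h1 _ (h2 _ a.2.2).1)
      (dw_mem (h2 _ a.2.2).2))⟩ : TG g l)) ⟨?_, fun x => ?_⟩]
  · simp
  · rintro ⟨a, t⟩ ⟨b, t'⟩ e
    have e1 := congrArg Subtype.val e
    simp only at e1
    obtain rfl : t = t' := Fin.ext (tp_inj _ t.2 _ t'.2 ((h3 a t t.2).unique (by rw [e1]; exact h3 b t' t'.2)))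
    rw [Fin.ext (s.q.qv_inj a.2 b.2 (mul_right_cancel e1))]
  · obtain ⟨a, ha, u, hu, j, hj, e⟩ := mem_T s x.2
    refine ⟨(⟨a, ha⟩, ⟨u + 16 * j, by omega⟩), Subtype.ext ?_⟩
    simp only [show (u + 16 * j) % 16 = u by omega, show (u + 16 * j) / 16 = j by omega]
    exact e.symm

theorem syl_T : Inv.Fz.IsSylIn 2 (TG g l) ⊤ :=
  Rec.isSylIn_of_center (Rec.isSylIn_of_card ((T_le_A s).trans inf_le_left) (card_T s) (m := 10395)
    (by rw [card_H s]; norm_num) (by norm_num)) (V_le_T s z_mem) s.q.z_ne fun x hx h =>
    s.st.eq_one_or_of_comm s.q (h z (V_le_T s z_mem)) fun k hk => h _ (mem_sup_left (mem_genLt g hk))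

end Cfsg.Agent.J4T.VB
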