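import Mathlib
import Cfsg.Agent.J4T.VBasic
import Cfsg.Agent.Spor.Comp.Chain

/-!
The action of `C(z) ⊓ N(V)` on the codes of `V`: modulo `z` by linear maps, exactly for elements of `Q`; the five orbits
on `V / ⟨z⟩`.
-/

set_option autoImplicit false
set_option linter.unusedSectionVars false

namespace Cfsg.Agent.J4T

open Cfsg.Agent.Spor Cfsg.Agent.Spor.MB Cfsg.Agent.Spor.J4C Subgroup
open scoped Pointwise

variable {G : Type*} [Group G]

/-- The code of the action on `Q` of the generator `k` of `V`. -/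
noncomputable def vgc (k : ℕ) : ℕ := if k < 6 then inn (2 ^ k) else if k < 10 then cL k else aid

/-- The code of the product of the first `n` selected generators of `V`. -/
noncomputable def vcN (x : ℕ) (n : ℕ) : ℕ :=
  Nat.rec aid (fun n ih => if x.testBit n then amul ih (vgc n) else ih) n

/-- The code of the action on `Q` of the element of `V` with code `x`. -/
noncomputable def vc (x : ℕ) : ℕ := vcN x 11

/-- The linear map on codes with the images `m k` of the basis. -/
def linV (m : ℕ → ℕ) (x : ℕ) : ℕ → ℕ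
  | 0 => 0
  | n + 1 => if x.testBit n then linV m x n ^^^ m n else linV m x n

namespace Orb

/-- Codes of six generators. -/
noncomputable def gc (j : ℕ) : ℕ := if j < 5 then cL (j + 1) else inn 64

/-- Their matrices on `V / ⟨z⟩`. -/
def gm (j k : ℕ) : ℕ := getP 10 1023 (nat_lit 0x2004e8901a020040080100200400d0100200400140a048230080300200c0080100100802c0d00300400c01006004004c2101008008030020060080300100800c010030040080100300400e01c010080fc15) (11 * j + k)

/-- Distance to the root of the orbit. -/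
def dep (x : ℕ) : ℕ := getP 4 15 (nat_lit 0x6766756666756656445345555545455545555564655664556556554645554453577665766774666666666567675755676566766585677556677757666767676488899899899888998998889999799a99799a8898898998898988989899889997678786878785777778766777687768676778777787686678867787878777877567877766777787768875677878677787687677868766677877778766678677756777656665546677777666776655656667776665656666557776766566656554787787888887788788968787787787887788888687788898887778878787888678989698989788888897879988887897789887988788879787988898989888964354435443545545443565554534354546554545454543544453535255644352455645556556555564556465654646454565656647564456565455556563655399aaa8aa9a9999aa9aa99999aa8a9a9a9aaaa999a99ab9aa99a9a9a9a9a9aaa865666567676666666776657685665567577657666757755666667665677467643352344254524534555343534343245354323542454452535352544344414451556456645654444456636563655535535654656345555353455364625644445233523253344165455331444165551442244266542353325356542441543054503433442243153455224442244524733133133343551326424254135544061200)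 x

/-- The generator that decreases the distance. -/
def gen (x : ℕ) : ℕ := getP 3 7 (nat_lit 0x6db4dd6dbadb76b66badb6eb4ab76b49badd4db6db6eb75369da9d6eb75b4db75b6db6eb75badb6d36ddaeb6dd6d56db89252da6489445485585211585150251255252a90a4221142e375badb6dbadb6ed72b6d96eba6c95b6eb95baeb6eb61b8dd8e58a08a872c9108e50dd81811c72592312392392402c24d92432496d30995536591171d524725365723924723324949724a4c90d35c85d90984d84db0990d76130b94b12510c2a24924924924a24942a24924926a14924924a22924934122ac2ad2adaa4b15a54b124518ac44a49150d36a35252c3620ac12d9280a2950554554890420a2d4a54aaa02a2cb020926db6edada6eb6eb6dd75b6db6db6da6dd75b6ebadbadb6db34a34924a349a6aa4d26a86934d24d34924d049a4126900132d85d35b96571c74b66d855ae1b618e5661251b2ca89a9150585d4dca25753a00045168ac51558d0b05120320124160a98898a9b24d6156cda518d54e58e94cd513349b1876022869961c3180208912881098543032624029116634d3683440) x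

/-- The orbit type. -/
def ty (x : ℕ) : ℕ :=
  if x / 64 % 16 = 0 then (if x % 64 = 0 then 0 else if dua x then 2 else 1)
  else if br (x / 64 % 16) (x % 64 + 64 * (x / 1024)) then 3
  else if br (x / 64 % 16) (x % 64 + 64 * (1 - x / 1024)) then 3 else 4

/-- The root of an orbit. -/
def root (t : ℕ) : ℕ := List.getD [0, 5, 1, 64, 68] t 0

theorem gm_ok : ∀ j < 6, ∀ k < 11, amul (gc j) (vgc k) = amul (vc (gm j k)) (gc j) := by decide +kernel

theorem tree : ∀ x < 1024, x = root (ty x) ∨ gen x < 6 ∧ linV (gm (gen x)) x 11 < 1024 ∧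
    dep (linV (gm (gen x)) x 11) < dep x ∧ ty (linV (gm (gen x)) x 11) = ty x := by decide +kernel

theorem ty_mod : ∀ x < 2048, ty (x % 1024) = ty x ∧ ty x < 5 ∧ (x = x % 1024 ∨ x = x % 1024 ^^^ 1024) := by
  decide +kernel

theorem split : ∀ x < 2048, x = (x &&& 1087) ^^^ 64 * (x / 64 % 16) ∧ x &&& 1087 < 2048 ∧
    (x &&& 1087) / 64 % 16 = 0 ∧ vq (x &&& 1087) = vq x ∧ vq x < 8192 := by decide +kernel

theorem br_ok : ∀ u < 16, ∀ w < 128, br u w = true → ∃ y < 64,
    qmul (qmul (64 * y) 0) (app (vc (64 * u)) (qinv (64 * y))) = w % 64 + 4096 * (w / 64) := by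
  have h : (allLt 16 fun u => Spor.force (vc (64 * u)) fun c => allLt 128 fun w => bor (!br u w) (!allLt 64 fun y =>
      !Nat.beq (qmul (qmul (64 * y) 0) (app c (qinv (64 * y)))) (w % 64 + 4096 * (w / 64)))) = true := by
    decide +kernel
  intro u hu w hw h1
  have h0 := (allLt_iff _ _).1 h u hu
  rw [Spor.force_eq] at h0
  have h2 := (allLt_iff _ _).1 h0 w hw
  rw [bor_iff, h1] at h2
  by_contra h3
  refine absurd (h2.resolve_left (by simp)) ?_
  rw [(allLt_iff _ _).2 fun y hy => ?_]
  · simp
  · rw [Bool.not_eq_true', ← Bool.not_eq_true, nbeq_iff]; exact fun e => h3 ⟨y, hy, e⟩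

theorem vq_eq : ∀ x < 2048, vq x = (x % 64 + 64 * (x / 1024)) % 64 + 4096 * ((x % 64 + 64 * (x / 1024)) / 64) := by
  decide +kernel

theorem count : ∀ t < 5, ((Finset.range 1024).filter fun x => ty x = t).card = List.getD [1, 45, 18, 240, 720] t 0 := by
  intro t ht
  have h : ∀ t < 5, count2 1024 (fun x => Nat.beq (ty x) t) = List.getD [1, 45, 18, 240, 720] t 0 := by decide +kernel
  rw [← h t ht, count2_eq, countLt_eq]
  simp only [nbeq_iff]

open Classical in
/-- The number of conjugates of `z` in the coset `v ⟨z⟩`. -/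
noncomputable def hh (z v : G) : ℕ := (if IsConj z v then 1 else 0) + if IsConj z (v * z) then 1 else 0

theorem hh_conj {z n : G} (h : n * z = z * n) (v : G) : hh z (n * v * n⁻¹) = hh z v := by
  have h1 : ∀ v, IsConj z (n * v * n⁻¹) ↔ IsConj z v := fun v =>
    ⟨fun e => e.trans (isConj_iff.2 ⟨n, rfl⟩).symm, fun e => e.trans (isConj_iff.2 ⟨n, rfl⟩)⟩
  rw [hh, hh, h1, show n * v * n⁻¹ * z = n * (v * z) * n⁻¹ by
    rw [mul_assoc, inv_mul_eq_iff_eq_mul.2 (show z = n * (z * n⁻¹) by rw [← mul_assoc, h]; group)]; group, h1]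

theorem hh_mul {z : G} (h : z * z = 1) (v : G) : hh z (v * z) = hh z v := by
  rw [hh, hh, mul_assoc, h, mul_one, add_comm]

end Orb

namespace StX

variable [Finite G] {z : G} {g l : ℕ → G} {π : centralizer ({z} : Set G) →* PG} (s : StX z π g l)

include s

theorem rp_vg {k : ℕ} (hk : k < 11) : Rp z g (vg z g l k) (vgc k) := by
  unfold vg vgc
  split_ifs with h1 h2
  · rw [← s.q.qv_gen (z := z) (by omega : k < 12)]; exact s.q.rp_qv (two_pow_lt (by omega))
  · exact s.rp k hk
  · exact s.q.rp_z

theorem rp_vv (x : ℕ) : Rp z g (vv z g l x) (vc x) := by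
  have h : ∀ n ≤ 11, Rp z g (gp (vg z g l) x n) (vcN x n) := fun n hn => by
    induction n with
    | zero => exact s.q.rp_one
    | succ n ih =>
      rw [gp_succ, show vcN x (n + 1) = if x.testBit n then amul (vcN x n) (vgc n) else vcN x n from rfl]
      split_ifs
      · exact s.q.rp_mul (ih (by omega)) (s.rp_vg hn)
      · rw [mul_one]; exact ih (by omega)
  exact h 11 le_rfl

theorem vv_zero : vv z g l 0 = 1 := gp_zero _ _

theorem vv_xor_z (x : ℕ) : vv z g l (x ^^^ 1024) = vv z g l x * z := by rw [s.vv_xor, s.vv_z]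

theorem conj_vg {n : G} {c k m : ℕ} (hn : Rp z g n c) (hk : k < 11) (h : amul c (vgc k) = amul (vc m) c) :
    n * vg z g l k * n⁻¹ = vv z g l m ∨ n * vg z g l k * n⁻¹ = vv z g l m * z := by
  refine (s.st.rp_eq_or s.q (s.q.rp_mul (s.rp_vv m) hn) (h ▸ s.q.rp_mul hn (s.rp_vg hk))).imp
    (fun e => by rw [e]; group) fun e => by rw [e, mul_assoc _ n, hn.1]; group

/-- The action modulo `z` is linear. -/
theorem conj_lin {n : G} {c : ℕ} {m : ℕ → ℕ} (hn : Rp z g n c) (h : ∀ k < 11, amul c (vgc k) = amul (vc (m k)) c)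
    (x : ℕ) : n * vv z g l x * n⁻¹ = vv z g l (linV m x 11) ∨ n * vv z g l x * n⁻¹ = vv z g l (linV m x 11) * z := by
  have h1 : ∀ k ≤ 11, n * gp (vg z g l) x k * n⁻¹ = vv z g l (linV m x k) ∨
      n * gp (vg z g l) x k * n⁻¹ = vv z g l (linV m x k) * z := fun k hk => by
    induction k with
    | zero => left; rw [gp_nil, linV, s.vv_zero]; group
    | succ k ih =>
      rw [gp_succ, linV]
      split_ifs
      · rw [show ∀ a b : G, n * (a * b) * n⁻¹ = n * a * n⁻¹ * (n * b * n⁻¹) from fun a b => by group, s.vv_xor]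
        have e1 := (s.rp_vv (m k)).1
        rcases ih (by omega) with e | e <;> rcases s.conj_vg hn hk (h k hk) with e' | e' <;> rw [e, e']
        · exact Or.inl rfl
        · exact Or.inr (mul_assoc _ _ _).symm
        · right; rw [mul_assoc, ← e1, mul_assoc]
        · left; rw [e1, mul_assoc, ← mul_assoc z, s.q.z_sq, one_mul]
      · rw [mul_one]; exact ih (by omega)
  exact h1 11 le_rfl

theorem vv_split {x : ℕ} (hx : x < 2048) : vv z g l x = qv z g (vq x) * vv z g l (64 * (x / 64 % 16)) := by
  obtain ⟨h1, h2, h3, h4, -⟩ := Orb.split x hx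
  rw [← h4, ← s.vv_eq_qv h2 h3, ← s.vv_xor, ← h1]

/-- The exact action of `Q` on `V`. -/
theorem conj_q {x y q : ℕ} (hx : x < 2048) (hy : y < 2048) (hq : q < 8192) (hu : y / 64 % 16 = x / 64 % 16)
    (h : qmul (qmul q (vq x)) (app (vc (64 * (x / 64 % 16))) (qinv q)) = vq y) :
    qv z g q * vv z g l x * (qv z g q)⁻¹ = vv z g l y := by
  have h1 := (Orb.split x hx).2.2.2.2
  rw [s.vv_split hx, s.vv_split hy, hu, ← h, s.q.qv_mul (qmul_lt hq h1) (app_lt _ _), s.q.qv_mul hq h1,
    ← s.q.rp_app (s.rp_vv _) (qinv_lt hq), s.q.qv_qinv hq]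
  group

theorem hh_eq {x : ℕ} (hx : x < 2048) : Orb.hh z (vv z g l x) = Orb.hh z (vv z g l (Orb.root (Orb.ty x))) := by
  have h1 : ∀ d, ∀ x < 1024, Orb.dep x = d →
      Orb.hh z (vv z g l x) = Orb.hh z (vv z g l (Orb.root (Orb.ty x))) := fun d => by
    induction d using Nat.strong_induction_on with
    | _ d ih =>
      intro x hx hd
      rcases Orb.tree x hx with e | ⟨h2, h3, h4, h5⟩
      · rw [← e]
      · obtain ⟨n, hn⟩ : ∃ n, Rp z g n (Orb.gc (Orb.gen x)) := by
          unfold Orb.gc
          split_ifs with h6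
          exacts [⟨_, s.rp _ (by omega)⟩, ⟨_, s.q.rp_qv (by norm_num)⟩]
        rw [← h5, ← ih _ (hd ▸ h4) _ h3 rfl, ← Orb.hh_conj hn.1]
        rcases s.conj_lin hn (Orb.gm_ok _ h2) x with e | e <;> rw [e]
        exact Orb.hh_mul s.q.z_sq _
  obtain ⟨h2, -, h3⟩ := Orb.ty_mod x hx
  rw [← h2, ← h1 _ _ (Nat.mod_lt x (by norm_num)) rfl]
  rcases h3 with e | e
  · rw [← e]
  · conv_lhs => rw [e, s.vv_xor_z, Orb.hh_mul s.q.z_sq]

theorem isConj_br {x : ℕ} (hx : x < 2048) (h : br (x / 64 % 16) (x % 64 + 64 * (x / 1024)) = true) :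
    IsConj (vv z g l (64 * (x / 64 % 16))) (vv z g l x) := by
  obtain ⟨y, hy, e⟩ := Orb.br_ok _ (Nat.mod_lt _ (by norm_num)) _ (by omega) h
  have h1 : 64 * (x / 64 % 16) / 64 % 16 = x / 64 % 16 := by omega
  refine isConj_iff.2 ⟨_, s.conj_q (q := 64 * y) (by omega) hx (by omega) h1.symm ?_⟩
  rw [h1, Orb.vq_eq x hx, ← e, Orb.vq_eq _ (by omega), show (64 * (x / 64 % 16) % 64 +
    64 * (64 * (x / 64 % 16) / 1024)) = 0 by omega]

theorem hh_root {t : ℕ} (ht : t = 1 ∨ t = 2 ∨ t = 4) :
    Orb.hh z (vv z g l (Orb.root t)) = 0 ∨ Orb.hh z (vv z g l (Orb.root t)) = 2 := by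
  have h : IsConj (vv z g l (Orb.root t)) (vv z g l (Orb.root t) * z) := by
    rw [← s.vv_xor_z]
    rcases ht with rfl | rfl | rfl
    · exact isConj_iff.2 ⟨_, s.conj_q (q := 64) (by decide) (by decide) (by decide) (by decide) (by decide +kernel)⟩
    · exact isConj_iff.2 ⟨_, s.conj_q (q := 64) (by decide) (by decide) (by decide) (by decide) (by decide +kernel)⟩
    · exact isConj_iff.2 ⟨_, s.conj_q (q := 1280) (by decide) (by decide) (by decide) (by decide) (by decide +kernel)⟩
  unfold Orb.hh
  by_cases h1 : IsConj z (vv z g l (Orb.root t))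
  · right; rw [if_pos h1, if_pos (h1.trans h)]
  · left; rw [if_neg h1, if_neg fun e => h1 (e.trans h.symm)]

theorem hh_zero : Orb.hh z (vv z g l (Orb.root 0)) = 1 := by
  rw [show Orb.root 0 = 0 from rfl, s.vv_zero, Orb.hh, one_mul, if_pos (IsConj.refl z),
    if_neg fun e => s.q.z_ne (isConj_one_left.1 e)]

/-- The number of conjugates of `z` in `V`. -/
theorem ncard_O : {y | y ∈ VG z g l ∧ IsConj z y}.ncard = 1 + 45 * Orb.hh z (vv z g l (Orb.root 1)) +
    18 * Orb.hh z (vv z g l (Orb.root 2)) + 240 * Orb.hh z (vv z g l (Orb.root 3)) +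
    720 * Orb.hh z (vv z g l (Orb.root 4)) := by
  classical
  have h1 : {y | y ∈ VG z g l ∧ IsConj z y} =
      vv z g l '' ((Finset.range (1024 + 1024)).filter fun x => IsConj z (vv z g l x) : Finset ℕ) := by
    ext y
    simp only [Set.mem_ofPred_eq, s.mem_VG, Set.mem_image, Finset.coe_filter, Finset.mem_range]
    exact ⟨fun ⟨⟨a, h1, h2⟩, h3⟩ => ⟨a, ⟨h1, h2 ▸ h3⟩, h2⟩, fun ⟨a, ⟨h1, h3⟩, h2⟩ => ⟨⟨a, h1, h2⟩, h2 ▸ h3⟩⟩
  have h2 : ∀ x < 1024, 1024 + x = x ^^^ 1024 := by decide +kernel
  rw [h1, Set.InjOn.ncard_image fun a ha b hb e => s.vv_inj (Finset.mem_range.1 (Finset.mem_filter.1 ha).1)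
    (Finset.mem_range.1 (Finset.mem_filter.1 hb).1) e, Set.ncard_coe_finset, Finset.card_filter, Finset.sum_range_add _ 1024 1024,
    ← Finset.sum_add_distrib, Finset.sum_congr rfl (g := fun x => Orb.hh z (vv z g l (Orb.root (Orb.ty x))))
      fun x hx => by
        have h3 := Finset.mem_range.1 hx
        rw [← s.hh_eq (by omega), h2 x h3, s.vv_xor_z]; rfl,
    ← Finset.sum_fiberwise_of_maps_to (t := Finset.range 5) (g := Orb.ty) fun x hx => Finset.mem_range.2
      (Orb.ty_mod x (by have := Finset.mem_range.1 hx; omega)).2.1,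
    Finset.sum_congr rfl (g := fun t => List.getD [1, 45, 18, 240, 720] t 0 * Orb.hh z (vv z g l (Orb.root t)))
      fun t ht => by
        rw [← Orb.count t (Finset.mem_range.1 ht), ← smul_eq_mul, ← Finset.sum_const]
        exact Finset.sum_congr rfl fun x hx => by rw [(Finset.mem_filter.1 hx).2]]
  simp [Finset.sum_range_succ, s.hh_zero]

end StX

end Cfsg.Agent.J4T
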