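import Mathlib
import Cfsg.Agent.J4T.OrbA

/-!
Tables for the action of the letters on `V`.
-/

set_option autoImplicit false

namespace Cfsg.Agent.J4T.Sig

open Cfsg.Agent.Spor Cfsg.Agent.Spor.MB Cfsg.Agent.Spor.J4C

/-- The image of generator `j` of `V` under the letter `i` (`i < 6`) or the generator `i` of `Q` (`6 ≤ i < 12`). -/
def tT (i j : ℕ) : ℕ := getP 11 2047 (nat_lit 0x8018608388a8ab0800800800800800c00c5842447c6a04104004004004006002302222c22a82002102002002003001081221211a81001001101001001800802928b00a80800800800900800c004014e8480680400400400400500600740200200200050140481180200700100300100100080200580d001801800c008018008004c1080401000801c00400600400c00200800600400600600200200300200380380100403f02b001001001001001802001802001802) (11 * i + j)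

/-- The code of the action on `Q`. -/
noncomputable def cT (i : ℕ) : ℕ := if i < 6 then cL i else inn (2 ^ i)

/-- The code of the element of `M24`. -/
def pT (i : ℕ) : ℕ := if i < 6 then sL i else beL (i - 6)

theorem tT_lt (i j : ℕ) : tT i j < 2048 := lt_of_le_of_lt Nat.and_le_right (by norm_num)

theorem tT_low : ∀ i < 12, ∀ j < 6, img (cT i) j = vq (tT i j) ∧ tT i j / 64 % 16 = 0 := by decide +kernel

theorem tT_top : ∀ i < 12, tT i 10 = 1024 := by decide +kernel

theorem tT_mid : ∀ i < 12, ∀ j < 10, 6 ≤ j → amul (cT i) (vgc j) = amul (vc (tT i j)) (cT i) ∧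
    dua (tT i j ^^^ 1024) = false ∧ dua (2 ^ j) = true ∧ (tT i j ^^^ 1024) / 64 % 16 = tT i j / 64 % 16 ∧
    ∀ b, oTab (fun _ => b) (tT i j ^^^ 1024) = !oTab (fun _ => b) (tT i j) := by decide +kernel

theorem tT_ne : ∀ i < 12, ∀ j < 11, tT i j ≠ 0 ∧ tT i j ^^^ 1024 < 2048 ∧ (j < 10 → tT i j ^^^ 1024 ≠ 0) := by
  decide +kernel

theorem pT_perm : ∀ i < 12, isPerm (pT i) = true := by decide +kernel

theorem tT_lam : ∀ i < 12, ∀ a < 24,
    linV (tT i) (lamP a) 11 = lamP (ap (pT i) a) ^^^ lamP (ap (pT i) 23) := by decide +kernel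

/-- The image of a generator, with the sign read off from `f`. -/
def tF (f : ℕ → Bool) (i j : ℕ) : ℕ := if oTab f (2 ^ j) = oTab f (tT i j) then tT i j else tT i j ^^^ 1024

/-- The number of pairs of elements outside the class with product `x`. -/
noncomputable def cn (f : ℕ → Bool) (x : ℕ) : ℕ :=
  count2 2048 fun d => band (band (!Nat.beq d 0) (!oTab f d)) (band (!Nat.beq d x) (!oTab f (d ^^^ x)))

/-- The letters that have to be multiplied by `z`. -/
def mF (a b c d : Bool) : ℕ :=
  (if a then 64 else 0) + (if b then 128 else 0) + (if c then 256 else 0) + (if d then 512 else 0)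

theorem mF_spec : ∀ a b c d, 960 &&& mF a b c d = mF a b c d ∧ (mF a b c d).testBit 0 = false ∧
    (∀ j < 11, (mF a b c d).testBit j = true → 6 ≤ j ∧ j < 10) ∧ pb (64 * 1 &&& mF a b c d) 11 = a ∧
    pb (64 * 2 &&& mF a b c d) 11 = b ∧ pb (64 * 4 &&& mF a b c d) 11 = c ∧
    pb (64 * 8 &&& mF a b c d) 11 = d := by decide +kernel

theorem xor_spec : ∀ x < 2048, x &&& 960 = 64 * (x / 64 % 16) ∧ (x / 64 % 16 ≠ 0 → x ^^^ 1024 < 2048 ∧
    x ^^^ 1024 ≠ 0 ∧ (x ^^^ 1024) / 64 % 16 = x / 64 % 16 ∧
    ∀ b, oTab (fun _ => b) (x ^^^ 1024) = oTab (fun _ => !b) x) := by decide +kernel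

/-- The check for one function. -/
noncomputable def chk (f : ℕ → Bool) : Bool := bor (f 1) <| bor (f 2) <| bor (f 4) <| bor (f 8) <|
  bor (!allLt 5 fun i => allLt 15 fun u => oTab f (64 * (u + 1)) == oTab f (linV (tF f (i + 1)) (64 * (u + 1)) 11))
    (bor (!Nat.beq (cn f 1024) (cn f 1088)) (allRange 0 2048 fun x => oTab f x == !dua x))

theorem chk_all : allRange 0 32768 (fun F => chk fun u => F.testBit (u - 1)) = true := by decide +kernel

theorem cnt_O : count2 2048 (fun x => band (!Nat.beq x 0) (!dua x)) = 1771 := by decide +kernel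

end Cfsg.Agent.J4T.Sig
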