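import Mathlib
import Cfsg.Agent.J4T.Unique
import Cfsg.Agent.Spor.MB.Classes
import Cfsg.Agent.GT.Gaschutz
import Cfsg.Agent.GT.PiGroups

/-!
Calculus of lifts to the normaliser of `V`; a complement to `V` in a Sylow 2-subgroup; a section of `σ`.
-/

set_option autoImplicit false
set_option linter.unusedSectionVars false

namespace Cfsg.Agent.J4T.Split

open Cfsg.Agent.Spor Cfsg.Agent.Spor.MB Cfsg.Agent.Spor.J4C Subgroup
open scoped Pointwise

/-- Even masks for the basis of `V`. -/
def bm (k : ℕ) : ℕ := getP 24 16777215 (nat_lit 0x44011104000004800000900000120184001480011480000082000008040028000) k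

/-- An even mask with given `V`-code. -/
def rep (x : ℕ) : ℕ := xorN (fun i => Nat.mul (Nat.land (Nat.shiftRight x i) 1) (bm i)) 11

/-- The action of the permutation with code `c` on `V`-codes. -/
noncomputable def va (c x : ℕ) : ℕ :=
  Spor.force x fun x => Spor.force (rep x) fun m => Spor.force (act c m) lam

theorem va_eq (c x : ℕ) : va c x = lam (act c (rep x)) := rfl

theorem va_lt (c x : ℕ) : va c x < 2048 := lam_lt _

theorem rep_ok {x : ℕ} (hx : x < 2048) : lam (rep x) = x ∧ rep x < 2 ^ 24 ∧ pc (rep x) % 2 = 0 := by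
  have h := allRange_zero (len := 2048) (f := fun x => Spor.force (rep x) fun m =>
    band (Nat.beq (lam m) x) (band (blt m 16777216) (Nat.beq (Nat.land (pc m) 1) 0))) (by decide +kernel) x hx
  simp only [Spor.force_eq, band_iff, nbeq_iff, blt_iff, Nat.land_eq, Nat.and_one_is_mod] at h
  exact h

theorem xor_lt {a b : ℕ} (ha : a < 2048) (hb : b < 2048) : a ^^^ b < 2048 := Nat.xor_lt_two_pow (n := 11) ha hb

/-- The `V`-part of a word in letters `vv (y i) * n i`. -/
noncomputable def cw (c y : ℕ → ℕ) (w : List ℕ) : ℕ :=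
  List.rec 0 (fun i _ ih => Spor.force ih fun r => Spor.force (c i) fun a => Nat.xor (y i) (va a r)) w

theorem cw_cons (c y : ℕ → ℕ) (i : ℕ) (w : List ℕ) : cw c y (i :: w) = y i ^^^ va (c i) (cw c y w) := rfl

theorem sL_ok : ∀ i < 6, inM24 (sL i) = true := by decide +kernel

theorem beL_ok : ∀ i < 6, inM24 (beL i) = true := by decide +kernel

variable {G : Type*} [Group G]

theorem exists_gp {e : ℕ → G} {n : ℕ} (h1 : ∀ i < n, e i * e i = 1) (h2 : ∀ i < n, ∀ j < n, e i * e j = e j * e i)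
    {y : G} (hy : y ∈ genLt e n) : ∃ x < 2 ^ n, gp e x n = y := by
  induction hy using closure_induction with
  | mem y hy =>
    obtain ⟨k, hk, rfl⟩ := hy
    exact ⟨2 ^ k, Nat.pow_lt_pow_right (by norm_num) hk, gp_two_pow e hk⟩
  | one => exact ⟨0, by positivity, gp_zero e n⟩
  | mul a b _ _ ha hb =>
    obtain ⟨x, hx, rfl⟩ := ha
    obtain ⟨y, hy, rfl⟩ := hb
    exact ⟨x ^^^ y, Nat.xor_lt_two_pow hx hy, gp_xor h1 h2 x y⟩
  | inv a _ ha =>
    obtain ⟨x, hx, rfl⟩ := ha
    refine ⟨x, hx, eq_inv_of_mul_eq_one_left ?_⟩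
    rw [← gp_xor h1 h2, Nat.xor_self, gp_zero]

theorem card_genLt_le {e : ℕ → G} {n : ℕ} (h1 : ∀ i < n, e i * e i = 1)
    (h2 : ∀ i < n, ∀ j < n, e i * e j = e j * e i) : Nat.card (genLt e n) ≤ 2 ^ n := by
  have h := Nat.card_le_card_of_surjective
    (fun x : Fin (2 ^ n) => (⟨gp e x n, gp_mem (fun i hi => mem_genLt e hi) x⟩ : genLt e n)) fun y => by
      obtain ⟨x, hx, e⟩ := exists_gp h1 h2 y.2
      exact ⟨⟨x, hx⟩, Subtype.ext e⟩
  simpa using h

theorem card_sup_le [Finite G] {H N : Subgroup G} {a b : ℕ} (h : H ≤ normalizer (N : Set G)) (ha : Nat.card H ≤ a)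
    (hb : Nat.card N ≤ b) : Nat.card ↥(H ⊔ N) ≤ a * b :=
  (Nat.le_of_dvd (Nat.mul_pos Nat.card_pos Nat.card_pos) (GT.card_sup_dvd_of_le_normalizer h)).trans
    (Nat.mul_le_mul ha hb)

theorem card_zpowers_le {x : G} {n : ℕ} (hn : 0 < n) (h : x ^ n = 1) : Nat.card (zpowers x) ≤ n := by
  rw [Nat.card_zpowers]
  exact orderOf_le_of_pow_eq_one hn h

theorem mem_cj {K : Subgroup G} {x y : G} (h : x * y * x⁻¹ ∈ K) : y ∈ K.comap (MulAut.conj x).toMonoidHom := h

theorem mem_norm [Finite G] {K : Subgroup G} {x : G} (h : K ≤ K.comap (MulAut.conj x).toMonoidHom) :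
    x ∈ normalizer (K : Set G) := mem_normalizer_fintype fun _ hn => h hn

/-- The relations of `D8 × 2`. -/
theorem card_le_sixteen [Finite G] {a w b : G} (ha : a * a = 1) (hw : w * w = 1) (hb : b * b = 1)
    (hab : a * b * (a * b) = 1) (hwb : w * b * (w * b) = 1) (haw : a * w * (a * w) * (a * w * (a * w)) = 1) :
    Nat.card ↥(zpowers b ⊔ (zpowers a ⊔ zpowers (a * w))) ≤ 16 := by
  have ia : a⁻¹ = a := inv_eq_of_mul_eq_one_right ha
  have ib : b⁻¹ = b := inv_eq_of_mul_eq_one_right hb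
  have iw : w⁻¹ = w := inv_eq_of_mul_eq_one_right hw
  have e1 : b * a * b⁻¹ = a := by
    rw [ib]
    calc _ = a⁻¹ * (a * b * (a * b)) := by group
      _ = a := by rw [hab, mul_one, ia]
  have e2 : b * w * b⁻¹ = w := by
    rw [ib]
    calc _ = w⁻¹ * (w * b * (w * b)) := by group
      _ = w := by rw [hwb, mul_one, iw]
  refine card_sup_le (a := 2) (b := 8) (zpowers_le.2 (mem_norm (sup_le (zpowers_le.2 ?_) (zpowers_le.2 ?_))))
    (card_zpowers_le (by norm_num) (by rw [sq, hb]))
    (card_sup_le (a := 2) (b := 4) (zpowers_le.2 (mem_norm (zpowers_le.2 ?_)))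
      (card_zpowers_le (by norm_num) (by rw [sq, ha])) (card_zpowers_le (by norm_num) ?_))
  · refine mem_cj ?_
    rw [e1]
    exact mem_sup_left (mem_zpowers a)
  · refine mem_cj ?_
    rw [show b * (a * w) * b⁻¹ = b * a * b⁻¹ * (b * w * b⁻¹) by group, e1, e2]
    exact mem_sup_right (mem_zpowers _)
  · refine mem_cj ?_
    rw [show a * (a * w) * a⁻¹ = (a * w)⁻¹ by rw [← mul_assoc, ha, one_mul, mul_inv_rev, iw]]
    exact inv_mem (mem_zpowers _)
  · rw [← haw]; simp only [pow_succ, pow_zero, one_mul, mul_assoc]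

/-- `h` lies in the normaliser of `V` and has image with code `c`. -/
def Lf {K : Subgroup G} (σ : K →* PG) (h : G) (c : ℕ) : Prop := ∃ n : K, (n : G) = h ∧ code (σ n) = c

namespace Lf

variable {K : Subgroup G} {σ : K →* PG}

theorem mem {h : G} {c : ℕ} (l : Lf σ h c) : h ∈ K := by obtain ⟨n, rfl, -⟩ := l; exact n.2

theorem one : Lf σ 1 idc := ⟨1, rfl, by rw [map_one, code_one]⟩

theorem mul {h k : G} {a b : ℕ} (l : Lf σ h a) (m : Lf σ k b) : Lf σ (h * k) (MB.mul a b) := by
  obtain ⟨n, rfl, rfl⟩ := l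
  obtain ⟨n', rfl, rfl⟩ := m
  exact ⟨n * n', rfl, by rw [map_mul, code_mul]⟩

theorem inv {h : G} {a : ℕ} (l : Lf σ h a) : Lf σ h⁻¹ (MB.inv a) := by
  obtain ⟨n, rfl, rfl⟩ := l
  exact ⟨n⁻¹, rfl, by rw [map_inv, code_inv]⟩

theorem word {e : ℕ → G} {c : ℕ → ℕ} {m : ℕ} (h : ∀ i < m, Lf σ (e i) (c i)) {w : List ℕ}
    (hw : lettersLt m w = true) : Lf σ (evalW e w) (evC c w) := by
  rw [lettersLt_iff] at hw
  induction w with
  | nil => exact one
  | cons x w ih =>
    rw [evalW_cons]
    exact (h x (hw x (by simp))).mul (ih fun y hy => hw y (by simp [hy]))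

end Lf

theorem valN_evC (ψ : M24 →* G) {c : ℕ → ℕ} {m : ℕ} (h : ∀ i < m, inM24 (c i) = true) {w : List ℕ}
    (hw : lettersLt m w = true) : okN (evC c w) ∧ valN ψ (evC c w) = evalW (fun i => valN ψ (c i)) w := by
  rw [lettersLt_iff] at hw
  induction w with
  | nil => exact ⟨okN_idc, valN_one ψ⟩
  | cons x w ih =>
    have h1 := ih fun y hy => hw y (by simp [hy])
    have h2 := valN_mul ψ (okN_of (h x (hw x (by simp)))) h1.1
    rw [evalW_cons, ← h1.2]
    exact h2

/-- `ψ` is a section of `σ`. -/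
def Sec {K : Subgroup G} (σ : K →* PG) (ψ : M24 →* G) : Prop := ∀ x : M24, Lf σ (ψ x) (code x)

theorem Sec.val {K : Subgroup G} {σ : K →* PG} {ψ : M24 →* G} (h : Sec σ ψ) {c : ℕ} (hc : okN c) :
    Lf σ (valN ψ c) c := by
  obtain ⟨x, hx, rfl⟩ := hc
  rw [valN_code, ext_of_mem ψ hx]
  exact h ⟨x, hx⟩

/-- The check that the square of a word is trivial. -/
noncomputable def sqOK (w : List ℕ) : Bool :=
  band (lettersLt 6 w) <| band (lettersLt 11 w) <| Spor.force (evC sL w) fun c => band (Nat.beq (mul c c) idc) <|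
    band (Nat.beq (Spor.force (aev cL w) fun a => amul a a) aid) <|
      allRange 0 2048 fun y => !Nat.beq (Nat.xor y (va c y)) 1024

/-- The check that a word normalises the span of the last six generators. -/
noncomputable def nrmOK (c : ℕ) : Bool :=
  Spor.force c fun c => allLt 6 fun k => band (Nat.beq (Nat.land (img c (k + 6)) 63) 0) (blt (img c (k + 6)) 4096)

variable [Finite G] {z : G} {g l : ℕ → G} {π : centralizer ({z} : Set G) →* PG}
  {σ : normalizer (VG z g l : Set G) →* PG} (s : StS z π g l σ)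

include s

theorem vv_mem (x : ℕ) : vv z g l x ∈ VG z g l := gp_mem (fun _ hi => mem_genLt _ hi) x

theorem vv_zero : vv z g l 0 = 1 := gp_zero _ _

theorem vv_sq (x : ℕ) : vv z g l x * vv z g l x = 1 := by rw [← s.o.x.vv_xor, Nat.xor_self, vv_zero s]

theorem vv_comm (x y : ℕ) : vv z g l x * vv z g l y = vv z g l y * vv z g l x := by
  rw [← s.o.x.vv_xor, ← s.o.x.vv_xor, Nat.xor_comm]

theorem lf_V {v : G} (hv : v ∈ VG z g l) : Lf σ v idc :=
  ⟨⟨v, le_normalizer hv⟩, rfl, eq_one_iff_code.1 ((s.ker _).2 hv)⟩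

theorem lf_l {i : ℕ} (hi : i < 6) : Lf σ (l i) (sL i) := by
  have h : l i ∈ centralizer ({z} : Set G) ⊓ normalizer (VG z g l : Set G) := by
    rw [s.o.x.A_eq]
    exact mem_sup_right (mem_genLt l (by omega))
  exact ⟨⟨l i, h.2⟩, rfl, by rw [s.sl i hi _ rfl, code_toPerm' (sL_ok i hi)]⟩

theorem lf_g {k : ℕ} (hk : k < 6) : Lf σ (g (k + 6)) (beL k) := by
  have h : g (k + 6) ∈ centralizer ({z} : Set G) ⊓ normalizer (VG z g l : Set G) := by
    rw [s.o.x.A_eq]
    exact mem_sup_left (mem_genLt g (by omega))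
  exact ⟨⟨g (k + 6), h.2⟩, rfl, by rw [s.be k hk _ rfl, code_toPerm' (beL_ok k hk)]⟩

theorem lf_ok {h : G} {c : ℕ} (hl : Lf σ h c) : okN c := by
  obtain ⟨n, -, rfl⟩ := hl
  exact ⟨σ n, s.range ▸ ⟨n, rfl⟩, rfl⟩

theorem lf_exists {c : ℕ} (hc : okN c) : ∃ h, Lf σ h c := by
  obtain ⟨x, hx, rfl⟩ := hc
  rw [← s.range] at hx
  obtain ⟨n, rfl⟩ := hx
  exact ⟨n, n, rfl, rfl⟩

theorem lf_act {h : G} {c : ℕ} (hl : Lf σ h c) {x : ℕ} (hx : x < 2048) :
    h * vv z g l x * h⁻¹ = vv z g l (va c x) := by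
  obtain ⟨n, rfl, rfl⟩ := hl
  obtain ⟨h1, h2, h3⟩ := rep_ok hx
  have h4 := s.act n (unmask (rep x)) (by rw [card_unmask, Nat.even_iff, h3])
  rwa [ZG, ZG, mask_smul, mask_unmask h2, h1] at h4

theorem lf_act' {h : G} {c : ℕ} (hl : Lf σ h c) {x : ℕ} (hx : x < 2048) :
    h * vv z g l x = vv z g l (va c x) * h := by rw [← lf_act s hl hx, inv_mul_cancel_right]

theorem lf_diff {h k : G} {c : ℕ} (h1 : Lf σ h c) (h2 : Lf σ k c) : ∃ y < 2048, h = vv z g l y * k := by
  obtain ⟨n, rfl, rfl⟩ := h1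
  obtain ⟨n', rfl, e⟩ := h2
  have h3 : σ (n * n'⁻¹) = 1 := by rw [map_mul, map_inv, code_injective e, mul_inv_cancel]
  obtain ⟨y, hy, e⟩ := s.o.x.mem_VG.1 ((s.ker _).1 h3)
  exact ⟨y, hy, by rw [e]; simp⟩

theorem lf_vv {h : G} {c : ℕ} (hl : Lf σ h c) (y : ℕ) : Lf σ (vv z g l y * h) c := by
  have h1 := (lf_V s (vv_mem s y)).mul hl
  obtain ⟨x, -, rfl⟩ := lf_ok s hl
  rwa [← code_one, ← code_mul, one_mul] at h1

theorem lf_vv' {h : G} {c : ℕ} (hl : Lf σ h c) (y : ℕ) : Lf σ (h * vv z g l y) c := by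
  have h1 := hl.mul (lf_V s (vv_mem s y))
  obtain ⟨x, -, rfl⟩ := lf_ok s hl
  rwa [← code_one, ← code_mul, mul_one] at h1

theorem evalW_vv {n : ℕ → G} {c y : ℕ → ℕ} {m : ℕ} (h : ∀ i < m, Lf σ (n i) (c i)) (hy : ∀ i < m, y i < 2048)
    {w : List ℕ} (hw : lettersLt m w = true) :
    cw c y w < 2048 ∧ evalW (fun i => vv z g l (y i) * n i) w = vv z g l (cw c y w) * evalW n w := by
  rw [lettersLt_iff] at hw
  induction w with
  | nil => exact ⟨(by norm_num : 0 < 2048), by rw [show cw c y [] = 0 from rfl, vv_zero s]; simp⟩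
  | cons x w ih =>
    have h1 := ih fun y hy => hw y (by simp [hy])
    have h2 := hw x (by simp)
    refine ⟨xor_lt (hy x h2) (va_lt _ _), ?_⟩
    rw [evalW_cons, evalW_cons, h1.2, cw_cons, s.o.x.vv_xor, mul_assoc, ← mul_assoc (n x), lf_act' s (h x h2) h1.1]
    simp only [mul_assoc]

theorem invol_conj {k c : ℕ} (hk : okN k) (h : ∃ e, e * e = 1 ∧ Lf σ e c) : ∃ e, e * e = 1 ∧ Lf σ e (cj k c) := by
  obtain ⟨e, h1, h2⟩ := h
  obtain ⟨n, hn⟩ := lf_exists s hk
  refine ⟨n * e * n⁻¹, ?_, (hn.mul h2).mul hn.inv⟩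
  calc _ = n * (e * e) * n⁻¹ := by group
    _ = 1 := by rw [h1]; group

/-- Every involution of `M24` lifts to an involution. -/
theorem exists_invol {x : PG} (hx : x ∈ M24) (h2 : x * x = 1) : ∃ e, e * e = 1 ∧ Lf σ e (code x) := by
  by_cases h1 : x = 1
  · exact ⟨1, mul_one _, by rw [h1, code_one]; exact Lf.one⟩
  have := Nat.fact_prime_two
  rcases involution_classes hx (orderOf_eq_prime (by rw [sq, h2]) h1) with ⟨k, hk, rfl⟩ | ⟨k, hk, rfl⟩
  · rw [code_conj, code_zA]
    refine invol_conj s ⟨k, hk, rfl⟩ ?_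
    rw [show 972512676110088067912772961567868960 = cj 807690117934700211121469979492864192 (beL 0) by
      decide +kernel]
    exact invol_conj s (okN_of (by decide +kernel)) ⟨g 6, s.o.x.q.sq 6 (by norm_num), lf_g s (k := 0) (by norm_num)⟩
  · rw [code_conj, code_zB]
    refine invol_conj s ⟨k, hk, rfl⟩ ?_
    rw [show 89053301974695481301600181090966529 = cj 266962792553839085118275249882881263 (mul (beL 1) (beL 2)) by
      decide +kernel]
    refine invol_conj s (okN_of (by decide +kernel))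
      ⟨g 7 * g 8, ?_, (lf_g s (k := 1) (by norm_num)).mul (lf_g s (k := 2) (by norm_num))⟩
    rw [mul_assoc, ← mul_assoc (g 8), s.o.x.q.comm 8 (by norm_num) 7 (by norm_num) (by norm_num), mul_assoc,
      s.o.x.q.sq 8 (by norm_num), mul_one, s.o.x.q.sq 7 (by norm_num)]

theorem sq_eq {h : G} {c : ℕ} (hl : Lf σ h c) (hc : mul c c = idc) :
    ∃ y < 2048, h * h = vv z g l (y ^^^ va c y) := by
  obtain ⟨x, hx, rfl⟩ := lf_ok s hl
  obtain ⟨e, h1, h2⟩ := exists_invol s hx (by rw [eq_one_iff_code, code_mul, hc])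
  obtain ⟨y, hy, rfl⟩ := lf_diff s hl h2
  refine ⟨y, hy, ?_⟩
  rw [s.o.x.vv_xor, mul_assoc, ← mul_assoc e, lf_act' s h2 hy, mul_assoc, h1, mul_one]

theorem sq_one {w : List ℕ} (h : sqOK w = true) : evalW l w * evalW l w = 1 := by
  simp only [sqOK, Spor.force_eq, band_iff, nbeq_iff] at h
  obtain ⟨h1, h2, h3, h4, h5⟩ := h
  have h6 := s.o.x.q.rp_word s.o.x.rp h2
  have h7 := s.o.x.q.rp_mul h6 h6
  rw [h4] at h7
  refine (s.o.x.st.rp_eq_one_or s.o.x.q h7).resolve_right fun h8 => ?_
  obtain ⟨y, hy, e⟩ := sq_eq s (Lf.word (fun i hi => lf_l s hi) h1) h3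
  replace e := (s.o.x.vv_z.trans h8.symm).trans e
  have h9 := allRange_zero h5 y hy
  rw [Bool.not_eq_true', ← Bool.not_eq_true, nbeq_iff] at h9
  exact h9 (s.o.x.vv_inj (by norm_num) (xor_lt hy (va_lt _ _)) e).symm

omit s [Finite G] in
theorem qv_mem_E {x : ℕ} (h1 : Nat.land x 63 = 0) (h2 : x < 4096) : qv z g x ∈ genLt (fun k => g (k + 6)) 6 := by
  have h3 : gp g x 6 = 1 := by
    rw [← gp_zero g 6]
    refine gp_bits g fun i hi => ?_
    have h4 : x % 2 ^ 6 = 0 := by rw [← Nat.and_two_pow_sub_one_eq_mod]; exact h1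
    have h5 := Nat.testBit_mod_two_pow x 6 i
    rw [h4] at h5
    simpa [hi] using h5.symm
  rw [qv, Nat.testBit_lt_two_pow (i := 12) h2, show 12 = 6 + 6 from rfl, gp_add, h3]
  simpa using gp_mem (fun i hi => mem_genLt (fun k => g (k + 6)) hi) _

theorem norm_E {h : G} {c : ℕ} (hr : Rp z g h c) (hc : nrmOK c = true) :
    h ∈ normalizer (genLt (fun k => g (k + 6)) 6 : Set G) := by
  refine mem_norm (genLt_le fun k hk => ?_)
  rw [nrmOK, Spor.force_eq] at hc
  have h1 := (allLt_iff _ _).1 hc k hk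
  rw [band_iff, nbeq_iff, blt_iff] at h1
  refine mem_cj ?_
  rw [hr.2.2 _ (by omega)]
  exact qv_mem_E h1.1 h1.2

theorem card_E : Nat.card (genLt (fun k => g (k + 6)) 6) ≤ 64 := by
  refine card_genLt_le (fun i hi => s.o.x.q.sq _ (by omega)) fun i hi j hj => ?_
  rcases lt_trichotomy i j with h | rfl | h
  · exact (s.o.x.q.comm _ (by omega) _ (by omega) (by omega)).symm
  · rfl
  · exact s.o.x.q.comm _ (by omega) _ (by omega) (by omega)

/-- A complement to `V` in a Sylow 2-subgroup of the normaliser. -/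
theorem exists_compl : ∃ C : Subgroup (normalizer (VG z g l : Set G)), Nat.card C ≤ 1024 ∧
    1024 ≤ Nat.card (C.map σ) := by
  have ha := sq_one s (w := [1]) (by decide +kernel)
  have hb := sq_one s (w := [5]) (by decide +kernel)
  have hw := sq_one s (w := [2, 1, 3, 2]) (by decide +kernel)
  have hab := sq_one s (w := [1] ++ [5]) (by decide +kernel)
  have hwb := sq_one s (w := [2, 1, 3, 2] ++ [5]) (by decide +kernel)
  have haw := sq_one s (w := [1] ++ [2, 1, 3, 2] ++ ([1] ++ [2, 1, 3, 2])) (by decide +kernel)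
  simp only [evalW_append] at hab hwb haw
  have h16 := card_le_sixteen ha hw hb hab hwb haw
  have rw : ∀ w, lettersLt 11 w = true → nrmOK (aev cL w) = true →
      evalW l w ∈ normalizer (genLt (fun k => g (k + 6)) 6 : Set G) := fun w h1 h2 =>
    norm_E s (s.o.x.q.rp_word s.o.x.rp h1) h2
  have na := rw [1] (by decide +kernel) (by decide +kernel)
  have nb := rw [5] (by decide +kernel) (by decide +kernel)
  have nw := rw [2, 1, 3, 2] (by decide +kernel) (by decide +kernel)
  have la := Lf.word (fun i hi => lf_l s hi) (w := [1]) (by decide +kernel)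
  have lb := Lf.word (fun i hi => lf_l s hi) (w := [5]) (by decide +kernel)
  have lw := Lf.word (fun i hi => lf_l s hi) (w := [2, 1, 3, 2]) (by decide +kernel)
  generalize evalW l [1] = a at *
  generalize evalW l [5] = b at *
  generalize evalW l [2, 1, 3, 2] = w at *
  have hc := card_sup_le (sup_le (zpowers_le.2 nb) (sup_le (zpowers_le.2 na) (zpowers_le.2 (mul_mem na nw)))) h16
    (card_E s)
  set C := zpowers b ⊔ (zpowers a ⊔ zpowers (a * w)) ⊔ genLt (fun k => g (k + 6)) 6 with hC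
  have hle : C ≤ normalizer (VG z g l : Set G) :=
    sup_le (sup_le (zpowers_le.2 lb.mem) (sup_le (zpowers_le.2 la.mem) (zpowers_le.2 (mul_mem la.mem lw.mem))))
      (genLt_le fun k hk => (lf_g s hk).mem)
  refine ⟨C.subgroupOf _, by rwa [Nat.card_congr (subgroupOfEquivOfLe hle).toEquiv], ?_⟩
  have key : ∀ {h c}, h ∈ C → Lf σ h c → ∃ x ∈ (C.subgroupOf (normalizer (VG z g l : Set G))).map σ, code x = c := by
    rintro h c hh ⟨n, rfl, rfl⟩
    exact ⟨σ n, mem_map_of_mem σ hh, rfl⟩
  have ma : a ∈ C := mem_sup_left (mem_sup_right (mem_sup_left (mem_zpowers a)))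
  have mw : w ∈ C := by
    have : a * w ∈ C := mem_sup_left (mem_sup_right (mem_sup_right (mem_zpowers _)))
    simpa using C.mul_mem (C.inv_mem ma) this
  have me : ∀ k < 6, ∃ x ∈ (C.subgroupOf (normalizer (VG z g l : Set G))).map σ, code x = beL k := fun k hk =>
    key (mem_sup_right (mem_genLt (fun k => g (k + 6)) hk)) (lf_g s hk)
  refine le_card_of_walk (gs := [beL 0, beL 1, beL 2, beL 3, beL 4, beL 5, evC sL [1], evC sL [5],
    evC sL [2, 1, 3, 2]]) ?_ 1024 1151 (nat_lit 0x12131214121312151213121412131216121312141213121512131214121312171213121412131215121312141213121612131214121312151213121412131218121312141213121512131214121312161213121412131215121312141213121712131214121312151213121412131216121312141213121512131214121312190000000000000000000000000000000000000000000000000000000000000000121312141213121512131214121312161213121412131215121312141213121712131214121312151213121412131216121312141213121512131214121312181213121412131215121312141213121612131214121312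151213121412131217121312141213121512131214121312161213121412131215121312141213121900000000000000000000000000000000000000000000000000000000000000001213121412131215121312141213121612131214121312151213121412131217121312141213121512131214121312161213121412131215121312141213121812131214121312151213121412131216121312141213121512131214121312171213121412131215121312141213121612131214121312151213121412131219121312141213121512131214121312161213121412131215121312141213121712131214121312151213121412131216121312141213121512131214121312181213121412131215121312141213121612131214121312151213121412131217121312141213121512131214121312161213121412131215121312141213121) (by decide +kernel)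
  intro c hc
  simp only [List.mem_cons, List.not_mem_nil, or_false] at hc
  rcases hc with rfl | rfl | rfl | rfl | rfl | rfl | rfl | rfl | rfl
  exacts [me 0 (by norm_num), me 1 (by norm_num), me 2 (by norm_num), me 3 (by norm_num), me 4 (by norm_num),
    me 5 (by norm_num), key ma la, key (mem_sup_left (mem_sup_left (mem_zpowers b))) lb, key mw lw]

/-- The normaliser of `V` splits. -/
theorem exists_sec : ∃ ψ : M24 →* G, Sec σ ψ := by
  obtain ⟨C, h1, h2⟩ := exists_compl s
  have hb := (σ.subgroupMap_surjective C).bijective_of_nat_card_le (h1.trans h2)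
  have h3 : C ⊓ σ.ker = ⊥ := by
    refine (eq_bot_iff_forall _).2 fun x hx => ?_
    have h4 : σ.subgroupMap C ⟨x, hx.1⟩ = σ.subgroupMap C 1 := Subtype.ext (by simpa using hx.2)
    exact congrArg Subtype.val (hb.1 h4)
  have h4 : Nat.card (C.map σ) = 1024 := le_antisymm ((Nat.card_eq_of_bijective _ hb).symm.le.trans h1) h2
  have h5 : C.map σ ≤ M24 := s.range ▸ map_le_range σ C
  have h6 : (σ.ker ⊔ C).index = 239085 := by
    rw [sup_comm, ← comap_map_eq, index_comap, s.range]
    have h7 := ((C.map σ).subgroupOf M24).card_mul_index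
    rw [Nat.card_congr (subgroupOfEquivOfLe h5).toEquiv, h4, card_M24] at h7
    unfold relIndex
    omega
  have h7 : σ.ker = (VG z g l).subgroupOf _ := by
    ext n
    rw [MonoidHom.mem_ker, s.ker, mem_subgroupOf]
  have h8 : Nat.card σ.ker = 2 ^ 11 := by
    rw [h7, Nat.card_congr (subgroupOfEquivOfLe le_normalizer).toEquiv, s.o.x.card_V]
  have : IsMulCommutative σ.ker := ⟨⟨fun a b => Subtype.ext (Subtype.ext (by
    obtain ⟨x, -, e1⟩ := s.o.x.mem_VG.1 ((s.ker _).1 a.2)
    obtain ⟨y, -, e2⟩ := s.o.x.mem_VG.1 ((s.ker _).1 b.2)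
    change ((a : normalizer (VG z g l : Set G)) : G) * (b : normalizer (VG z g l : Set G)) =
      ((b : normalizer (VG z g l : Set G)) : G) * (a : normalizer (VG z g l : Set G))
    rw [← e1, ← e2, vv_comm s]))⟩⟩
  obtain ⟨H, hH⟩ := GT.gaschutz_exists σ.ker (σ.ker ⊔ C) (by rw [h8, h6]; norm_num) C h3 rfl
  let φ : H →* M24 := (σ.comp H.subtype).codRestrict M24 fun x => s.range ▸ ⟨x, rfl⟩
  have hφ : Function.Bijective φ := by
    refine ⟨(injective_iff_map_eq_one φ).2 fun x hx => ?_, fun y => ?_⟩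
    · have h9 : (x : normalizer (VG z g l : Set G)) ∈ σ.ker ⊓ H := ⟨congrArg Subtype.val hx, x.2⟩
      rw [hH.disjoint.eq_bot] at h9
      exact Subtype.ext h9
    · obtain ⟨n, hn⟩ : (y : PG) ∈ σ.range := by rw [s.range]; exact y.2
      obtain ⟨⟨k, x⟩, rfl⟩ := hH.2 n
      refine ⟨x, Subtype.ext ?_⟩
      change σ x = y
      rw [← hn, map_mul, show σ k = 1 from k.2, one_mul]
  refine ⟨(Subgroup.subtype _).comp (H.subtype.comp (MulEquiv.ofBijective φ hφ).symm.toMonoidHom), fun x => ?_⟩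
  refine ⟨((MulEquiv.ofBijective φ hφ).symm x : H), rfl, congrArg code ?_⟩
  exact congrArg Subtype.val ((MulEquiv.ofBijective φ hφ).apply_symm_apply x)

end Cfsg.Agent.J4T.Split
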