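import Mathlib
import Cfsg.Agent.J4T.Elev
import Cfsg.Agent.J4T.Odd
import Cfsg.Agent.J4T.LocA

/-!
The Sylow subgroups for the primes 29, 31, 37 and 43.
-/

set_option autoImplicit false

namespace Cfsg.Agent.J4T

open Cfsg.Agent.Spor Cfsg.Agent.Spor.MB Cfsg.Agent.Spor.J4C Subgroup Cfsg.Agent.Inv.Fz MulAction Cfsg.Agent.Rec

variable {G : Type*} [Group G]

theorem exists_comm_of_dvd [Finite G] {y : G} {p : ℕ} (hp : p.Prime) (h : p ∣ Nat.card (centralizer ({y} : Set G))) :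
    ∃ x : G, orderOf x = p ∧ orderOf y ∣ Nat.card (centralizer ({x} : Set G)) := by
  have := Fact.mk hp
  obtain ⟨x, hx⟩ := exists_prime_orderOf_dvd_card' p h
  exact ⟨x, by rw [orderOf_coe, hx], orderOf_dvd_natCard _ (mem_cen.2 (mem_cen.1 x.2).symm)⟩

theorem isSylIn_zpowers [Finite G] {p m : ℕ} [Fact p.Prime] (hG : Nat.card G = m * p) (hm : ¬ p ∣ m) {x : G}
    (hx : orderOf x = p) : IsSylIn p (zpowers x) ⊤ :=
  isSylIn_of_card (k := 1) (m := m) le_top (by rw [Nat.card_zpowers, hx, pow_one])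
    (by rw [card_top, hG, pow_one, mul_comm]) hm

theorem card_cent_of_syl [Finite G] {p m : ℕ} [Fact p.Prime] (hG : Nat.card G = m * p) (hm : ¬ p ∣ m)
    (h : ∀ U : Sylow p G, centralizer ((U : Subgroup G) : Set G) = U) {x : G} (hx : orderOf x = p) :
    Nat.card (centralizer ({x} : Set G)) = p := by
  rw [← cent_zpowers, show centralizer (zpowers x : Set G) = zpowers x from h (isSylIn_zpowers hG hm hx).toSylowTop,
    Nat.card_zpowers, hx]

/-- The divisors of `11 * 29 * 31 * 37 * 43`. -/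
def divL : List ℕ := [1, 11, 29, 31, 37, 43, 319, 341, 407, 473, 899, 1073, 1147, 1247, 1333, 1591,
  9889, 11803, 12617, 13717, 14663, 17501, 33263, 38657, 46139, 49321, 365893, 425227, 507529, 542531, 1430309, 15733399]

theorem mem_divL {c : ℕ} (h : c ∣ 11 * (29 * (31 * (37 * 43)))) : c ∈ divL := by
  obtain ⟨a1, _, h1, k1, rfl⟩ := Nat.dvd_mul.1 h
  obtain ⟨a2, _, h2, k2, rfl⟩ := Nat.dvd_mul.1 k1
  obtain ⟨a3, _, h3, k3, rfl⟩ := Nat.dvd_mul.1 k2
  obtain ⟨a4, a5, h4, h5, rfl⟩ := Nat.dvd_mul.1 k3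
  rw [Nat.dvd_prime (by norm_num)] at h1 h2 h3 h4 h5
  rcases h1 with rfl | rfl <;> rcases h2 with rfl | rfl <;> rcases h3 with rfl | rfl <;> rcases h4 with rfl | rfl <;>
    rcases h5 with rfl | rfl <;> decide

namespace StJ

variable [Finite G] {z : G} {g l : ℕ → G} {π : centralizer ({z} : Set G) →* PG} {ψ : M24 →* G} (s : StJ z π g l ψ)

include s

theorem card_cent23 {x : G} (hx : orderOf x = 23) : Nat.card (centralizer ({x} : Set G)) = 23 := by
  have : Fact (Nat.Prime 23) := ⟨by norm_num⟩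
  exact card_cent_of_syl (m := 3772850915046850560) s.card (by norm_num) (fun U => (s.syl23 U).1) hx

theorem card_cent2_dvd {x : G} (hx : orderOf x = 2) : Nat.card (centralizer ({x} : Set G)) ∣ 501397585920 := by
  rcases s.cls x (by rw [← sq, ← hx, pow_orderOf_eq_one]) (fun h => by simp [h] at hx) with h | h
  · rw [← Syl.card_centralizer_conj h, s.x.card_H]
    norm_num
  · rw [← Syl.card_centralizer_conj h, ← s.card_NV, ← vv_letter z g l (k := 6) le_rfl (by norm_num)]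
    exact card_dvd_of_le (s.cd _ (by norm_num) (by decide +kernel))

theorem cent_mem_divL {y : G} {r : ℕ} (hp : r.Prime) (hy : orderOf y = r) (hr : ¬ r ∣ 501397585920) :
    Nat.card (centralizer ({y} : Set G)) ∈ divL := by
  have : Fact (Nat.Prime 11) := ⟨by norm_num⟩
  have h1 : ∀ {p : ℕ}, p.Prime → (∀ x : G, orderOf x = p → Nat.card (centralizer ({x} : Set G)) ∣ 501397585920) →
      (Nat.card (centralizer ({y} : Set G))).Coprime p := fun hp h => ((Nat.Prime.coprime_iff_not_dvd hp).2 fun k => by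
    obtain ⟨x, k1, k2⟩ := exists_comm_of_dvd hp k
    exact hr (hy ▸ k2.trans (h x k1))).symm
  have h2 := card_subgroup_dvd_card (centralizer ({y} : Set G))
  rw [s.card, show 86775571046077562880 = 2 ^ 21 * (3 ^ 3 * (5 * (7 * (23 * (11 ^ 3 * (29 * (31 * (37 * 43))))))))
    by norm_num, ((h1 Nat.prime_two fun x => s.card_cent2_dvd).pow_right _).dvd_mul_left,
    ((h1 Nat.prime_three fun x hx => by rw [s.card_cent3 hx]; norm_num).pow_right _).dvd_mul_left,
    (h1 Nat.prime_five fun x hx => by rw [s.card_cent5 hx]; norm_num).dvd_mul_left,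
    (h1 (p := 7) (by norm_num) fun x hx => by rw [s.card_cent7 hx]; norm_num).dvd_mul_left,
    (h1 (p := 23) (by norm_num) fun x hx => by rw [s.card_cent23 hx]; norm_num).dvd_mul_left] at h2
  obtain ⟨c1, c2, h3, h4, h5⟩ := Nat.dvd_mul.1 h2
  obtain ⟨k, -, rfl⟩ := (Nat.dvd_prime_pow this.out).1 h3
  refine mem_divL (h5 ▸ mul_dvd_mul ((pow_dvd_pow 11 (not_lt.1 fun hk => ?_)).trans (pow_one 11).dvd) h4)
  obtain ⟨W, hW⟩ := Sylow.exists_subgroup_card_pow_prime (G := centralizer ({y} : Set G)) 11 (n := 2)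
    ((pow_dvd_pow 11 hk).trans ⟨c2, h5.symm⟩)
  obtain ⟨U, hU⟩ := ((IsPGroup.of_card hW).map (centralizer ({y} : Set G)).subtype).exists_le_sylow
  obtain ⟨a, b, c, u, h, w, n, e, k1, k2⟩ := s.exists_e11_syl U
  obtain ⟨-, k3, -, k4⟩ := e.main s.not_dvd_eleven k1
  have k5 : W.map (centralizer ({y} : Set G)).subtype ≤ zpowers a := by
    rintro _ ⟨x, hx, rfl⟩
    refine (k4 _ (k2 ▸ hU ⟨x, hx, rfl⟩)).resolve_right fun ⟨j, _, hj⟩ => hr ?_
    have k6 := orderOf_dvd_natCard (centralizer ({(x : G)} : Set G)) (mem_cen.2 (mem_cen.1 x.2).symm)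
    have k7 : IsConj b (x : G) := isConj_iff.2 ⟨j, hj.symm⟩
    rw [← Syl.card_centralizer_conj k7, k3, hy] at k6
    exact ((hp.dvd_mul (m := 2 * 11) (n := 11)).1 k6).elim (fun k => k.trans (by norm_num))
      fun k => k.trans (by norm_num)
  have k6 := card_le_of_le k5
  rw [card_map_of_injective Subtype.val_injective, hW, Nat.card_zpowers, e.ord_a] at k6
  norm_num at k6

theorem syl_big {r m0 k j0 : ℕ} [Fact r.Prime] (hG : 86775571046077562880 = m0 * r) (hm : ¬ r ∣ m0)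
    (hr : ¬ r ∣ 501397585920) (h : ∃ y n : G, orderOf y = r ∧ n * y * n⁻¹ = y ^ k)
    (hj : ∀ j < r, k ^ j % r = 1 % r → j0 ∣ j) (U : Sylow r G) : ∃ (y : G) (m : ℕ), orderOf y = r ∧
      zpowers y = U ∧ Nat.card (normalizer ((U : Subgroup G) : Set G)) = m * Nat.card (centralizer ({y} : Set G)) ∧
      Nat.card (centralizer ({y} : Set G)) ∈ divL ∧ r ∣ Nat.card (centralizer ({y} : Set G)) ∧ m < r ∧ m ∣ r - 1 ∧
      j0 ∣ m ∧ 86775571046077562880 / (m * Nat.card (centralizer ({y} : Set G))) % r = 1 := by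
  obtain ⟨y, n, h1, h2, h3⟩ := Syl.exists_gen (s.card.trans hG) hm U h
  obtain ⟨m, k1, k2, -, k3, -⟩ := Syl.exists_automizer h1
  obtain ⟨j, k4, k5⟩ := k3 n k h2
  have h4 := (Fact.out : r.Prime).two_le
  have h5 := Nat.le_of_dvd (by omega) k1
  have h6 := Nat.le_of_dvd (by omega) (k4.trans k1)
  obtain ⟨q, h7, h8⟩ := Lc.exists_mul_modEq (isSylIn_zpowers (s.card.trans hG) hm h1)
  rw [cent_zpowers] at k2
  rw [top_inf_eq, k2, card_top, s.card] at h8
  refine ⟨y, m, h1, h3, h3 ▸ k2, s.cent_mem_divL Fact.out h1 hr, h1 ▸ orderOf_dvd_natCard _ (mem_cen.2 rfl), by omega,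
    k1, (hj j (by omega) k5).trans k4, ?_⟩
  rw [← h8, Nat.mul_div_cancel_left _ (Nat.pos_of_ne_zero fun e => by simp [e] at h8), h7]

end StJ

theorem self_of_card [Finite G] {y : G} {U : Subgroup G} (h : zpowers y = U)
    (hc : Nat.card (centralizer ({y} : Set G)) = orderOf y) : centralizer (U : Set G) = U := by
  subst h
  rw [cent_zpowers]
  exact (eq_of_le_of_card_ge (zpowers_le.2 (mem_cen.2 rfl)) (by rw [hc, Nat.card_zpowers])).symm

namespace StJ

variable [Finite G] {z : G} {g l : ℕ → G} {π : centralizer ({z} : Set G) →* PG} {ψ : M24 →* G} (s : StJ z π g l ψ)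

include s

theorem syl31 (U : Sylow 31 G) : centralizer ((U : Subgroup G) : Set G) = U ∧
    Nat.card (normalizer ((U : Subgroup G) : Set G)) = 31 * 10 := by
  have : Fact (Nat.Prime 31) := ⟨by norm_num⟩
  obtain ⟨e, -⟩ := s.exists_equiv
  obtain ⟨y, m, h1, h2, h3, h4, h5, h6, h7, h8, h9⟩ := s.syl_big (m0 := 2799211969228308480) (j0 := 10) (by norm_num)
    (by norm_num) (by norm_num) (exists_31 e) (by decide) U
  have h : ∀ c ∈ divL, ∀ m < 31, 31 ∣ c → m ∣ 31 - 1 → 10 ∣ m → 86775571046077562880 / (m * c) % 31 = 1 →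
      (c = 31 ∧ m = 10) := by decide +kernel
  obtain ⟨k1, k2⟩ := h _ h4 m h6 h5 h7 h8 h9
  exact ⟨self_of_card h2 (h1 ▸ k1), by rw [h3, k1, k2]⟩

theorem card_cent31 {x : G} (hx : orderOf x = 31) : Nat.card (centralizer ({x} : Set G)) = 31 := by
  have : Fact (Nat.Prime 31) := ⟨by norm_num⟩
  exact card_cent_of_syl (m := 2799211969228308480) s.card (by norm_num) (fun U => (s.syl31 U).1) hx

theorem syl37 (U : Sylow 37 G) : centralizer ((U : Subgroup G) : Set G) = U ∧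
    Nat.card (normalizer ((U : Subgroup G) : Set G)) = 37 * 12 := by
  have : Fact (Nat.Prime 37) := ⟨by norm_num⟩
  obtain ⟨e, -⟩ := s.exists_equiv
  obtain ⟨y, m, h1, h2, h3, h4, h5, h6, h7, h8, h9⟩ := s.syl_big (m0 := 2345285703948042240) (j0 := 12) (by norm_num)
    (by norm_num) (by norm_num) (exists_37 e) (by decide) U
  have h : ∀ c ∈ divL, ∀ m < 37, 37 ∣ c → m ∣ 37 - 1 → 12 ∣ m → 86775571046077562880 / (m * c) % 37 = 1 →
      (c = 37 ∧ m = 12) ∨ 31 ∣ c := by decide +kernel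
  rcases h _ h4 m h6 h5 h7 h8 h9 with ⟨k1, k2⟩ | k
  · exact ⟨self_of_card h2 (h1 ▸ k1), by rw [h3, k1, k2]⟩
  · obtain ⟨x, k1, k2⟩ := exists_comm_of_dvd (by norm_num) k
    rw [h1, s.card_cent31 k1] at k2
    norm_num at k2

theorem card_cent37 {x : G} (hx : orderOf x = 37) : Nat.card (centralizer ({x} : Set G)) = 37 := by
  have : Fact (Nat.Prime 37) := ⟨by norm_num⟩
  exact card_cent_of_syl (m := 2345285703948042240) s.card (by norm_num) (fun U => (s.syl37 U).1) hx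

theorem syl29 (U : Sylow 29 G) : centralizer ((U : Subgroup G) : Set G) = U ∧
    Nat.card (normalizer ((U : Subgroup G) : Set G)) = 29 * 28 := by
  have : Fact (Nat.Prime 29) := ⟨by norm_num⟩
  obtain ⟨e, -⟩ := s.exists_equiv
  obtain ⟨y, m, h1, h2, h3, h4, h5, h6, h7, h8, h9⟩ := s.syl_big (m0 := 2992261070554398720) (j0 := 28) (by norm_num)
    (by norm_num) (by norm_num) (exists_29 e) (by decide) U
  have h : ∀ c ∈ divL, ∀ m < 29, 29 ∣ c → m ∣ 29 - 1 → 28 ∣ m → 86775571046077562880 / (m * c) % 29 = 1 →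
      (c = 29 ∧ m = 28) ∨ 37 ∣ c := by decide +kernel
  rcases h _ h4 m h6 h5 h7 h8 h9 with ⟨k1, k2⟩ | k
  · exact ⟨self_of_card h2 (h1 ▸ k1), by rw [h3, k1, k2]⟩
  · obtain ⟨x, k1, k2⟩ := exists_comm_of_dvd (by norm_num) k
    rw [h1, s.card_cent37 k1] at k2
    norm_num at k2

theorem card_cent29 {x : G} (hx : orderOf x = 29) : Nat.card (centralizer ({x} : Set G)) = 29 := by
  have : Fact (Nat.Prime 29) := ⟨by norm_num⟩
  exact card_cent_of_syl (m := 2992261070554398720) s.card (by norm_num) (fun U => (s.syl29 U).1) hx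

theorem syl43 (U : Sylow 43 G) : centralizer ((U : Subgroup G) : Set G) = U ∧
    Nat.card (normalizer ((U : Subgroup G) : Set G)) = 43 * 14 := by
  have : Fact (Nat.Prime 43) := ⟨by norm_num⟩
  obtain ⟨e, -⟩ := s.exists_equiv
  obtain ⟨y, m, h1, h2, h3, h4, h5, h6, h7, h8, h9⟩ := s.syl_big (m0 := 2018036535955292160) (j0 := 14) (by norm_num)
    (by norm_num) (by norm_num) (exists_43 e) (by decide) U
  have h : ∀ c ∈ divL, ∀ m < 43, 43 ∣ c → m ∣ 43 - 1 → 14 ∣ m → 86775571046077562880 / (m * c) % 43 = 1 →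
      (c = 43 ∧ m = 14) ∨ 29 ∣ c ∨ 31 ∣ c := by decide +kernel
  rcases h _ h4 m h6 h5 h7 h8 h9 with ⟨k1, k2⟩ | k | k
  · exact ⟨self_of_card h2 (h1 ▸ k1), by rw [h3, k1, k2]⟩
  · obtain ⟨x, k1, k2⟩ := exists_comm_of_dvd (by norm_num) k
    rw [h1, s.card_cent29 k1] at k2
    norm_num at k2
  · obtain ⟨x, k1, k2⟩ := exists_comm_of_dvd (by norm_num) k
    rw [h1, s.card_cent31 k1] at k2
    norm_num at k2

theorem card_cent43 {x : G} (hx : orderOf x = 43) : Nat.card (centralizer ({x} : Set G)) = 43 := by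
  have : Fact (Nat.Prime 43) := ⟨by norm_num⟩
  exact card_cent_of_syl (m := 2018036535955292160) s.card (by norm_num) (fun U => (s.syl43 U).1) hx

end StJ

end Cfsg.Agent.J4T
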