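import Mathlib
import Cfsg.Agent.J4T.Big
import Cfsg.Agent.Perm.FixTools

/-!
Numerical conditions on the orders of subgroups.
-/

set_option autoImplicit false

namespace Cfsg.Agent.J4T

open Cfsg.Agent.Spor Cfsg.Agent.Spor.MB Cfsg.Agent.Spor.J4C Subgroup Cfsg.Agent.Inv.Fz MulAction Cfsg.Agent.Rec

variable {G : Type*} [Group G]

/-- `P` holds for `acc` times every divisor of the product of the prime powers in `L`. -/
noncomputable def allDiv (P : ℕ → Bool) (L : List (ℕ × ℕ)) : ℕ → Bool :=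
  List.rec (motive := fun _ => ℕ → Bool) P (fun pe _ ih acc => Spor.allLt (Nat.succ pe.2) fun i =>
    Spor.force (Nat.mul acc (Nat.pow pe.1 i)) ih) L

theorem allDiv_spec {P : ℕ → Bool} {L : List (ℕ × ℕ)} (hL : ∀ pe ∈ L, pe.1.Prime) {acc n : ℕ}
    (hn : n ∣ (L.map fun pe => pe.1 ^ pe.2).prod) (h : allDiv P L acc = true) : P (acc * n) = true := by
  induction L generalizing acc n with
  | nil => rw [Nat.dvd_one.1 hn, mul_one]; exact h
  | cons pe L ih =>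
    rw [List.map_cons, List.prod_cons] at hn
    obtain ⟨a, b, ha, hb, rfl⟩ := (Nat.dvd_mul).1 hn
    obtain ⟨i, hi, rfl⟩ := (Nat.dvd_prime_pow (hL pe (by simp))).1 ha
    have h0 : (Spor.allLt (Nat.succ pe.2) fun i => allDiv P L (acc * pe.1 ^ i)) = true := h
    have h1 := (Spor.allLt_iff _ _).1 h0 i (Nat.lt_succ_of_le hi)
    rw [← mul_assoc]
    exact ih (fun q hq => hL q (by simp [hq])) hb h1

/-- `m = q d n` with `d` in the list and `n ≡ 1` modulo `r`. -/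
def Cn (q r : ℕ) (ds : List ℕ) (m : ℕ) : Prop := ∃ d ∈ ds, ∃ n, n % r = 1 ∧ q * d * n = m

/-- The test for `Cn`. -/
noncomputable def cnB (q r : ℕ) (ds : List ℕ) (m : ℕ) : Bool :=
  MB.anyL (fun d => Spor.force (Nat.mul q d) fun e =>
    band (Nat.beq (Nat.mod m e) 0) (Nat.beq (Nat.mod (Nat.div m e) r) 1)) ds

theorem Cn.cnB {q r m : ℕ} {ds : List ℕ} (h : Cn q r ds m) (hm : m ≠ 0) : cnB q r ds m = true := by
  obtain ⟨d, hd, n, h1, rfl⟩ := h
  refine MB.anyL_iff.2 ⟨d, hd, ?_⟩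
  have h2 : 0 < q * d := Nat.pos_of_ne_zero fun e => hm (by rw [e, zero_mul])
  rw [Spor.force_eq, band_iff, nbeq_iff, nbeq_iff]
  exact ⟨Nat.mul_mod_right _ _, by rw [← h1]; exact congrArg (· % r) (Nat.mul_div_cancel_left n h2)⟩

/-- If `p` divides `m` then `b` holds. -/
noncomputable def ifD (p m : ℕ) (b : Bool) : Bool := Bool.rec true b (Nat.beq (Nat.mod m p) 0)

theorem ifD_of {p m : ℕ} {b : Bool} (h : p ∣ m → b = true) : ifD p m b = true := by
  unfold ifD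
  cases e : Nat.beq (Nat.mod m p) 0
  · rfl
  · exact h (Nat.dvd_of_mod_eq_zero ((nbeq_iff _ _).1 e))

/-- `p` divides `m`. -/
def dvB (p m : ℕ) : Bool := Nat.beq (Nat.mod m p) 0

theorem dvB_iff {p m : ℕ} : dvB p m = true ↔ p ∣ m := by
  rw [dvB, nbeq_iff]; exact (Nat.dvd_iff_mod_eq_zero).symm

/-- The conditions on the order of a subgroup. -/
noncomputable def consB (m : ℕ) : Bool :=
  band (ifD 43 m (cnB 43 43 [1, 2, 7, 14] m)) (band (ifD 37 m (cnB 37 37 [1, 2, 3, 4, 6, 12] m))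
    (band (ifD 31 m (cnB 31 31 [1, 2, 5, 10] m)) (band (ifD 29 m (cnB 29 29 [1, 2, 4, 7, 14, 28] m))
    (band (ifD 23 m (cnB 23 23 [1, 2, 11, 22] m))
    (ifD 11 m (MB.anyL (fun q => cnB q q [1, 2, 3, 4, 5, 6, 8, 10, 12, 15, 16, 20, 24, 30, 40, 48, 60, 80, 120, 240] m)
      [11, 121, 1331]))))))

section Count

variable [Finite G] {p : ℕ} [hp : Fact p.Prime]

theorem isSylIn_of_sq {M : Subgroup G} {x : G} (hx : x ∈ M) (ho : orderOf x = p) (h2 : ¬ p * p ∣ Nat.card G) :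
    IsSylIn p (zpowers x) M := by
  obtain ⟨m, hm⟩ := ho ▸ orderOf_dvd_card_univ_of x
  exact (isSylIn_zpowers (m := m) (by rw [hm, mul_comm]) (fun h => h2 (hm ▸ mul_dvd_mul_left p h)) ho).mono
    (zpowers_le.2 hx) le_top
  where orderOf_dvd_card_univ_of (x : G) : orderOf x ∣ Nat.card G := _root_.orderOf_dvd_natCard x

/-- Sylow's theorem for a subgroup. -/
theorem exists_count {M P : Subgroup G} (hP : IsSylIn p P M) : ∃ d n,
    Nat.card ↥(M ⊓ normalizer (P : Set G)) = Nat.card P * d ∧ n % p = 1 ∧ Nat.card P * d * n = Nat.card M := by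
  obtain ⟨n, h1, h2⟩ := Lc.exists_mul_modEq hP
  obtain ⟨d, hd⟩ := card_dvd_of_le (le_inf hP.le le_normalizer)
  exact ⟨d, n, hd, h1, hd ▸ h2⟩

theorem cn_of_le {M P : Subgroup G} (hP : IsSylIn p P M) {q e : ℕ} (hq : Nat.card P = q) {Y : Subgroup G}
    (hY : M ⊓ normalizer (P : Set G) ≤ Y) (he : Nat.card Y = q * e) {ds : List ℕ} {d0 : ℕ}
    (h0 : q * d0 ∣ Nat.card ↥(M ⊓ normalizer (P : Set G)))
    (hd : ∀ d, d ∣ e → d0 ∣ d → d ∈ ds) : Cn q p ds (Nat.card M) := by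
  obtain ⟨d, n, h1, h2, h3⟩ := exists_count hP
  have h4 := card_dvd_of_le hY
  have h5 : 0 < q := hq ▸ Nat.card_pos
  rw [h1, hq] at h0 h4
  rw [he] at h4
  exact ⟨d, hd d (Nat.dvd_of_mul_dvd_mul_left h5 h4) (Nat.dvd_of_mul_dvd_mul_left h5 h0), n, h2, hq ▸ h3⟩

theorem cn_prime {e : ℕ} (h2 : ¬ p * p ∣ Nat.card G)
    (hN : ∀ U : Sylow p G, Nat.card (normalizer ((U : Subgroup G) : Set G)) = p * e) {ds : List ℕ}
    (hd : ∀ d, d ∣ e → d ∈ ds) (M : Subgroup G) : ifD p (Nat.card M) (cnB p p ds (Nat.card M)) = true := by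
  refine ifD_of fun h => Cn.cnB ?_ Nat.card_pos.ne'
  obtain ⟨x, hx⟩ := exists_prime_orderOf_dvd_card' p h
  have h3 : orderOf (x : G) = p := by rw [orderOf_coe, hx]
  have h4 : Nat.card (zpowers (x : G)) = p := by rw [Nat.card_zpowers, h3]
  exact cn_of_le (isSylIn_of_sq x.2 h3 h2) h4 inf_le_right (hN (isSylIn_of_sq (mem_top _) h3 h2).toSylowTop)
    (d0 := 1) (by rw [mul_one, ← h4]; exact card_dvd_of_le (le_inf (zpowers_le.2 x.2) le_normalizer)) fun d h _ => hd d h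

/-- Burnside's transfer theorem and the Frattini argument. -/
theorem dvd_norm_of_central {M P Q : Subgroup G} (hP : IsSylIn p P M)
    (h : ∀ g ∈ M, g ∈ normalizer (P : Set G) → ∀ v ∈ P, g * v = v * g) {q : ℕ} [hq : Fact q.Prime] (hpq : p ≠ q)
    (hQ : IsSylIn q Q M) (hM : p ∣ Nat.card M) : p ∣ Nat.card ↥(M ⊓ normalizer (Q : Set G)) := by
  obtain ⟨O, h1, h2, h3, h4⟩ := exists_complement hP h
  have h5 : Q ≤ O := fun y hy => h4 y (hQ.le hy) (by
    obtain ⟨k, hk⟩ := IsPGroup.iff_orderOf.1 hQ.isPGroup ⟨y, hy⟩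
    rw [← orderOf_coe] at hk
    rw [hk]
    exact Nat.Coprime.pow_left _ ((Nat.coprime_primes hq.out hp.out).2 hpq.symm))
  obtain ⟨x, hx⟩ := exists_prime_orderOf_dvd_card' p hM
  obtain ⟨k, hk, h6⟩ := (hQ.mono h5 h1).frattini (h2 x.2)
  have h7 : k * x ∈ M := mul_mem (h1 hk) x.2
  refine dvd_trans ?_ (orderOf_dvd_natCard _ (mem_inf.2 ⟨h7, h6⟩))
  by_contra h8
  have h9 := mul_mem (inv_mem hk) (h4 _ h7 ((Nat.Prime.coprime_iff_not_dvd hp.out).2 h8).symm)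
  rw [inv_mul_cancel_left] at h9
  have h10 := orderOf_dvd_natCard _ h9
  rw [orderOf_coe, hx] at h10
  exact hp.out.one_lt.ne' (Nat.eq_one_of_self_dvd_of_coprime h10 h3)
  where Nat.eq_one_of_self_dvd_of_coprime {a b : ℕ} (h : a ∣ b) (h' : b.Coprime a) : a = 1 :=
    Nat.Coprime.eq_one_of_dvd h'.symm h

end Count

/-- Counting conjugates of a subgroup that meets its conjugates trivially. -/
theorem exists_count_ti [Finite G] {U N : Subgroup G} (h : ∀ g, ∀ x ∈ U, x ≠ 1 → g⁻¹ * x * g ∈ N → g ∈ N)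
    (hU : U ≤ N) (M : Subgroup G) :
    ∃ k, Nat.card ↥(M ⊓ N) * (Nat.card ↥(M ⊓ U) * k + 1) = Nat.card M := by
  have h1 := ncard_orbS_mul M ((1 : G) : G ⧸ N)
  rw [MulAction.stabilizer_quotient] at h1
  have h0 : ((1 : G) : G ⧸ N) ∈ orbS M ((1 : G) : G ⧸ N) := ⟨1, one_mem _, (one_smul _ _).symm⟩
  have h3 : ∀ a ∈ N, a • ((1 : G) : G ⧸ N) = ((1 : G) : G ⧸ N) := fun a ha => by
    rwa [← mem_stabilizer_iff, MulAction.stabilizer_quotient]
  obtain ⟨k, hk⟩ := Perm.Fx.card_dvd_of_semiregular (M ⊓ U) (orbS M ((1 : G) : G ⧸ N) \ {((1 : G) : G ⧸ N)})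
    (by
      rintro a ha _ ⟨⟨b, hb, rfl⟩, h2⟩
      refine ⟨⟨a * b, mul_mem ha.1 hb, (mul_smul _ _ _).symm⟩, fun e => h2 ?_⟩
      rw [Set.mem_singleton_iff, smul_eq_iff_eq_inv_smul, h3 _ (inv_mem (hU ha.2))] at e
      exact e)
    (by
      rintro a ha _ ⟨⟨b, -, rfl⟩, h2⟩ e
      by_contra h4
      refine h2 (h3 b (h b a ha.2 h4 ?_))
      rw [← MulAction.stabilizer_quotient N, mem_stabilizer_iff, mul_smul, mul_smul, e, inv_smul_smul])
  rw [Nat.card_coe_set_eq] at hk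
  refine ⟨k, ?_⟩
  rw [← hk, Set.ncard_sdiff_singleton_add_one h0, mul_comm, h1]

theorem eq_top_of_two [Finite G] [IsSimpleGroup G] {M : Subgroup G} (h : Nat.card G ≤ 2 * Nat.card M)
    (h2 : 2 < Nat.card G) : M = ⊤ := by
  have h1 := M.index_mul_card
  have h3 : M.index ≠ 0 := index_ne_zero_of_finite
  have h4 : M.index ≤ 2 := Nat.le_of_mul_le_mul_right (h1 ▸ h) Nat.card_pos
  rcases (by omega : M.index = 1 ∨ M.index = 2) with e | e
  · exact index_eq_one.1 e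
  · refine (normal_of_index_eq_two e).eq_bot_or_eq_top.resolve_left fun e' => ?_
    rw [e', card_bot] at h
    omega

theorem isCoatom_cj {H : Subgroup G} (h : IsCoatom H) (g : G) : IsCoatom (cj g H) :=
  ((MulAut.conj g).mapSubgroup.isCoatom_iff H).2 h

theorem isCoatom_of [Finite G] {H : Subgroup G} (h1 : Nat.card H < Nat.card G) (h : ∀ M, H ≤ M → M = H ∨ M = ⊤) :
    IsCoatom H :=
  ⟨fun e => by rw [e, card_top] at h1; exact lt_irrefl _ h1, fun M hM => (h M hM.le).resolve_left hM.ne'⟩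

end Cfsg.Agent.J4T
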