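import Mathlib
import Cfsg.Agent.J4T.MaxNum

/-!
The Sylow 11-subgroups meet trivially; conditions on the orders of all subgroups.
-/

set_option autoImplicit false

namespace Cfsg.Agent.J4T

open Cfsg.Agent.Spor Cfsg.Agent.Spor.MB Cfsg.Agent.Spor.J4C Subgroup Cfsg.Agent.Inv.Fz MulAction Cfsg.Agent.Rec

variable {G : Type*} [Group G]

theorem mem_of_syl [Finite G] {p : ℕ} [Fact p.Prime] {U N : Subgroup G} (hU : IsSylIn p U N)
    (hN : N ≤ normalizer (U : Set G)) {x : G} (hx : x ∈ N) {k : ℕ} (h : x ^ p ^ k = 1) : x ∈ U := by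
  obtain ⟨g, hg, h1⟩ := exists_conj_mem_syl hU hx h
  simpa [mul_assoc] using conj_mem_of_mem_norm (hN (inv_mem hg)) h1

theorem cent_eq_of_mem [Finite G] {p : ℕ} (hp : p.Prime) {a x : G} (ha : orderOf a = p) (hx : x ∈ zpowers a)
    (h1 : x ≠ 1) : centralizer ({x} : Set G) = centralizer {a} := by
  have h2 := orderOf_dvd_of_mem_zpowers hx
  rw [ha, Nat.dvd_prime hp, orderOf_eq_one_iff] at h2
  rw [← cent_zpowers, zpowers_eq_of_mem hx (ha ▸ h2.resolve_left h1), cent_zpowers]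

theorem eq_one_of_comm_eleven {a y : PG} (ha : a ∈ M24) (h1 : orderOf a = 11) (hy : y ∈ M24) {k : ℕ}
    (h2 : y ^ 2 ^ k = 1) (h : a * y = y * a) : y = 1 := by
  by_contra h3
  obtain ⟨j, -, hj⟩ := (Nat.dvd_prime_pow Nat.prime_two).1 (orderOf_dvd_of_pow_eq_one h2)
  obtain ⟨⟨_, i, rfl⟩, hx⟩ := exists_prime_orderOf_dvd_card' (G := zpowers y) 2 (by
    rw [Nat.card_zpowers, hj]
    exact dvd_pow_self 2 fun e => h3 (by rwa [e, pow_zero, orderOf_eq_one_iff] at hj))
  rw [← orderOf_coe] at hx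
  have h4 := orderOf_dvd_natCard _ (mem_CZ.2 ⟨ha, ((show Commute a y from h).zpow_right i).eq⟩)
  rcases involution_classes (zpow_mem hy i) hx with ⟨c, hc, e⟩ | ⟨c, hc, e⟩
  · rw [h1, ← show _ = y ^ i from e, card_CZ_conj hc, card_CZ_zA] at h4
    norm_num at h4
  · rw [h1, ← show _ = y ^ i from e, card_CZ_conj hc, card_CZ_zB] at h4
    norm_num at h4

theorem StX.card_two_le [Finite G] {z : G} {g l : ℕ → G} {π : centralizer ({z} : Set G) →* PG} (s : StX z π g l)
    {a : G} (ha : orderOf a = 11) (hz : a * z = z * a) {S : Subgroup G} (hS : IsPGroup 2 S)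
    (h1 : S ≤ centralizer {z}) (h2 : S ≤ centralizer {a}) : Nat.card S ≤ 8 := by
  have : Fact (Nat.Prime 11) := ⟨by norm_num⟩
  have hM : ∀ x, π x ∈ M24 := fun x => (s.st.range.le ⟨x, rfl⟩).1
  have h3 : orderOf (π ⟨a, mem_cen.2 hz⟩) = 11 := orderOf_eq_prime
    (by rw [← map_pow, ← map_one π]; exact congrArg π (Subtype.ext (ha ▸ pow_orderOf_eq_one a))) fun e => by
      have h := orderOf_dvd_natCard _ ((s.st.ker _).1 e)
      rw [ha, VB.card_N s] at h
      norm_num at h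
  have h4 : S ≤ QG g ⊓ centralizer (zpowers a : Set G) := fun x hx => by
    obtain ⟨k, hk⟩ := hS ⟨x, hx⟩
    have h5 : x ^ 2 ^ k = 1 := congrArg Subtype.val hk
    refine ⟨mem_of_syl (isSylIn_of_card (k := 13) (m := 3) le_sup_left s.q.card_QG (VB.card_N s) (by norm_num))
      (sup_le le_normalizer (zpowers_le.2 (VB.norm_Q s s.st.pH)))
      ((s.st.ker ⟨x, h1 hx⟩).1 (eq_one_of_comm_eleven (hM _) h3 (hM _) (k := k) ?_ ?_)) h5, cent_zpowers a ▸ h2 hx⟩
    · rw [← map_pow, ← map_one π]; exact congrArg π (Subtype.ext h5)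
    · rw [← map_mul, ← map_mul]; exact congrArg π (Subtype.ext (mem_cen.1 (h2 hx)).symm)
  obtain ⟨k, hk, e⟩ := (Nat.dvd_prime_pow Nat.prime_two).1 (s.q.card_QG ▸ card_dvd_of_le
    (inf_le_left : QG g ⊓ centralizer (zpowers a : Set G) ≤ _))
  have h5 := GT.card_modEq_card_inf_centralizer (L := QG g)
    (IsPGroup.of_card (p := 11) (n := 1) (by rw [Nat.card_zpowers, ha, pow_one])) (zpowers_le.2 (VB.norm_Q s hz))
  have h6 : k ≠ 13 := fun h => by
    have h7 := eq_of_le_of_card_ge (inf_le_left : QG g ⊓ centralizer (zpowers a : Set G) ≤ _)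
      (by rw [e, h, s.q.card_QG])
    have h8 := orderOf_dvd_natCard _ (s.st.cQ a hz fun q hq => (h7.ge hq).2 a (mem_zpowers a))
    rw [ha, s.q.card_QG] at h8
    norm_num at h8
  refine (card_le_of_le h4).trans ?_
  rw [e, s.q.card_QG] at *
  interval_cases k <;> first | decide | exact absurd h5 (by decide) | exact absurd rfl h6

namespace StJ

variable [Finite G] {z : G} {g l : ℕ → G} {π : centralizer ({z} : Set G) →* PG} {ψ : M24 →* G} (s : StJ z π g l ψ)

include s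

theorem card_cent_le_of_mem_NV {a : G} (ha : orderOf a = 11) (h : a ∈ normalizer (VG z g l : Set G)) :
    Nat.card (centralizer ({a} : Set G)) ≤ 242 := by
  have : Fact (Nat.Prime 11) := ⟨by norm_num⟩
  obtain ⟨_, _, _, _, _, _, _, e, ⟨y, rfl⟩, h1, -⟩ := s.exists_e11
  obtain ⟨k, -, hk⟩ := exists_conj_mem_syl (isSylIn_of_card (p := 11) (k := 1) (m := 45581598720)
    (zpowers_le.2 (s.psi_mem_N y)) (by rw [Nat.card_zpowers, e.ord_b, pow_one]) s.card_NV (by norm_num)) h (k := 1)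
    (by rw [pow_one, ← ha, pow_orderOf_eq_one])
  rwa [Syl.card_centralizer_conj (isConj_iff.2 ⟨k, rfl⟩), cent_eq_of_mem this.out e.ord_b hk fun e => by
    simp [conj_eq_one.1 e] at ha]

theorem not_sixteen_dvd {a : G} (ha : orderOf a = 11) (h : 242 < Nat.card (centralizer ({a} : Set G))) :
    ¬ 2 ^ 4 ∣ Nat.card (centralizer ({a} : Set G)) := fun h1 => by
  obtain ⟨W, hW⟩ := Sylow.exists_subgroup_card_pow_prime (G := centralizer ({a} : Set G)) 2 h1
  obtain ⟨S, h2, h3⟩ : ∃ S : Subgroup G, S ≤ centralizer {a} ∧ Nat.card S = 2 ^ 4 :=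
    ⟨W.map (Subgroup.subtype _), map_subtype_le _, by rw [card_map_of_injective Subtype.val_injective, hW]⟩
  have hS : IsPGroup 2 S := IsPGroup.of_card h3
  have : Nontrivial S := Finite.one_lt_card_iff_nontrivial.1 (by rw [h3]; norm_num)
  have := hS.center_nontrivial
  obtain ⟨k, hk, h4⟩ := (hS.to_subgroup (center S)).nontrivial_iff_card.1 this
  obtain ⟨t, ht⟩ := exists_prime_orderOf_dvd_card' (G := center S) 2 (h4 ▸ dvd_pow_self 2 hk.ne')
  rw [← orderOf_coe, ← orderOf_coe] at ht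
  have h5 : S ≤ centralizer {((t : S) : G)} := fun x hx =>
    mem_cen.2 (congrArg Subtype.val (mem_center_iff.1 t.2 ⟨x, hx⟩))
  have h6 := (mem_cen.1 (h2 (t : S).2)).symm
  generalize ((t : S) : G) = t at ht h5 h6
  rcases s.cls t (by rw [← sq, ← ht, pow_orderOf_eq_one]) (fun h => by simp [h] at ht) with h7 | h7
  · obtain ⟨c, hc⟩ := isConj_iff.1 h7.symm
    have h8 := s.x.card_two_le (a := c * a * c⁻¹) (by rw [orderOf_conj', ha]) (by rw [← hc, conj_mul, conj_mul, h6])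
      (isPGroup_cj hS c) (by rw [← hc, ← cj_centralizer_singleton]; exact cj_mono h5)
      (by rw [← cj_centralizer_singleton]; exact cj_mono h2)
    rw [card_cj, h3] at h8
    norm_num at h8
  · obtain ⟨c, hc⟩ := isConj_iff.1 h7.symm
    have h8 := s.card_cent_le_of_mem_NV (a := c * a * c⁻¹) (by rw [orderOf_conj', ha])
      (s.cd 64 (by norm_num) (by decide +kernel) (mem_cen.2 (by rw [top_vv_64, ← hc, conj_mul, conj_mul, h6])))
    rw [← Syl.card_centralizer_conj (isConj_iff.2 ⟨c, rfl⟩)] at h8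
    omega

theorem card_cent_dvd {a : G} (ha : orderOf a = 11) (h : 242 < Nat.card (centralizer ({a} : Set G))) :
    Nat.card (centralizer ({a} : Set G)) ∣ 11 ^ 3 * 216 := by
  have h1 : ∀ {p c : ℕ}, p.Prime → (∀ x : G, orderOf x = p → Nat.card (centralizer ({x} : Set G)) = c) → ¬ 11 ∣ c →
      (Nat.card (centralizer ({a} : Set G))).Coprime p := fun hp h hc =>
    ((Nat.Prime.coprime_iff_not_dvd hp).2 fun k => by
      obtain ⟨x, k1, k2⟩ := exists_comm_of_dvd hp k
      exact hc (ha ▸ h x k1 ▸ k2)).symm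
  have h2 := card_subgroup_dvd_card (centralizer ({a} : Set G))
  rw [s.card, show 86775571046077562880 = 5 * (7 * (23 * (29 * (31 * (37 * (43 * (2 ^ 21 * (11 ^ 3 * 27))))))))
    by norm_num, (h1 Nat.prime_five (fun x => s.card_cent5) (by norm_num)).dvd_mul_left,
    (h1 (p := 7) (by norm_num) (fun x => s.card_cent7) (by norm_num)).dvd_mul_left,
    (h1 (p := 23) (by norm_num) (fun x => s.card_cent23) (by norm_num)).dvd_mul_left,
    (h1 (p := 29) (by norm_num) (fun x => s.card_cent29) (by norm_num)).dvd_mul_left,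
    (h1 (p := 31) (by norm_num) (fun x => s.card_cent31) (by norm_num)).dvd_mul_left,
    (h1 (p := 37) (by norm_num) (fun x => s.card_cent37) (by norm_num)).dvd_mul_left,
    (h1 (p := 43) (by norm_num) (fun x => s.card_cent43) (by norm_num)).dvd_mul_left] at h2
  obtain ⟨c1, c2, h3, h4, h5⟩ := Nat.dvd_mul.1 h2
  obtain ⟨k, -, rfl⟩ := (Nat.dvd_prime_pow Nat.prime_two).1 h3
  have h6 : k ≤ 3 := not_lt.1 fun hk => s.not_sixteen_dvd ha h ((pow_dvd_pow 2 hk).trans ⟨c2, h5.symm⟩)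
  exact h5 ▸ (mul_dvd_mul (pow_dvd_pow 2 h6) h4).trans (by norm_num)

variable {a b c u h w n : G} (e : E11 a b c u h w n) (hb : Nat.card (centralizer ({b} : Set G)) ≤ 242)

include e

theorem syl_e11 : IsSylIn 11 (clos [b, c]) ⊤ := by
  have : Fact (Nat.Prime 11) := ⟨by norm_num⟩
  exact isSylIn_of_card (m := 65195770883604480) le_top (e.card_U s.not_dvd_eleven)
    (by rw [card_top, s.card]; norm_num) (by norm_num)

theorem lt_card_cent : 242 < Nat.card (centralizer ({a} : Set G)) := by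
  have h := card_le_of_le (show clos [b, c] ≤ centralizer {a} from fun x hx => mem_cen.2 (e.a_comm hx))
  rw [e.card_U s.not_dvd_eleven] at h
  omega

include hb

theorem mem_zpowers_a {x : G} (hx : x ∈ clos [b, c]) (h1 : 242 < Nat.card (centralizer ({x} : Set G))) :
    x ∈ zpowers a := ((e.main s.not_dvd_eleven hb).2.2.2 x hx).resolve_right fun ⟨k, _, hk⟩ => by
  rw [← Syl.card_centralizer_conj (isConj_iff.2 ⟨k, hk.symm⟩)] at h1
  omega

theorem cent_a : centralizer ({a} : Set G) ≤ normalizer (clos [b, c] : Set G) ∧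
    Nat.card (centralizer ({a} : Set G)) = 31944 := by
  have : Fact (Nat.Prime 11) := ⟨by norm_num⟩
  have h0 := (e.main s.not_dvd_eleven hb).1
  set N := normalizer (clos [b, c] : Set G)
  have h1 := ncard_cls_mul N a
  have h2 : {y | ∃ k ∈ N, y = k * a * k⁻¹} ⊆ (zpowers a : Set G) \ {1} := by
    rintro _ ⟨k, hk, rfl⟩
    exact ⟨s.mem_zpowers_a e hb (conj_mem_of_mem_norm hk e.a_mem)
      (Syl.card_centralizer_conj (isConj_iff.2 ⟨k, rfl⟩) ▸ s.lt_card_cent e), fun h => e.a1 (conj_eq_one.1 h)⟩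
  have h3 := Set.ncard_le_ncard h2
  rw [Set.ncard_sdiff_singleton_of_mem (one_mem _), ← Nat.card_coe_set_eq (zpowers a : Set G), SetLike.coe_sort_coe,
    Nat.card_zpowers, e.ord_a] at h3
  obtain ⟨d, m, h4, h5, h6⟩ := exists_count
    ((s.syl_e11 e).mono (K := centralizer {a}) (fun x hx => mem_cen.2 (e.a_comm hx)) le_top)
  have h7 := s.card_cent_dvd e.ord_a (s.lt_card_cent e)
  rw [e.card_U s.not_dvd_eleven] at h4 h6
  rw [inf_comm, show Nat.card ↥(centralizer {a} ⊓ N) = _ from h4, h0] at h1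
  have h8 : 24 ≤ d := by
    by_contra h
    have := Nat.mul_le_mul h3 (Nat.mul_le_mul_left (11 ^ 3) (show d ≤ 23 by omega))
    omega
  rw [← h6, mul_assoc, Nat.mul_dvd_mul_iff_left (by norm_num)] at h7
  obtain rfl : m = 1 := by
    have h9 := Nat.le_of_dvd (by norm_num) h7
    by_contra h
    have := Nat.mul_le_mul h8 (show 12 ≤ m by omega)
    omega
  have h9 : centralizer ({a} : Set G) ≤ N := inf_eq_left.1
    (eq_of_le_of_card_ge inf_le_left (by rw [show Nat.card ↥(centralizer {a} ⊓ N) = _ from h4, ← h6, mul_one]))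
  have h10 := card_dvd_of_le h9
  rw [h0, ← h6, mul_one, show 319440 = 11 ^ 3 * 240 by norm_num, Nat.mul_dvd_mul_iff_left (by norm_num)] at h10
  have h11 := Nat.le_of_dvd (by norm_num) (Nat.dvd_gcd h10 (mul_one d ▸ h7))
  exact ⟨h9, by rw [← h6, show d = 24 from le_antisymm h11 h8]; norm_num⟩

omit hb in
theorem mem_U {x : G} (hx : x ∈ normalizer (clos [b, c] : Set G)) (h1 : x ^ 11 = 1) : x ∈ clos [b, c] := by
  have : Fact (Nat.Prime 11) := ⟨by norm_num⟩
  exact mem_of_syl ((s.syl_e11 e).mono le_normalizer le_top) le_rfl hx (k := 1) (by rwa [pow_one])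

theorem ti_e11 (k x : G) (hx : x ∈ clos [b, c]) (h1 : x ≠ 1) (h2 : k⁻¹ * x * k ∈ normalizer (clos [b, c] : Set G)) :
    k ∈ normalizer (clos [b, c] : Set G) := by
  have h3 : ∀ v ∈ clos [b, c], (k⁻¹ * v * k) ^ 11 = 1 := fun v hv => by
    have := conj_pow (i := 11) (a := k⁻¹) (b := v)
    rwa [inv_inv, e.pow_eleven s.not_dvd_eleven hv, mul_one, inv_mul_cancel] at this
  have h4 := s.mem_U e h2 (h3 x hx)
  have h5 : IsConj x (k⁻¹ * x * k) := isConj_iff.2 ⟨k⁻¹, by rw [inv_inv]⟩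
  obtain ⟨-, h6, h7, h8⟩ := e.main s.not_dvd_eleven hb
  rcases h8 x hx with h9 | ⟨j, hj, rfl⟩
  · have h10 := cent_eq_of_mem (by norm_num) e.ord_a h9 h1
    have h11 := cent_eq_of_mem (by norm_num) e.ord_a (s.mem_zpowers_a e hb h4
      (Syl.card_centralizer_conj h5 ▸ h10 ▸ s.lt_card_cent e)) fun h => h1 (isConj_one_left.1 (h ▸ h5))
    refine inv_mem_iff.1 (mem_normalizer_of_conj_mem fun v hv => ?_)
    rw [inv_inv]
    refine s.mem_U e ((s.cent_a e hb).1 (h11 ▸ mem_cen.2 ?_)) (h3 v hv)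
    have h12 := mem_cen.1 (h10 ▸ mem_cen.2 (e.a_comm hv) : v ∈ centralizer {x})
    rw [show k⁻¹ * v * k * (k⁻¹ * x * k) = k⁻¹ * (v * x) * k by group, h12]; group
  · rcases h8 _ h4 with h9 | ⟨i, hi, h9⟩
    · have h10 := s.lt_card_cent e
      rw [← cent_eq_of_mem (by norm_num) e.ord_a h9 fun h => h1 (isConj_one_left.1 (h ▸ h5)),
        ← Syl.card_centralizer_conj h5, ← Syl.card_centralizer_conj (isConj_iff.2 ⟨j, rfl⟩)] at h10
      omega
    · have h10 : j⁻¹ * k * i ∈ normalizer (clos [b, c] : Set G) := h7 (mem_cen.2 (by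
        rw [show j⁻¹ * k * i * b = j⁻¹ * k * (i * b * i⁻¹) * i by group, ← h9]; group))
      simpa [mul_assoc] using mul_mem (mul_mem hj h10) (inv_mem hi)

end StJ

namespace StJ

variable [Finite G] {z : G} {g l : ℕ → G} {π : centralizer ({z} : Set G) →* PG} {ψ : M24 →* G} (s : StJ z π g l ψ)

include s

theorem card_norm11 (U : Sylow 11 G) : Nat.card (normalizer ((U : Subgroup G) : Set G)) = 319440 := by
  obtain ⟨a, b, c, u, h, w, n, e, h1, h2⟩ := s.exists_e11_syl U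
  exact h2 ▸ (e.main s.not_dvd_eleven h1).1

/-- The centralisers of the elements of order 11. -/
theorem card_cent11 {x : G} (hx : orderOf x = 11) :
    Nat.card (centralizer ({x} : Set G)) = 31944 ∨ Nat.card (centralizer ({x} : Set G)) = 242 := by
  have : Fact (Nat.Prime 11) := ⟨by norm_num⟩
  obtain ⟨a, b, c, u, h, w, n, e, -, h1, h2⟩ := s.exists_e11
  obtain ⟨-, h3, -, h4⟩ := e.main s.not_dvd_eleven h1
  obtain ⟨k, -, hk⟩ := exists_conj_mem_syl h2 (mem_top x) (k := 1) (by rw [pow_one, ← hx, pow_orderOf_eq_one])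
  rw [Syl.card_centralizer_conj (isConj_iff.2 ⟨k, rfl⟩)]
  rcases h4 _ hk with h6 | ⟨j, -, h6⟩
  · rw [cent_eq_of_mem this.out e.ord_a h6 fun h7 => by simp [conj_eq_one.1 h7] at hx]
    exact Or.inl (s.cent_a e h1).2
  · rw [← Syl.card_centralizer_conj (isConj_iff.2 ⟨j, h6.symm⟩)]
    exact Or.inr h3

/-- Counting the conjugates of a Sylow 11-subgroup under a subgroup. -/
theorem count_eleven {M : Subgroup G} (U : Sylow 11 G) (h : IsSylIn 11 (M ⊓ U) M) : ∃ d k, d ∣ 240 ∧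
    Nat.card ↥(M ⊓ normalizer ((U : Subgroup G) : Set G)) = Nat.card ↥(M ⊓ U) * d ∧
    Nat.card ↥(M ⊓ U) * d * (Nat.card ↥(M ⊓ U) * k + 1) = Nat.card M := by
  have : Fact (Nat.Prime 11) := ⟨by norm_num⟩
  obtain ⟨a, b, c, u, h', w, n, e, h1, h2⟩ := s.exists_e11_syl U
  obtain ⟨k, hk⟩ := exists_count_ti (h2 ▸ s.ti_e11 e h1) le_normalizer M
  have h3 : M ⊓ U ≤ M ⊓ normalizer ((U : Subgroup G) : Set G) := inf_le_inf_left _ le_normalizer
  have h4 := card_mul_relIndex h3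
  refine ⟨_, k, ?_, h4.symm, h4 ▸ hk⟩
  have h5 := (Dvd.intro_left _ h4).trans (card_dvd_of_le inf_le_right)
  rw [s.card_norm11, show 319440 = 11 ^ 3 * 240 by norm_num] at h5
  exact (((Nat.Prime.coprime_iff_not_dvd this.out).2
    (h.mono h3 inf_le_left).not_dvd_relIndex).symm.pow_right 3).dvd_of_dvd_mul_left h5

omit [Finite G] s in
theorem exists_syl11 (M : Subgroup G) {P : Subgroup G} (hP : IsSylIn 11 P M) : ∃ U : Sylow 11 G, M ⊓ U = P := by
  obtain ⟨U, hU⟩ := hP.isPGroup.exists_le_sylow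
  exact ⟨U, hP.eq_of_le (U.isPGroup'.to_le inf_le_right) inf_le_left (le_inf hP.le hU)⟩

theorem cons (M : Subgroup G) : consB (Nat.card M) = true := by
  have : Fact (Nat.Prime 11) := ⟨by norm_num⟩
  have : Fact (Nat.Prime 23) := ⟨by norm_num⟩
  have : Fact (Nat.Prime 29) := ⟨by norm_num⟩
  have : Fact (Nat.Prime 31) := ⟨by norm_num⟩
  have : Fact (Nat.Prime 37) := ⟨by norm_num⟩
  have : Fact (Nat.Prime 43) := ⟨by norm_num⟩
  have hd : ∀ {e : ℕ} {ds : List ℕ}, (∀ d ∈ e.divisors, d ∈ ds) → e ≠ 0 → ∀ d, d ∣ e → d ∈ ds :=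
    fun h h0 d hd => h d (Nat.mem_divisors.2 ⟨hd, h0⟩)
  simp only [consB, band_iff]
  refine ⟨cn_prime (by rw [s.card]; norm_num) (fun U => (s.syl43 U).2) (hd (by decide) (by norm_num)) M,
    cn_prime (by rw [s.card]; norm_num) (fun U => (s.syl37 U).2) (hd (by decide) (by norm_num)) M,
    cn_prime (by rw [s.card]; norm_num) (fun U => (s.syl31 U).2) (hd (by decide) (by norm_num)) M,
    cn_prime (by rw [s.card]; norm_num) (fun U => (s.syl29 U).2) (hd (by decide) (by norm_num)) M,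
    cn_prime (by rw [s.card]; norm_num) (fun U => (s.syl23 U).2) (hd (by decide) (by norm_num)) M,
    ifD_of fun h => ?_⟩
  obtain ⟨P, hP, -⟩ := exists_isSylIn (p := 11) (IsPGroup.of_bot) (bot_le : ⊥ ≤ M)
  obtain ⟨U, rfl⟩ := exists_syl11 M hP
  obtain ⟨d, k, h1, -, h2⟩ := s.count_eleven U hP
  obtain ⟨j, hj⟩ := IsPGroup.iff_card.1 hP.isPGroup
  have h3 : j < 4 := not_le.1 fun h => s.not_dvd_eleven ((pow_dvd_pow 11 h).trans (hj ▸ card_subgroup_dvd_card _))
  have h4 : j ≠ 0 := fun e => hP.not_dvd_relIndex (by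
    rwa [← card_mul_relIndex hP.le, hj, e, pow_zero, one_mul] at h)
  rw [hj] at h2
  refine MB.anyL_iff.2 ⟨11 ^ j, by interval_cases j <;> simp at h4 ⊢,
    Cn.cnB ⟨d, hd (by decide) (by norm_num) d h1, _, ?_, h2⟩ Nat.card_pos.ne'⟩
  rw [Nat.mul_add_mod]
  exact Nat.mod_eq_of_lt (Nat.one_lt_pow h4 (by norm_num))

/-- Overgroups of a subgroup whose order contains `h`. -/
theorem num [IsSimpleGroup G] {M : Subgroup G} {h h0 : ℕ} (h1 : h ∣ Nat.card M) {L : List (ℕ × ℕ)}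
    (hL : ∀ pe ∈ L, pe.1.Prime) (h2 : h * (L.map fun pe => pe.1 ^ pe.2).prod = 86775571046077562880) {E : ℕ → Bool}
    (hE : E (Nat.card M) = true) (hc : allDiv (fun m => Bool.rec true (Bool.rec true
      (bor (Nat.beq m h0) (Nat.ble 86775571046077562880 (Nat.mul 2 m))) (consB m)) (E m)) L h = true) :
    Nat.card M = h0 ∨ M = ⊤ := by
  obtain ⟨n, hn⟩ := h1
  have h3 := card_subgroup_dvd_card M
  rw [s.card, ← h2, hn, Nat.mul_dvd_mul_iff_left (Nat.pos_of_ne_zero fun e => by simp [e] at h2)] at h3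
  have h4 := allDiv_spec hL h3 hc
  rw [← hn, hE, s.cons M] at h4
  rcases (bor_iff _ _).1 h4 with h5 | h5
  · exact Or.inl ((nbeq_iff _ _).1 h5)
  · exact Or.inr (eq_top_of_two (s.card ▸ Nat.le_of_ble_eq_true h5) (by rw [s.card]; norm_num))

end StJ

end Cfsg.Agent.J4T
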