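import Mathlib
import Cfsg.Agent.J4T.MaxTI
import Cfsg.Agent.Ch.PiPart
import Cfsg.Agent.GT.SchurZassenhaus
import Cfsg.Agent.GT.CoprimeBasic

/-!
Counting conjugacy classes: the classes that meet a set, and sections of elements of prime order.
-/

set_option autoImplicit false

namespace Cfsg.Agent.J4T.Cls

open Cfsg.Agent.Rec Subgroup Cfsg.Agent.Inv.Fz

variable {G : Type*} [Group G]

/-- The number of conjugacy classes that meet `S`. -/
noncomputable def kk (S : Set G) : ℕ := (ConjClasses.mk '' S).ncard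

theorem kk_congr {S T : Set G} (h1 : ∀ a ∈ S, ∃ b ∈ T, IsConj a b) (h2 : T ⊆ S) : kk S = kk T := by
  refine congrArg Set.ncard (Set.Subset.antisymm ?_ (Set.image_mono h2))
  rintro _ ⟨a, ha, rfl⟩
  obtain ⟨b, hb, e⟩ := h1 a ha
  exact ⟨b, hb, (ConjClasses.mk_eq_mk_iff_isConj.2 e).symm⟩

theorem kk_union [Finite G] {S T : Set G} (h : ∀ a ∈ S, ∀ b ∈ T, ¬ IsConj a b) : kk (S ∪ T) = kk S + kk T := by
  rw [kk, Set.image_union, Set.ncard_union_eq]
  · rfl
  · rw [Set.disjoint_left]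
    rintro _ ⟨a, ha, rfl⟩ ⟨b, hb, e⟩
    exact h a ha b hb (ConjClasses.mk_eq_mk_iff_isConj.1 e.symm)

theorem kk_list {S : Set G} (f : ℕ → G) (n : ℕ) (h : ∀ i < n, ∀ j < i, ¬ IsConj (f i) (f j))
    (h1 : ∀ a ∈ S, ∃ i < n, IsConj a (f i)) (h2 : ∀ i < n, f i ∈ S) : kk S = n := by
  rw [kk_congr (T := f '' Set.Iio n) (fun a ha => by
    obtain ⟨i, hi, e⟩ := h1 a ha
    exact ⟨_, ⟨i, hi, rfl⟩, e⟩) (by rintro _ ⟨i, hi, rfl⟩; exact h2 i hi), kk, Set.image_image,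
    Set.InjOn.ncard_image, Set.ncard_Iio_nat]
  intro i hi j hj e
  have e' := ConjClasses.mk_eq_mk_iff_isConj.1 e
  rcases lt_trichotomy i j with k | k | k
  exacts [absurd e'.symm (h j hj i k), k, absurd e' (h i hi j k)]

theorem ord_eq {a b : G} (h : IsConj a b) : orderOf a = orderOf b := by
  obtain ⟨c, rfl⟩ := isConj_iff.1 h
  exact (orderOf_injective (MulAut.conj c).toMonoidHom (MulAut.conj c).injective a).symm

theorem card_eq_sum [Finite G] (ty : ℕ → ℕ) {n : ℕ} (h : ∀ m, ty m < n) :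
    Nat.card (ConjClasses G) = ∑ i ∈ Finset.range n, kk {g : G | ty (orderOf g) = i} := by
  classical
  have := Fintype.ofFinite (ConjClasses G)
  let t : ConjClasses G → ℕ := Quotient.lift (fun g => ty (orderOf g)) fun _ _ e => congrArg ty (ord_eq e)
  rw [Nat.card_eq_fintype_card, ← Finset.card_univ, Finset.card_eq_sum_card_fiberwise (f := t) (t := Finset.range n)
    fun c _ => by obtain ⟨g, rfl⟩ := ConjClasses.mk_surjective c; exact Finset.mem_coe.2 (Finset.mem_range.2 (h _))]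
  refine Finset.sum_congr rfl fun i _ => ?_
  rw [kk, ← Set.ncard_coe_finset]
  congr 1
  ext c
  obtain ⟨g, rfl⟩ := ConjClasses.mk_surjective c
  simp only [Finset.coe_filter, Finset.mem_univ, true_and, Set.mem_ofPred_eq, Set.mem_image]
  exact ⟨fun e => ⟨g, e, rfl⟩, fun ⟨a, ha, e⟩ => (congrArg t e).symm.trans ha⟩

/-- The elements whose `p`-part is conjugate to `x`. -/
def sec (p : ℕ) (x : G) : Set G := {g | ∃ v, Commute x v ∧ ¬ p ∣ orderOf v ∧ IsConj g (x * v)}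

section

variable {p : ℕ} [hp : Fact p.Prime] {x y g : G}

theorem conj_parts {v w k : G} (hx : orderOf x = p) (hy : orderOf y = p) (h1 : Commute x v) (h2 : Commute y w)
    (h3 : ¬ p ∣ orderOf v) (h4 : ¬ p ∣ orderOf w) (e : k * (x * v) * k⁻¹ = y * w) :
    k * x * k⁻¹ = y ∧ k * v * k⁻¹ = w :=
  Ch.p_parts_unique hp.out (by simpa using h1.map (MulAut.conj k)) h2
    ⟨1, by rw [← ord_eq (isConj_iff.2 ⟨k, rfl⟩), hx, pow_one]⟩ (by rwa [← ord_eq (isConj_iff.2 ⟨k, rfl⟩)])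
    ⟨1, by rw [hy, pow_one]⟩ h4 (by rw [← e]; group)

theorem sec_disj (hx : orderOf x = p) (hy : orderOf y = p) (h : ¬ IsConj x y) :
    ∀ a ∈ sec p x, ∀ b ∈ sec p y, ¬ IsConj a b := by
  rintro a ⟨v, h1, h2, h3⟩ b ⟨w, h4, h5, h6⟩ e
  obtain ⟨k, hk⟩ := isConj_iff.1 ((h3.symm.trans e).trans h6)
  exact h (isConj_iff.2 ⟨k, (conj_parts hx hy h1 h4 h2 h5 hk).1⟩)

omit hp in
theorem sec_mono (h : IsConj x y) (hg : g ∈ sec p x) : g ∈ sec p y := by
  obtain ⟨k, rfl⟩ := isConj_iff.1 h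
  obtain ⟨v, h1, h2, h3⟩ := hg
  exact ⟨k * v * k⁻¹, by simpa using h1.map (MulAut.conj k), by rwa [← ord_eq (isConj_iff.2 ⟨k, rfl⟩)],
    h3.trans (isConj_iff.2 ⟨k, by group⟩)⟩

theorem ord_mul {v : G} (hx : orderOf x = p) (h1 : Commute x v) (h2 : ¬ p ∣ orderOf v) :
    orderOf (x * v) = p * orderOf v := by
  rw [h1.orderOf_mul_eq_mul_orderOf_of_coprime (hx ▸ (Nat.Prime.coprime_iff_not_dvd hp.out).2 h2), hx]

theorem exists_sec [Finite G] (h : ∀ u : G, ∀ k, u ^ p ^ k = 1 → u ^ p = 1) (hg : p ∣ orderOf g) :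
    ∃ x, orderOf x = p ∧ g ∈ sec p x := by
  obtain ⟨u, v, -, -, rfl, h1, ⟨k, h2⟩, h3⟩ := Ch.exists_p_parts hp.out g
  refine ⟨u, orderOf_eq_prime (h u k (h2 ▸ pow_orderOf_eq_one u)) ?_, v, h1, h3, IsConj.refl _⟩
  rintro rfl
  exact h3 (by rwa [one_mul] at hg)

theorem sec_ord [Finite G] (hx : orderOf x = p) (hg : g ∈ sec p x) :
    p ∣ orderOf g ∧ orderOf g ∣ Nat.card (centralizer ({x} : Set G)) := by
  obtain ⟨v, h1, h2, h3⟩ := hg
  rw [ord_eq h3]
  exact ⟨ord_mul hx h1 h2 ▸ dvd_mul_right _ _,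
    orderOf_dvd_natCard _ (mul_mem (mem_cen.2 rfl) (mem_cen.2 h1.eq.symm))⟩

theorem exp_of_sq [Finite G] (h : ¬ p * p ∣ Nat.card G) (u : G) (k : ℕ) (hu : u ^ p ^ k = 1) : u ^ p = 1 := by
  obtain ⟨j, -, hj⟩ := (Nat.dvd_prime_pow hp.out).1 (orderOf_dvd_of_pow_eq_one hu)
  have h1 : j < 2 := not_le.1 fun h1 => h (by
    rw [← sq]; exact ((pow_dvd_pow p h1).trans hj.symm.dvd).trans (orderOf_dvd_natCard u))
  refine orderOf_dvd_iff_pow_eq_one.1 (hj ▸ ?_)
  interval_cases j <;> simp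

/-- The section of `x` when the centraliser of `x` is a split extension of a `p`-group. -/
theorem kk_sec [Finite G] (hx : orderOf x = p) {U L : Subgroup G} (hU : IsPGroup p U) (h1 : U ≤ centralizer {x})
    (h2 : L ≤ centralizer {x}) (h3 : L ≤ normalizer (U : Set G)) (h4 : ¬ p ∣ Nat.card L)
    (h5 : Nat.card (centralizer ({x} : Set G)) = Nat.card U * Nat.card L) :
    kk (sec p x) = Nat.card (ConjClasses L) := by
  obtain ⟨n, hn⟩ := IsPGroup.iff_card.1 hU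
  have c1 : ∀ {m : ℕ}, ¬ p ∣ m → (Nat.card U).Coprime m := fun h =>
    hn ▸ Nat.Coprime.pow_left n ((Nat.Prime.coprime_iff_not_dvd hp.out).2 h)
  have c2 : U ⊓ L = ⊥ := disjoint_iff.1 (disjoint_of_coprime_natCard (c1 h4))
  have c3 : U ⊔ L = centralizer {x} :=
    eq_of_le_of_card_ge (sup_le h1 h2) (by rw [GT.CopAct.card_sup_of_inf_eq_bot h3 c2, h5])
  have c4 : ∀ y : L, ¬ p ∣ orderOf (y : G) := fun y h => h4 (h.trans (orderOf_dvd_natCard _ y.2))
  have c5 : ∀ y : L, Commute x y := fun y => (mem_cen.1 (h2 y.2)).symm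
  let F : ConjClasses L → ConjClasses G := Quotient.lift (fun y => ConjClasses.mk (x * (y : G))) fun a b e => by
    obtain ⟨c, rfl⟩ := isConj_iff.1 e
    refine ConjClasses.mk_eq_mk_iff_isConj.2 (isConj_iff.2 ⟨c, ?_⟩)
    rw [← mul_assoc, ← (c5 c).eq]
    simp only [coe_mul, coe_inv, mul_assoc]
  have hF : Function.Injective F := fun a b e => by
    obtain ⟨a, rfl⟩ := ConjClasses.mk_surjective a
    obtain ⟨b, rfl⟩ := ConjClasses.mk_surjective b
    obtain ⟨k, hk⟩ := isConj_iff.1 (ConjClasses.mk_eq_mk_iff_isConj.1 e)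
    obtain ⟨k1, k2⟩ := conj_parts hx hx (c5 a) (c5 b) (c4 a) (c4 b) hk
    obtain ⟨u, hu, m, hm, rfl⟩ := (GT.CopAct.mem_sup_iff_of_le_normalizer h3).1 (c3.ge (mem_cen'.2 k1))
    have k3 : m * a * m⁻¹ ∈ L := mul_mem (mul_mem hm a.2) (inv_mem hm)
    have k4 : (b : G) * (m * a * m⁻¹)⁻¹ ∈ U ⊓ L := ⟨by
      rw [← k2, show u * m * a * (u * m)⁻¹ * (m * a * m⁻¹)⁻¹ = u * (m * a * m⁻¹ * u⁻¹ * (m * a * m⁻¹)⁻¹) by group]
      exact mul_mem hu (conj_mem_of_mem_norm (h3 k3) (inv_mem hu)), L.mul_mem b.2 (L.inv_mem k3)⟩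
    rw [c2, mem_bot, mul_inv_eq_one] at k4
    exact ConjClasses.mk_eq_mk_iff_isConj.2 (isConj_iff.2 ⟨⟨m, hm⟩, Subtype.ext k4.symm⟩)
  rw [← Nat.card_range_of_injective hF, Nat.card_coe_set_eq, kk]
  congr 1
  refine Set.Subset.antisymm ?_ ?_
  · rintro _ ⟨g, ⟨v, k1, k2, k3⟩, rfl⟩
    obtain ⟨a, ha, k4⟩ := GT.conj_le_of_coprime_le_sup U L (zpowers v) h3 (c1 h4) (c1 (by rwa [Nat.card_zpowers]))
      (c3 ▸ zpowers_le.2 (mem_cen.2 k1.eq.symm)) (.inr (.inr inferInstance))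
    refine ⟨ConjClasses.mk ⟨a * v * a⁻¹, k4 ⟨v, mem_zpowers v, rfl⟩⟩,
      ConjClasses.mk_eq_mk_iff_isConj.2 (k3.trans (isConj_iff.2 ⟨a, ?_⟩)).symm⟩
    rw [← mul_assoc, mem_cen.1 (h1 ha)]
    simp only [mul_assoc]
  · rintro _ ⟨a, rfl⟩
    obtain ⟨a, rfl⟩ := ConjClasses.mk_surjective a
    exact ⟨x * a, ⟨a, c5 a, c4 a, IsConj.refl _⟩, rfl⟩

/-- The number of classes of elements of order `p` when `p` divides the group order exactly once. -/
theorem kk_prime [Finite G] {n m : ℕ} (hG : Nat.card G = n * p) (hn : ¬ p ∣ n) (hx : orderOf x = p)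
    (hN : Nat.card (normalizer (zpowers x : Set G)) = m * Nat.card (centralizer ({x} : Set G))) :
    kk {g : G | orderOf g = p} * m = p - 1 := by
  classical
  have c1 : ∀ y ∈ zpowers x, y ≠ 1 → orderOf y = p := fun y hy h =>
    ((Nat.dvd_prime hp.out).1 (hx ▸ orderOf_dvd_of_mem_zpowers hy)).resolve_left (mt orderOf_eq_one_iff.1 h)
  have c2 : ((zpowers x : Set G) \ {1}).Finite := Set.toFinite _
  rw [kk_congr (S := {g : G | orderOf g = p}) (T := (zpowers x : Set G) \ {1}) (fun a ha => by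
    obtain ⟨k, -, hk⟩ := exists_conj_mem_syl (isSylIn_zpowers hG hn hx) (mem_top a) (k := 1)
      (by rw [pow_one, ← show orderOf a = p from ha, pow_orderOf_eq_one])
    refine ⟨_, ⟨hk, fun e => ?_⟩, isConj_iff.2 ⟨k, rfl⟩⟩
    exact hp.out.one_lt.ne (by rw [← show orderOf a = p from ha, conj_eq_one.1 e, orderOf_one]))
    fun y hy => c1 y hy.1 hy.2]
  have c3 : c2.toFinset.card = p - 1 := by
    rw [← Set.ncard_eq_toFinset_card _ c2, Set.ncard_sdiff_singleton_of_mem (one_mem _), ← Nat.card_coe_set_eq,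
      SetLike.coe_sort_coe, Nat.card_zpowers, hx]
  rw [← c3, Finset.card_eq_sum_card_image ConjClasses.mk, Finset.sum_congr rfl (g := fun _ => m), Finset.sum_const,
    smul_eq_mul, kk, ← Set.ncard_coe_finset, Finset.coe_image, Set.Finite.coe_toFinset]
  intro c hc
  obtain ⟨y, hy, rfl⟩ := Finset.mem_image.1 hc
  rw [Set.Finite.mem_toFinset] at hy
  have c4 := Spor.MB.zpowers_eq_of_mem hy.1 ((c1 y hy.1 hy.2).trans hx.symm)
  have c5 := Lc.card_class (normalizer (zpowers x : Set G)) y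
    (X := (c2.toFinset.filter fun a => ConjClasses.mk a = ConjClasses.mk y : Finset G)) fun a => by
      simp only [Finset.coe_filter, Set.Finite.mem_toFinset, Set.mem_ofPred_eq, ConjClasses.mk_eq_mk_iff_isConj]
      refine ⟨fun ⟨k1, k2⟩ => ?_, ?_⟩
      · obtain ⟨k, rfl⟩ := isConj_iff.1 k2.symm
        exact ⟨k, c4 ▸ Spor.MB.mem_normalizer_zpowers_iff.2 (c4 ▸ k1.1), rfl⟩
      · rintro ⟨k, hk, rfl⟩
        exact ⟨⟨conj_mem_of_mem_norm hk hy.1, mt conj_eq_one.1 hy.2⟩, (isConj_iff.2 ⟨k, rfl⟩).symm⟩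
  rw [Set.ncard_coe_finset, cent_eq_of_mem hp.out hx hy.1 hy.2, inf_eq_right.2
    (cent_zpowers x ▸ centralizer_le_normalizer _), hN] at c5
  exact Nat.eq_of_mul_eq_mul_right Nat.card_pos c5

omit hp in
/-- A prime with self-centralising elements. -/
theorem eq_of_cent [Finite G] (h : ∀ {x : G}, orderOf x = p → Nat.card (centralizer ({x} : Set G)) = p)
    (hg : p ∣ orderOf g) : orderOf g = p := by
  have h0 := (orderOf_pos g).ne'
  have h1 := orderOf_pow_orderOf_div h0 hg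
  exact Nat.dvd_antisymm (h h1 ▸ orderOf_dvd_natCard _ (mem_cen.2 (Commute.self_pow g _).eq)) hg

end

end Cfsg.Agent.J4T.Cls
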