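import Mathlib
import Cfsg.Agent.J4T.ClsA
import Cfsg.Agent.FG.PiClasses
import Cfsg.Agent.S4198
import Cfsg.Agent.S2325
import Cfsg.Agent.S2427

/-!
The classes of elements whose order is divisible by a prime at least 7.
-/

set_option autoImplicit false

namespace Cfsg.Agent.J4T

open Cfsg.Agent.Spor Cfsg.Agent.Spor.MB Cfsg.Agent.Spor.J4C Cfsg.Agent.Rec Subgroup Cfsg.Agent.Inv.Fz
open scoped MatrixGroups

variable {G : Type*} [Group G]

namespace Cls

/-- The type of an order: the position of the largest prime divisor. -/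
def ty (n : ℕ) : ℕ := if 43 ∣ n then 0 else if 37 ∣ n then 1 else if 31 ∣ n then 2 else if 29 ∣ n then 3 else
  if 23 ∣ n then 4 else if 11 ∣ n then 5 else if 7 ∣ n then 6 else if 5 ∣ n then 7 else if 3 ∣ n then 8 else 9

theorem ty_lt (n : ℕ) : ty n < 10 := by unfold ty; split_ifs <;> norm_num

theorem ty_of_dvd {n c : ℕ} (h : n ∣ c) (hc : ¬ 43 ∣ c ∧ ¬ 37 ∣ c ∧ ¬ 31 ∣ c ∧ ¬ 29 ∣ c ∧ ¬ 23 ∣ c) :
    ty n = if 11 ∣ n then 5 else if 7 ∣ n then 6 else if 5 ∣ n then 7 else if 3 ∣ n then 8 else 9 := by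
  rw [ty, if_neg (mt (Dvd.dvd.trans · h) hc.1), if_neg (mt (Dvd.dvd.trans · h) hc.2.1), if_neg (mt (Dvd.dvd.trans · h) hc.2.2.1),
    if_neg (mt (Dvd.dvd.trans · h) hc.2.2.2.1), if_neg (mt (Dvd.dvd.trans · h) hc.2.2.2.2)]

theorem ty_dvd {n i : ℕ} (h : ty n = i) : (i = 0 → 43 ∣ n) ∧ (i = 1 → 37 ∣ n) ∧ (i = 2 → 31 ∣ n) ∧ (i = 3 → 29 ∣ n) ∧
    (i = 4 → 23 ∣ n) ∧ (i = 5 → 11 ∣ n) ∧ (i = 6 → 7 ∣ n) ∧ (i = 7 → 5 ∣ n ∧ ¬ 7 ∣ n) ∧
    (i = 8 → 3 ∣ n ∧ ¬ 5 ∣ n ∧ ¬ 7 ∣ n ∧ ¬ 11 ∣ n) := by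
  unfold ty at h
  split_ifs at h <;> subst h <;> simp [*]

theorem ty_nine {n : ℕ} (h : ty n = 9) (hn : n ∣ 86775571046077562880) : n ∣ 2 ^ 21 := by
  unfold ty at h
  split_ifs at h with h1 h2 h3 h4 h5 h6 h7 h8 h9 <;> try omega
  have k : ∀ {p : ℕ}, p.Prime → ¬ p ∣ n → n.Coprime p := fun hp h => ((Nat.Prime.coprime_iff_not_dvd hp).2 h).symm
  refine Nat.Coprime.dvd_of_dvd_mul_right (k := n) (n := 3 ^ 3 * 5 * 7 * 11 ^ 3 * 23 * 29 * 31 * 37 * 43) ?_
    (hn.trans (by norm_num))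
  simp only [Nat.coprime_mul_iff_right]
  exact ⟨⟨⟨⟨⟨⟨⟨⟨(k (by norm_num) h9).pow_right 3, k (by norm_num) h8⟩, k (by norm_num) h7⟩,
    (k (by norm_num) h6).pow_right 3⟩, k (by norm_num) h5⟩, k (by norm_num) h4⟩, k (by norm_num) h3⟩,
    k (by norm_num) h2⟩, k (by norm_num) h1⟩

theorem kk_big [Finite G] {p n m i : ℕ} [Fact p.Prime] (hG : Nat.card G = n * p) (hn : ¬ p ∣ n)
    (h : ∀ U : Sylow p G, centralizer ((U : Subgroup G) : Set G) = U ∧
      Nat.card (normalizer ((U : Subgroup G) : Set G)) = p * m) (h1 : ty p = i) (h2 : ∀ k, ty k = i → p ∣ k) :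
    kk {g : G | ty (orderOf g) = i} * m = p - 1 := by
  obtain ⟨x, hx⟩ := exists_prime_orderOf_dvd_card' (G := G) p (hG ▸ dvd_mul_left p n)
  have h3 := fun {x : G} => card_cent_of_syl hG hn (fun U => (h U).1) (x := x)
  rw [show {g : G | ty (orderOf g) = i} = {g : G | orderOf g = p} from
    Set.ext fun g => ⟨fun e => eq_of_cent h3 (h2 _ e), fun e => (congrArg ty e).trans h1⟩]
  exact kk_prime hG hn hx (by rw [h3 hx, mul_comm]; exact (h (isSylIn_zpowers hG hn hx).toSylowTop).2)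

theorem card_S5 : Nat.card (ConjClasses (Equiv.Perm (Fin 5))) = 7 := by
  rw [S4198.card_conjClasses, show S4198.T 5 = ({0, {2}, {3}, {4}, {5}, {2, 2}, {2, 3}} : Finset (Multiset ℕ)) from
    Set.Subset.antisymm (fun m hm => Sym.forall_multiset_of_partsLe (n := 5)
      (P := fun m => m ∈ ({0, {2}, {3}, {4}, {5}, {2, 2}, {2, 3}} : Finset (Multiset ℕ))) (by decide) m hm.1 hm.2)
      fun m hm => ?_, Set.ncard_coe_finset]
  · decide
  · revert m
    show ∀ m ∈ ({0, {2}, {3}, {4}, {5}, {2, 2}, {2, 3}} : Finset (Multiset ℕ)), m.sum ≤ 5 ∧ ∀ a ∈ m, 2 ≤ a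
    decide

/-- An upper transvection. -/
def sx : SL(2, ZMod 3) := ⟨!![1, 1; 0, 1], by decide⟩

/-- A lower transvection. -/
def sy : SL(2, ZMod 3) := ⟨!![1, 0; 1, 1], by decide⟩

theorem gen_sl : ∀ s : SL(2, ZMod 3), ∃ i < 3, ∃ j < 3, ∃ k < 3, ∃ l < 3, s = sx ^ i * sy ^ j * sx ^ k * sy ^ l := by
  decide +kernel

theorem cube_sl : sx ^ 3 = 1 ∧ sy ^ 3 = 1 := by decide +kernel

theorem comm_of_cube {a t : G} (ha : orderOf a = 11) (ht : t ^ 3 = 1) (h : t * a * t⁻¹ ∈ zpowers a) :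
    t ∈ centralizer ({a} : Set G) := by
  have := (isOfFinOrder_iff_pow_eq_one.2 ⟨11, by norm_num, ha ▸ pow_orderOf_eq_one a⟩).mem_powers_iff_mem_zpowers.2 h
  obtain ⟨r, hr⟩ := this
  have h1 : a ^ (r * r * r) = a ^ 1 := by
    have e : ∀ k, t * a ^ k * t⁻¹ = a ^ (r * k) := fun k => by rw [← conj_pow, ← hr, pow_mul]
    rw [mul_assoc, ← e, ← e, ← mul_one r, ← e, show t * (t * (t * a ^ 1 * t⁻¹) * t⁻¹) * t⁻¹ = t ^ 3 * a ^ 1 * (t ^ 3)⁻¹ by
      simp only [pow_succ, pow_zero]; group, ht, one_mul, inv_one, mul_one]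
  rw [pow_eq_pow_iff_modEq, ha] at h1
  have h2 : ∀ s < 11, s * s * s % 11 = 1 → s = 1 := by decide
  have h3 := h2 (r % 11) (Nat.mod_lt _ (by norm_num)) (by rw [← show r * r * r % 11 = 1 from h1]; simp [Nat.mul_mod])
  rw [mem_cen', ← hr]
  show a ^ r = a
  rw [← pow_mod_orderOf, ha, h3, pow_one]

end Cls

namespace StJ

open Cls

variable [Finite G] {z : G} {g l : ℕ → G} {π : centralizer ({z} : Set G) →* PG} {ψ : M24 →* G} (s : StJ z π g l ψ)

include s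

theorem kk_bigs : kk {a : G | ty (orderOf a) = 0} = 3 ∧ kk {a : G | ty (orderOf a) = 1} = 3 ∧
    kk {a : G | ty (orderOf a) = 2} = 3 ∧ kk {a : G | ty (orderOf a) = 3} = 1 ∧
    kk {a : G | ty (orderOf a) = 4} = 1 := by
  have : Fact (Nat.Prime 43) := ⟨by norm_num⟩
  have : Fact (Nat.Prime 37) := ⟨by norm_num⟩
  have : Fact (Nat.Prime 31) := ⟨by norm_num⟩
  have : Fact (Nat.Prime 29) := ⟨by norm_num⟩
  have : Fact (Nat.Prime 23) := ⟨by norm_num⟩
  have h0 := kk_big (n := 2018036535955292160) (i := 0) (by rw [s.card]) (by norm_num) s.syl43 (by decide)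
    fun _ h => (ty_dvd h).1 rfl
  have h1 := kk_big (n := 2345285703948042240) (i := 1) (by rw [s.card]) (by norm_num) s.syl37 (by decide)
    fun _ h => (ty_dvd h).2.1 rfl
  have h2 := kk_big (n := 2799211969228308480) (i := 2) (by rw [s.card]) (by norm_num) s.syl31 (by decide)
    fun _ h => (ty_dvd h).2.2.1 rfl
  have h3 := kk_big (n := 2992261070554398720) (i := 3) (by rw [s.card]) (by norm_num) s.syl29 (by decide)
    fun _ h => (ty_dvd h).2.2.2.1 rfl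
  have h4 := kk_big (n := 3772850915046850560) (i := 4) (by rw [s.card]) (by norm_num) s.syl23 (by decide)
    fun _ h => (ty_dvd h).2.2.2.2.1 rfl
  omega

theorem exp_eleven (u : G) (k : ℕ) (h : u ^ 11 ^ k = 1) : u ^ 11 = 1 := by
  have : Fact (Nat.Prime 11) := ⟨by norm_num⟩
  obtain ⟨a, b, c, v, h', w, n, e, -, -, hU⟩ := s.exists_e11
  obtain ⟨d, -, hd⟩ := exists_conj_mem_syl hU (mem_top u) h
  simpa [conj_pow] using e.pow_eleven s.not_dvd_eleven hd

theorem kk_eleven : kk {a : G | ty (orderOf a) = 5} = 9 := by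
  have : Fact (Nat.Prime 11) := ⟨by norm_num⟩
  obtain ⟨a, b, c, u, h, w, n, e, -, hb, hU⟩ := s.exists_e11
  obtain ⟨-, m2, -, m4⟩ := e.main s.not_dvd_eleven hb
  obtain ⟨m5, m6⟩ := s.cent_a e hb
  have k1 : kk (sec 11 a) = 7 := by
    obtain ⟨f, hf⟩ := e.exists_gl
    let φ : SL(2, ZMod 3) →* G := (Subgroup.subtype _).comp (f.comp Matrix.SpecialLinearGroup.toGL)
    have hφ : Function.Injective φ :=
      Subtype.val_injective.comp (hf.comp Matrix.SpecialLinearGroup.toGL_injective)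
    have c1 : Nat.card φ.range = 24 := (Nat.card_congr (MonoidHom.ofInjective hφ).toEquiv).symm.trans S2427.result.1
    have c2 : ∀ t, t ^ 3 = 1 → φ t ∈ centralizer ({a} : Set G) := fun t ht =>
      comm_of_cube e.ord_a (by rw [← map_pow, ht, map_one]) (s.mem_zpowers_a e hb
        (conj_mem_of_mem_norm (f _).2 e.a_mem)
        (Syl.card_centralizer_conj (x := a) (isConj_iff.2 ⟨φ t, rfl⟩) ▸ s.lt_card_cent e))
    rw [kk_sec e.ord_a e.isPGroup (fun x hx => mem_cen.2 (e.a_comm hx)) (L := φ.range) ?_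
      (by rintro _ ⟨t, rfl⟩; exact (f _).2) (by rw [c1]; norm_num) (by rw [m6, c1, e.card_U s.not_dvd_eleven]; norm_num),
      ← FG.card_conjClasses_congr (MonoidHom.ofInjective hφ), S2325.result (by simp; decide), ZMod.card]
    rintro _ ⟨t, rfl⟩
    obtain ⟨i, -, j, -, k, -, m, -, rfl⟩ := gen_sl t
    simp only [map_mul, map_pow]
    exact mul_mem (mul_mem (mul_mem (pow_mem (c2 _ cube_sl.1) _) (pow_mem (c2 _ cube_sl.2) _))
      (pow_mem (c2 _ cube_sl.1) _)) (pow_mem (c2 _ cube_sl.2) _)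
  have k2 : kk (sec 11 b) = 2 := by
    obtain ⟨U, hU⟩ := Sylow.exists_subgroup_card_pow_prime (G := centralizer ({b} : Set G)) 11 (n := 2)
      (by rw [m2]; norm_num)
    obtain ⟨t, ht⟩ := exists_prime_orderOf_dvd_card' (G := centralizer ({b} : Set G)) 2 (by rw [m2]; norm_num)
    have c1 : Nat.card (U.map (Subgroup.subtype _)) = 11 ^ 2 := by rw [card_subtype, hU]
    have c2 : Nat.card (zpowers (t : G)) = 2 := by rw [Nat.card_zpowers, orderOf_coe, ht]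
    have c3 : U.Normal := normal_of_index_eq_two (by have := U.index_mul_card; rw [hU, m2] at this; omega)
    rw [kk_sec e.ord_b (IsPGroup.of_card c1) (map_subtype_le U) (zpowers_le.2 t.2) (zpowers_le.2 ?_)
      (by rw [c2]; norm_num) (by rw [m2, c1, c2]; norm_num), FG.PC.card_conjClasses_of_comm inferInstance, c2]
    exact le_normalizer_map _ ⟨t, by rw [normalizer_eq_top]; trivial, rfl⟩
  have k3 : ¬ IsConj a b := fun h => by have := Syl.card_centralizer_conj h; omega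
  rw [show {a : G | ty (orderOf a) = 5} = sec 11 a ∪ sec 11 b from Set.ext fun y => ⟨fun hy => ?_, fun hy => ?_⟩,
    kk_union (sec_disj e.ord_a e.ord_b k3), k1, k2]
  · obtain ⟨x, hx, h1⟩ := exists_sec s.exp_eleven ((ty_dvd hy).2.2.2.2.2.1 rfl)
    obtain ⟨d, -, hd⟩ := exists_conj_mem_syl hU (mem_top x) (k := 1) (by rw [pow_one, ← hx, pow_orderOf_eq_one])
    have h2 := sec_mono (isConj_iff.2 ⟨d, rfl⟩) h1
    refine (m4 _ hd).imp (fun h3 => sec_mono (e.isConj_a h3 fun h4 => ?_).symm h2)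
      fun ⟨k, _, h3⟩ => sec_mono (isConj_iff.2 ⟨k, h3.symm⟩).symm h2
    rw [conj_eq_one.1 h4, orderOf_one] at hx
    omega
  · rcases hy with hy | hy
    · have := sec_ord e.ord_a hy
      exact (ty_of_dvd (m6 ▸ this.2) (by norm_num)).trans (if_pos this.1)
    · have := sec_ord e.ord_b hy
      exact (ty_of_dvd (m2 ▸ this.2) (by norm_num)).trans (if_pos this.1)

theorem kk_seven : kk {a : G | ty (orderOf a) = 6} = 14 := by
  have : Fact (Nat.Prime 7) := ⟨by norm_num⟩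
  have k1 : ∀ x : G, orderOf x = 7 → kk (sec 7 x) = 7 := fun x hx => by
    obtain ⟨⟨I, ⟨-, h1, -⟩, ⟨e⟩⟩, -⟩ := s.loc_seven (S := zpowers x) (by rw [Nat.card_zpowers, hx])
    have c1 : Nat.card I = 120 := by rw [Nat.card_congr e.toEquiv, Nat.card_perm, Nat.card_fin]; rfl
    have c2 : Nat.card (zpowers x) = 7 ^ 1 := by rw [Nat.card_zpowers, hx, pow_one]
    rw [kk_sec hx (IsPGroup.of_card c2) (zpowers_le.2 (mem_cen.2 rfl)) (cent_zpowers x ▸ h1)
      (h1.trans (centralizer_le_normalizer _)) (by rw [c1]; norm_num) (by rw [s.card_cent7 hx, c1, c2]; norm_num),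
      FG.card_conjClasses_congr e, card_S5]
  obtain ⟨x, hx⟩ := exists_prime_orderOf_dvd_card' (G := G) 7 (by rw [s.card]; norm_num)
  have k2 := kk_prime (n := 12396510149439651840) (m := 3) (by rw [s.card]) (by norm_num) hx
    (by rw [s.card_norm7 hx, s.card_cent7 hx])
  obtain ⟨A, B, k3, k4⟩ := Set.ncard_eq_two.1 (show kk {a : G | orderOf a = 7} = 2 by omega)
  obtain ⟨a, ha, rfl⟩ := k4.ge (Or.inl rfl)
  obtain ⟨b, hb, rfl⟩ := k4.ge (Or.inr rfl)
  rw [show {a : G | ty (orderOf a) = 6} = sec 7 a ∪ sec 7 b from Set.ext fun y => ⟨fun hy => ?_, fun hy => ?_⟩,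
    kk_union (sec_disj ha hb (mt ConjClasses.mk_eq_mk_iff_isConj.2 k3)), k1 a ha, k1 b hb]
  · obtain ⟨x, hx, h1⟩ := exists_sec (exp_of_sq (by rw [s.card]; norm_num)) ((ty_dvd hy).2.2.2.2.2.2.1 rfl)
    exact (k4.le ⟨x, hx, rfl⟩).imp (fun h => sec_mono (ConjClasses.mk_eq_mk_iff_isConj.1 h) h1)
      fun h => sec_mono (ConjClasses.mk_eq_mk_iff_isConj.1 h) h1
  · obtain ⟨x, hx, h1⟩ : ∃ x : G, orderOf x = 7 ∧ y ∈ sec 7 x := hy.elim (⟨a, ha, ·⟩) (⟨b, hb, ·⟩)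
    have h2 := sec_ord hx h1
    rw [s.card_cent7 hx] at h2
    exact (ty_of_dvd h2.2 (by norm_num)).trans
      ((if_neg fun h => absurd (h.trans h2.2) (by norm_num)).trans (if_pos h2.1))

theorem isConj_five {x y : G} (hx : orderOf x = 5) (hy : orderOf y = 5) : IsConj x y := by
  have : Fact (Nat.Prime 5) := ⟨by norm_num⟩
  have k2 := kk_prime (n := 17355114209215512576) (m := 4) (by rw [s.card]) (by norm_num) hx
    (by rw [s.card_norm5 hx, s.card_cent5 hx])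
  obtain ⟨A, k⟩ := Set.ncard_eq_one.1 (show kk {a : G | orderOf a = 5} = 1 by omega)
  exact ConjClasses.mk_eq_mk_iff_isConj.1 ((k.le ⟨x, hx, rfl⟩).trans (k.le ⟨y, hy, rfl⟩).symm)

end StJ

end Cfsg.Agent.J4T
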