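import Mathlib
import Cfsg.Agent.J4T.Main

/-!
Consequences of the final stage: the suborbits of `N(V)`, transported to all conjugates.
-/

set_option autoImplicit false

namespace Cfsg.Agent.J4T

open Cfsg.Agent.Spor Cfsg.Agent.Spor.MB Cfsg.Agent.Spor.J4C Subgroup

variable {G : Type*} [Group G]

theorem map_amW {G' : Type*} [Group G'] (e : G →* G') {val : ℕ → G} {val' : ℕ → G'} (h : ∀ c, e (val c) = val' c)
    (t : G) (w : List ℕ) : e (Am.W val t w) = Am.W val' (e t) w := by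
  induction w with
  | nil => exact map_one e
  | cons c w ih => rw [Am.W_cons, Am.W_cons, map_mul, map_mul, h, ih]

/-- The suborbit data of a subgroup. -/
def RankData (H : Subgroup G) (n : ℕ) (L : List ℕ) : Prop :=
  ∃ c : Fin n → G ⧸ H, (∀ i j : Fin n, i ≠ j → MulAction.orbit H (c i) ≠ MulAction.orbit H (c j)) ∧
    (∀ q : G ⧸ H, ∃ i : Fin n, q ∈ MulAction.orbit H (c i)) ∧
    (List.ofFn fun i => (MulAction.orbit H (c i)).ncard) = L

theorem RankData.map {H H' : Subgroup G} {n : ℕ} {L : List ℕ} (h : RankData H n L) (e : G ≃* G)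
    (he : ∀ a, e a ∈ H' ↔ a ∈ H) : RankData H' n L := by
  obtain ⟨c, h1, h2, h3⟩ := h
  let φ : G ⧸ H ≃ G ⧸ H' := Quotient.congr e.toEquiv fun a b => by
    rw [QuotientGroup.leftRel_apply, QuotientGroup.leftRel_apply, ← he, map_mul, map_inv]
    rfl
  have hφ : ∀ (a : G) (q : G ⧸ H), φ (a • q) = e a • φ q := fun a q => by
    obtain ⟨b, rfl⟩ := QuotientGroup.mk_surjective q
    exact congrArg (QuotientGroup.mk (s := H')) (map_mul e a b)
  have ho : ∀ q, MulAction.orbit H' (φ q) = φ '' MulAction.orbit H q := fun q => by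
    ext y
    constructor
    · rintro ⟨a, rfl⟩
      refine ⟨_, ⟨⟨e.symm a, (he _).1 (by simp)⟩, rfl⟩, (hφ _ _).trans ?_⟩
      exact congrArg (· • φ q) (e.apply_symm_apply a)
    · rintro ⟨_, ⟨a, rfl⟩, rfl⟩
      exact ⟨⟨e a, (he _).2 a.2⟩, (hφ a q).symm⟩
  refine ⟨fun i => φ (c i), fun i j hij e' => h1 i j hij ?_, fun q => ?_, ?_⟩
  · rw [ho, ho] at e'
    exact φ.injective.image_injective e'
  · obtain ⟨i, hi⟩ := h2 (φ.symm q)
    exact ⟨i, ho _ ▸ ⟨_, hi, φ.apply_symm_apply q⟩⟩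
  · rw [← h3]
    congr 1
    funext i
    rw [ho, Set.ncard_image_of_injective _ φ.injective]

theorem orbit_eq_Orb (H : Subgroup G) (x : G) : MulAction.orbit H (x • Am.p0 H) = Am.Orb H x := by
  ext y
  exact ⟨fun ⟨a, e⟩ => ⟨a, a.2, e.symm⟩, fun ⟨a, ha, e⟩ => ⟨⟨a, ha⟩, e.symm⟩⟩

theorem rankData_of_full {ψ : M24 →* G} {t : G} {Z : Finset GolayPt → G} (F : Full ψ t Z) :
    RankData F.H 7 [1, 15180, 28336, 3400320, 32643072, 54405120, 82575360] := by
  refine ⟨fun i => XX ψ Z t i • Am.p0 F.H, fun i j hij e => hij (Fin.ext ?_), fun q => ?_, ?_⟩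
  · rw [orbit_eq_Orb, orbit_eq_Orb] at e
    exact F.sep j j.2 i i.2 (e ▸ Am.self_mem_Orb _ _)
  · obtain ⟨i, hi, h⟩ := F.suborb.cover q
    exact ⟨⟨i, hi⟩, by rwa [orbit_eq_Orb]⟩
  · have : (fun i : Fin 7 => (MulAction.orbit F.H (XX ψ Z t i • Am.p0 F.H)).ncard) = fun i : Fin 7 => orbL i :=
      funext fun i => by rw [orbit_eq_Orb, F.ncard_Orb i i.2]
    rw [this]
    rfl

namespace StJ

variable {z : G} {g l : ℕ → G} {π : centralizer ({z} : Set G) →* PG} {ψ : M24 →* G} (s : StJ z π g l ψ)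

include s

theorem full : Full ψ (l 10) (ZG z g l) := by
  have h : ZS ψ (J4C.zz ψ (l 10)) (ZG z g l) := s.zz.symm ▸ s.t.m.zs
  refine ⟨s.setup, h, fun L h1 h2 => top_le_iff.1 ?_, fun j hj hm => ?_⟩
  · rw [← s.top]
    exact sup_le (by rintro _ ⟨a, rfl⟩; exact h1 a) ((zpowers_le).2 h2)
  obtain ⟨e, e1, e2⟩ := s.exists_equiv
  have e3 : ∀ c, (e : Cfsg.Spor.J4 →* G) (valN psi c) = valN ψ c := fun c => by
    unfold valN J4C.ext
    split_ifs
    exacts [e1 _, map_one _]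
  have e4 : e jz = J4C.zz ψ (l 10) := by
    rw [← e2]
    exact (map_mul e _ _).trans (congrArg₂ (· * ·) (e3 _) (map_amW (e : Cfsg.Spor.J4 →* G) e3 _ _))
  have e5 : XX ψ (ZG z g l) (l 10) j = e (XX psi jZ jt j) := by
    rw [h.XX_eq hj, zs_J4.XX_eq hj]
    refine Eq.trans ?_ (map_evalW (e : Cfsg.Spor.J4 →* G) _ _).symm
    rw [map_g5]
    simp only [MonoidHom.coe_coe, e1, e2, e4]
  obtain ⟨a, ha, e6⟩ := h.HS_le (L := zs_J4.HS.map (e : Cfsg.Spor.J4 →* G))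
    (fun y => ⟨_, zs_J4.psi_mem y, e1 y⟩) ⟨_, zs_J4.z_mem, e4⟩ hm
  exact full_J4.ne j hj (e.injective (e6.trans e5) ▸ ha)

theorem full_H : s.full.H = normalizer (VG z g l : Set G) := by
  rw [s.t.m.hs]
  ext a
  rfl

theorem two_classes [Finite G] : ∃ x y : G, orderOf x = 2 ∧ orderOf y = 2 ∧ ¬ IsConj x y ∧
    ∀ a : G, orderOf a = 2 → IsConj a x ∨ IsConj a y := by
  have h6 := s.t.m.not_conj (x := 64) (by norm_num) (by decide +kernel)
  have h7 := s.t.m.vv_ne_one (x := 64) (by norm_num) (by norm_num)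
  rw [top_vv_64] at h6 h7
  refine ⟨z, l 6, orderOf_eq_prime (by rw [sq, s.x.q.z_sq]) s.x.q.z_ne,
    orderOf_eq_prime (by rw [sq]; exact s.x.vg_sq (i := 6) (by norm_num)) h7, h6, fun a ha => ?_⟩
  exact (s.cls a (by rw [← sq, ← ha, pow_orderOf_eq_one]) (by rintro rfl; simp at ha)).imp IsConj.symm IsConj.symm

end StJ

end Cfsg.Agent.J4T
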