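import Mathlib
import Cfsg.Agent.J4T.TopS
import Cfsg.Agent.J4T.Dict
import Cfsg.Agent.J4T.MxD
import Cfsg.Agent.Rec.Lin

/-!
Matrix codes for all elements of a group of Janko-four type, and coordinates for the normaliser of `V`.
-/

set_option autoImplicit false
set_option linter.unusedSectionVars false
set_option exponentiation.threshold 20000

namespace Cfsg.Agent.J4T

open Cfsg.Agent.Spor Cfsg.Agent.Spor.MB Cfsg.Agent.Spor.J4C Cfsg.Agent.Rec Subgroup

variable {G : Type*} [Group G]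

/-- The arithmetic of matrices of degree 112. -/
noncomputable def arM : Ar := loopAr mM mI (Nat.pow 2 12545)

/-- Evaluate the entries of a list before continuing. -/
noncomputable def withL (l : List ℕ) : (List ℕ → Bool) → Bool :=
  List.rec (motive := fun _ => (List ℕ → Bool) → Bool) (fun k => k [])
    (fun a _ ih k => Spor.force a fun a => ih fun r => k (a :: r)) l

theorem withL_eq (l : List ℕ) (k : List ℕ → Bool) : withL l k = k l := by
  induction l generalizing k with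
  | nil => rfl
  | cons a l ih =>
    have e : withL (a :: l) k = Spor.force a fun a => withL l fun r => k (a :: r) := rfl
    rw [e, Spor.force_eq, ih]

theorem exists_cod_comap {G' : Type*} [Group G'] {A : Ar} (C : Cod A G') (φ : G →* G') (hφ : Function.Injective φ) :
    ∃ C' : Cod A G, ∀ a y, C.Rep a (φ y) → C'.Rep a y := by
  refine ⟨C.map φ.range (MonoidHom.ofInjective hφ).symm.toMonoidHom (MonoidHom.ofInjective hφ).symm.injective,
    fun a y h => ?_⟩
  have k := h.map (MonoidHom.ofInjective hφ).symm.toMonoidHom (MonoidHom.ofInjective hφ).symm.injective ⟨y, rfl⟩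
  rwa [show (MonoidHom.ofInjective hφ).symm.toMonoidHom ⟨φ y, y, rfl⟩ = y from
    (MonoidHom.ofInjective hφ).symm_apply_apply y] at k

theorem repL_words {A : Ar} {C : Cod A G} {c : List ℕ} {e : List G} (h : C.RepL c e) (W : List (List ℕ)) :
    C.RepL (W.map (evC A c)) (W.map (evalW (nth 1 e))) := by
  induction W with
  | nil => exact Cod.repL_nil
  | cons w W ih => exact (h.word w).cons ih

theorem evalW_congr_mem {g g' : ℕ → G} {w : List ℕ} (h : ∀ i ∈ w, g i = g' i) : evalW g w = evalW g' w := by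
  unfold evalW
  rw [List.map_congr_left h]

theorem nth_map_of_lt {α β : Type*} (d : α) (d' : β) (f : α → β) {l : List α} {i : ℕ} (h : i < l.length) :
    nth d' (l.map f) i = f (nth d l i) := by
  rw [nth_of_lt d' (by simpa using h), nth_of_lt d h, List.getElem_map]

/-- The letters `x`, `y`, `y⁻¹`, `t` and the generators of `V`. -/
noncomputable def eL (z : G) (g l : ℕ → G) (ψ : M24 →* G) : List G :=
  [ψ xb, ψ yb, (ψ yb)⁻¹, l 10, g 0, g 1, g 2, g 3, g 4, g 5, l 6, l 7, l 8, l 9, z]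

/-- The element given by a word. -/
noncomputable def eW (z : G) (g l : ℕ → G) (ψ : M24 →* G) (w : List ℕ) : G := evalW (nth 1 (eL z g l ψ)) w

/-- The matrix of a word. -/
noncomputable def mxW (w : List ℕ) : ℕ := evC arM mL w

/-- The codes in `2 ^ 11 : M24` of the letters other than `t`. -/
def hc (i : ℕ) : ℕ := List.getD [nat_lit 0x13473a1dea8b2ce0c004914c8add69, nat_lit 0x1daa09c5e2935015d12ebb0b0390ca, nat_lit 0x3daaa9be448a1c65812d184a2bc194, nat_lit 0xbdab49ca307b9ac5a928398a418820, nat_lit 0x28000bdab49ca307b9ac5a928398a418820, nat_lit 0xec4000bdab49ca307b9ac5a928398a418820, nat_lit 0x82000bdab49ca307b9ac5a928398a418820, nat_lit 0x480000bdab49ca307b9ac5a928398a418820, nat_lit 0x146000bdab49ca307b9ac5a928398a418820, nat_lit 0xdf1000bdab49ca307b9ac5a928398a418820, nat_lit 0x8bc000bdab49ca307b9ac5a928398a418820, nat_lit 0xde0000bdab49ca307b9ac5a928398a418820, nat_lit 0xe3e000bdab49ca307b9ac5a928398a418820, nat_lit 0x104000bdab49ca307b9ac5a928398a418820,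 nat_lit 0x582000bdab49ca307b9ac5a928398a418820] i idc

/-- The word `w` avoids `t` and has the code `c`. -/
noncomputable def wOK (w : List ℕ) (c : ℕ) : Bool :=
  band (Spor.allL w fun i => band (blt i 15) (!Nat.beq i 3)) (Nat.beq (evH hc w) c)

theorem hc_ok (i : ℕ) : okH (hc i) := by
  by_cases h : i < 15
  · exact okH_of ((allLt_iff 15 fun i => hval (hc i)).1 (by decide +kernel) i h)
  · rw [hc, List.getD_eq_default _ _ (by simpa using h)]
    exact okH_of_okN okN_idc

theorem mL_ok : Spor.beqL ((mwL.map fun w => mw0 ++ w ++ mw1).map (evC arM [mX, mY, mW, mT, mZ])) mL = true := by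
  decide +kernel

theorem mw_ok : Nat.beq (evC arM [mX, mY, mW, mT, mZ] (mw0 ++ mw1)) arM.one = true := by decide +kernel

theorem mwL_ok : ∀ k < 11, Nat.beq (evH c5 (nth [] mwL (k + 4))) (vH (2 ^ k)) = true ∧
    Spor.allL (nth [] mwL (k + 4)) (fun i => band (blt i 5) (!Nat.beq i 3)) = true := by decide +kernel

namespace StM

variable {z : G} {g l : ℕ → G} {π : centralizer ({z} : Set G) →* PG} {ψ : M24 →* G} (s : StM z π g l ψ)

include s

theorem valH_hc {i : ℕ} (hi : i < 15) (h3 : i ≠ 3) : valH ψ (ZG z g l) (hc i) = nth 1 (eL z g l ψ) i := by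
  by_cases h : i < 3
  · have e : ∀ i < 3, hc i = c5 i := by decide +kernel
    rw [e i h, (s.zs.valH_c5 i).2]
    interval_cases i <;> rfl
  · obtain ⟨k, rfl⟩ : ∃ k, i = k + 4 := ⟨i - 4, by omega⟩
    have e : ∀ k < 11, hc (k + 4) = vH (2 ^ k) := by decide +kernel
    have hk : k < 11 := by omega
    rw [e k hk, s.valH_vH, vv_two_pow _ _ _ hk]
    interval_cases k <;> rfl

theorem eW_eq {w : List ℕ} {c : ℕ} (h : wOK w c = true) : okH c ∧ eW z g l ψ w = valH ψ (ZG z g l) c := by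
  rw [wOK, band_iff, nbeq_iff, Spor.allL_iff] at h
  have k := s.zs.valH_evH (cs := hc) (g := fun i => valH ψ (ZG z g l) (hc i)) (fun i => ⟨hc_ok i, rfl⟩) w
  rw [h.2] at k
  refine ⟨k.1, (evalW_congr_mem fun i hi => ?_).trans k.2.symm⟩
  have h1 := h.1 i hi
  rw [band_iff, blt_iff, Bool.not_eq_true', ← Bool.not_eq_true, nbeq_iff] at h1
  exact (s.valH_hc h1.1 h1.2).symm

variable [Finite G]

theorem z_ne : z ≠ 1 := s.o.x.q.z_ne

theorem Z_rep {x : ℕ} (hx : x < 2048) : ZG z g l (unmask (Split.rep x)) = vv z g l x := by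
  rw [ZG, mask_unmask (Split.rep_ok hx).2.1, (Split.rep_ok hx).1]

theorem even_rep {x : ℕ} (hx : x < 2048) : Even (unmask (Split.rep x)).card := by
  rw [card_unmask, Nat.even_iff]; exact (Split.rep_ok hx).2.2

theorem conj_vv (y : M24) {x : ℕ} (hx : x < 2048) :
    ψ y * vv z g l x * (ψ y)⁻¹ = vv z g l (Split.va (code y) x) := by
  rw [← s.Z_rep hx, s.top_psi_conj y (s.even_rep hx), ZG, mask_smul, mask_unmask (Split.rep_ok hx).2.1, Split.va_eq]

theorem psi_vv (y : M24) {x : ℕ} (hx : x < 2048) :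
    ψ y * vv z g l x = vv z g l (Split.va (code y) x) * ψ y := by
  rw [← s.conj_vv y hx, inv_mul_cancel_right]

theorem vv_mem (x : ℕ) : vv z g l x ∈ VG z g l := gp_mem (fun _ hi => mem_genLt _ hi) x

theorem vv_comm (x y : ℕ) : vv z g l x * vv z g l y = vv z g l y * vv z g l x := by
  rw [← s.o.x.vv_xor, ← s.o.x.vv_xor, Nat.xor_comm]

theorem vv_sq (x : ℕ) : vv z g l x * vv z g l x = 1 := by rw [← s.o.x.vv_xor, Nat.xor_self, s.o.x.vv_zero]

theorem vv_inv (x : ℕ) : (vv z g l x)⁻¹ = vv z g l x := inv_eq_of_mul_eq_one_right (s.vv_sq x)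

theorem mem_N {n : G} : n ∈ normalizer (VG z g l : Set G) ↔ ∃ x < 2048, ∃ y : M24, n = vv z g l x * ψ y := by
  rw [s.hs, s.zs.mem_HS]
  constructor
  · rintro ⟨u, y, rfl⟩
    exact ⟨_, lam_lt _, y, rfl⟩
  · rintro ⟨x, hx, y, rfl⟩
    exact ⟨_, y, by rw [s.Z_rep hx]⟩

theorem psi_mem (y : M24) : ψ y ∈ normalizer (VG z g l : Set G) :=
  s.mem_N.2 ⟨0, by norm_num, y, by rw [s.o.x.vv_zero, one_mul]⟩

theorem vv_psi_inj {x x' : ℕ} (hx : x < 2048) (hx' : x' < 2048) {y y' : M24}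
    (e : vv z g l x * ψ y = vv z g l x' * ψ y') : x = x' ∧ y = y' := by
  have h := s.zs.mul_inj s.z_ne (s.VS_eq ▸ s.vv_mem x) (s.VS_eq ▸ s.vv_mem x') e
  exact ⟨s.o.x.vv_inj hx hx' h.1, h.2⟩

/-- Conjugation of an element of `V` by an element of its normaliser. -/
theorem conj_vv' (a : ℕ) (y : M24) {x : ℕ} (hx : x < 2048) :
    vv z g l a * ψ y * vv z g l x * (vv z g l a * ψ y)⁻¹ = vv z g l (Split.va (code y) x) := by
  rw [show vv z g l a * ψ y * vv z g l x * (vv z g l a * ψ y)⁻¹ =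
    vv z g l a * (ψ y * vv z g l x * (ψ y)⁻¹) * (vv z g l a)⁻¹ by group, s.conj_vv y hx, s.vv_comm,
    mul_inv_cancel_right]

theorem comm_vv_iff (a : ℕ) (y : M24) {x : ℕ} (hx : x < 2048) :
    vv z g l a * ψ y * vv z g l x = vv z g l x * (vv z g l a * ψ y) ↔ Split.va (code y) x = x := by
  rw [← mul_inv_eq_iff_eq_mul, s.conj_vv' a y hx]
  exact ⟨s.o.x.vv_inj (Split.va_lt _ _) hx, fun h => by rw [h]⟩

/-- The product of two elements of the normaliser of `V`. -/
theorem mul_N (a : ℕ) (y : M24) {b : ℕ} (hb : b < 2048) (y' : M24) :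
    vv z g l a * ψ y * (vv z g l b * ψ y') = vv z g l (a ^^^ Split.va (code y) b) * ψ (y * y') := by
  rw [s.o.x.vv_xor, ← s.conj_vv y hb, map_mul]; group

omit [Finite G] in
theorem valH_split {c : ℕ} (h : hi c < 2 ^ 24) :
    valH ψ (ZG z g l) c = vv z g l (lam (hi c)) * valN ψ (lo c) := by
  rw [valH, ZG, mask_unmask h]

end StM

theorem valN_toPerm (ψ : M24 →* G) {c : ℕ} (h : inM24 c = true) : valN ψ c = ψ ⟨toPerm c, toPerm_mem h⟩ := by
  conv_lhs => rw [← code_toPerm' h]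
  rw [valN_code, ext_of_mem]

theorem valN_coe (ψ : M24 →* G) (y : M24) : valN ψ (code y) = ψ y := by rw [valN_code, ext_coe]

namespace StJ

variable {z : G} {g l : ℕ → G} {π : centralizer ({z} : Set G) →* PG} {ψ : M24 →* G} (s : StJ z π g l ψ)

include s

theorem exists_cod5 : ∃ C : Cod arM G, C.RepL [mX, mY, mW, mT, mZ] [ψ xb, ψ yb, (ψ yb)⁻¹, l 10, z] := by
  obtain ⟨e, e1, e2⟩ := s.exists_equiv
  have e3 : ∀ c, (e : Cfsg.Spor.J4 →* G) (valN psi c) = valN ψ c := fun c => by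
    unfold valN J4C.ext
    split_ifs
    exacts [e1 _, map_one _]
  have e4 : e jz = z := by
    rw [← s.zz, ← e2]
    exact (map_mul e _ _).trans (congrArg₂ (· * ·) (e3 _) (map_amW (e : Cfsg.Spor.J4 →* G) e3 _ _))
  have : Finite GL112 := Finite.of_equiv _ (NM.F2.toGL 112).symm.toEquiv
  have hf : 2 * Nat.card GL112 ≤ Nat.pow 2 12545 := by
    rw [Nat.card_congr (NM.F2.toGL 112).toEquiv]
    exact card_GL_le 112
  obtain ⟨C, hC⟩ := exists_cod_comap (loopCod MM hf) (phi.comp e.symm.toMonoidHom)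
    (phi_injective.comp e.symm.injective)
  have k : ∀ i < 5, C.Rep (m5 i) (e (j5 i)) := fun i hi => hC _ _
    ⟨(j5_spec i hi).1, (j5_spec i hi).2.symm.trans (congrArg phi (e.symm_apply_apply _).symm)⟩
  have k0 := k 0 (by norm_num)
  have k1 := k 1 (by norm_num)
  have k2 := k 2 (by norm_num)
  have k3 := k 3 (by norm_num)
  have k4 := k 4 (by norm_num)
  rw [j5] at k0 k1 k2 k3 k4
  rw [g5_0, ← psi_x, e1] at k0
  rw [g5_1, ← psi_y, e1] at k1
  rw [g5_2, map_inv, ← psi_y, e1] at k2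
  rw [g5_3, e2] at k3
  rw [g5_4, e4] at k4
  exact ⟨C, k0.cons (k1.cons (k2.cons (k3.cons (k4.cons Cod.repL_nil))))⟩

/-- Matrix codes for the elements of `G`. -/
theorem exists_cod : ∃ C : Cod arM G, C.RepL mL (eL z g l ψ) := by
  obtain ⟨C, hC⟩ := s.exists_cod5
  set e5 := [ψ xb, ψ yb, (ψ yb)⁻¹, l 10, z] with he5
  have h1 : evalW (nth 1 e5) mw1 = (evalW (nth 1 e5) mw0)⁻¹ := by
    refine eq_inv_of_mul_eq_one_right ?_
    rw [← evalW_append]
    exact ((hC.word _).eq_iff Cod.rep_one).1 ((nbeq_iff _ _).1 mw_ok)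
  obtain ⟨C', hC'⟩ := exists_cod_comap C (MulAut.conj (evalW (nth 1 e5) mw0)).toMonoidHom (MulAut.conj _).injective
  have h2 := hC.words _ mL_ok
  have h3 : mwL.map (evalW (nth 1 e5)) = eL z g l ψ := by
    have k : ∀ k < 11, evalW (nth 1 e5) (nth [] mwL (k + 4)) = vg z g l k := fun k hk => by
      rw [← vv_two_pow _ _ _ hk, ← s.t.m.valH_vH, s.t.m.zs.valH_word (mwL_ok k hk).1]
      refine evalW_congr_mem fun i hi => ?_
      have h := (Spor.allL_iff _ _).1 (mwL_ok k hk).2 i hi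
      rw [band_iff, blt_iff, Bool.not_eq_true', ← Bool.not_eq_true, nbeq_iff] at h
      obtain ⟨h5, h3⟩ := h
      interval_cases i
      exacts [rfl, rfl, rfl, absurd rfl h3, rfl]
    have k1 : ∀ i, evalW (nth 1 e5) [i] = nth 1 e5 i := fun i => by rw [evalW_cons, evalW_nil, mul_one]
    exact List.cons_eq_cons.2 ⟨k1 0, List.cons_eq_cons.2 ⟨k1 1, List.cons_eq_cons.2 ⟨k1 2, List.cons_eq_cons.2 ⟨k1 3,
      List.cons_eq_cons.2 ⟨k 0 (by norm_num), List.cons_eq_cons.2 ⟨k 1 (by norm_num),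
      List.cons_eq_cons.2 ⟨k 2 (by norm_num), List.cons_eq_cons.2 ⟨k 3 (by norm_num),
      List.cons_eq_cons.2 ⟨k 4 (by norm_num), List.cons_eq_cons.2 ⟨k 5 (by norm_num),
      List.cons_eq_cons.2 ⟨k 6 (by norm_num), List.cons_eq_cons.2 ⟨k 7 (by norm_num),
      List.cons_eq_cons.2 ⟨k 8 (by norm_num), List.cons_eq_cons.2 ⟨k 9 (by norm_num),
      List.cons_eq_cons.2 ⟨k 10 (by norm_num), rfl⟩⟩⟩⟩⟩⟩⟩⟩⟩⟩⟩⟩⟩⟩⟩
  refine ⟨C', ?_⟩
  rw [← h3]
  rw [List.map_map] at h2
  refine List.forall₂_map_right_iff.2 ((List.forall₂_map_right_iff.1 h2).imp fun a w h => hC' _ _ ?_)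
  rwa [Function.comp_apply, evalW_append, evalW_append, h1] at h

/-- Words with their matrices. -/
theorem exists_cod_words : ∃ C : Cod arM G, ∀ W : List (List ℕ), C.RepL (W.map mxW) (W.map (eW z g l ψ)) := by
  obtain ⟨C, hC⟩ := s.exists_cod
  exact ⟨C, repL_words hC⟩

end StJ

end Cfsg.Agent.J4T
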