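import Mathlib
import Cfsg.Agent.J4T.ClsB
import Cfsg.Agent.J4T.ClsCD
import Cfsg.Agent.J4T.Mx

/-!
The classes of 2-elements.
-/

set_option autoImplicit false

namespace Cfsg.Agent.J4T

open Cfsg.Agent.Spor Cfsg.Agent.Spor.MB Cfsg.Agent.Spor.J4C Cfsg.Agent.Rec Subgroup Cfsg.Agent.Inv.Fz

variable {G : Type*} [Group G]

namespace Cls

/-- Several walks; each of them starts at a code that was already visited. -/
noncomputable def mw (a : ℕ → ℕ → ℕ) (ok : ℕ → Bool) (k : List ℕ → Bool) (S : List (List ℕ × ℕ × ℕ × ℕ)) :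
    List ℕ → Bool :=
  List.rec (motive := fun _ => List ℕ → Bool) k
    (fun t _ ih acc => band (band (MB.allL ok t.1) (MB.memL acc t.2.1))
      (withL (walkAux a t.1 t.2.1 t.2.2.1 t.2.2.2 [t.2.1] acc) ih)) S

theorem mw_spec {a : ℕ → ℕ → ℕ} {ok : ℕ → Bool} {k : List ℕ → Bool} {P : ℕ → Prop}
    (hP : ∀ c, (ok c = true ∨ c = idc) → ∀ x, P x → P (a c x)) (S : List (List ℕ × ℕ × ℕ × ℕ)) :
    ∀ acc, (∀ x ∈ acc, P x) → mw a ok k S acc = true → ∃ W, (∀ x ∈ W, P x) ∧ k W = true := by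
  induction S with
  | nil => exact fun acc h1 h2 => ⟨acc, h1, h2⟩
  | cons t S ih =>
    intro acc h1 h2
    have e : mw a ok k (t :: S) acc = band (band (MB.allL ok t.1) (MB.memL acc t.2.1))
      (withL (walkAux a t.1 t.2.1 t.2.2.1 t.2.2.2 [t.2.1] acc) (mw a ok k S)) := rfl
    rw [e, band_iff, band_iff, withL_eq, MB.allL_iff, MB.memL_iff] at h2
    exact ih _ (walkAux_spec (fun c hc => hP c (hc.imp_left (h2.1.1 c))) (h1 _ h2.1.2) _ _ _ _
      (by simpa using h1 _ h2.1.2) h1) h2.2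

/-- Conjugation of permutation codes. -/
noncomputable def cjF (c x : ℕ) : ℕ :=
  Spor.force c fun c => Spor.force x fun x => Spor.force (mul c x) fun y => Spor.force (inv c) fun d => mul y d

/-- Conjugation by `t` (for `c = 0`) or by the element with code `c`. -/
noncomputable def mv (c x : ℕ) : ℕ :=
  Spor.force c fun c => Spor.force x fun x =>
    Bool.rec (hmul (hmul c x) (hinv c)) (Bool.rec x (thK x) (inK x)) (Nat.beq c 0)

theorem mv_eq (c x : ℕ) :
    mv c x = Bool.rec (hmul (hmul c x) (hinv c)) (Bool.rec x (thK x) (inK x)) (Nat.beq c 0) :=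
  (Spor.force_eq _ _).trans (Spor.force_eq _ _)

/-- Admissible first arguments of `mv`. -/
noncomputable def mvOK (c : ℕ) : Bool := bor (Nat.beq c 0) (hval c)

/-- Reduction modulo an echelon basis. -/
noncomputable def redB (bs : List (ℕ × ℕ × ℕ)) (x : ℕ) : ℕ :=
  List.rec x (fun t _ ih => Spor.force ih fun r =>
    Nat.rec r (fun _ _ => Nat.xor r t.2.2) (Nat.land (Nat.shiftRight r t.1) 1)) bs

/-- The list `bs` consists of commutators with `y`. -/
noncomputable def bsOK (y : ℕ) (bs : List (ℕ × ℕ × ℕ)) : Bool :=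
  List.rec true (fun t _ ih => band (band (blt t.2.1 2048) (Nat.beq t.2.2 (Nat.xor t.2.1 (Split.va y t.2.1)))) ih) bs

/-- The cocode parts of the members of `W` with permutation part `y`. -/
noncomputable def ovr (y : ℕ) (W : List ℕ) : List ℕ :=
  List.rec [] (fun c _ ih => Bool.rec ih (hi c :: ih) (Nat.beq (lo c) y)) W

theorem mem_ovr {y m : ℕ} {W : List ℕ} (h : m ∈ ovr y W) : ∃ c ∈ W, lo c = y ∧ hi c = m := by
  induction W with
  | nil => cases h
  | cons c W ih =>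
    have e : ovr y (c :: W) = Bool.rec (ovr y W) (hi c :: ovr y W) (Nat.beq (lo c) y) := rfl
    rw [e] at h
    cases h1 : Nat.beq (lo c) y with
    | false => exact (ih (by rwa [h1] at h)).imp fun _ k => ⟨List.mem_cons_of_mem _ k.1, k.2⟩
    | true =>
      rw [h1] at h
      exact (List.mem_cons.1 h).elim (fun k => ⟨c, List.mem_cons_self, Nat.eq_of_beq_eq_true h1, k.symm⟩)
        fun k => (ih k).imp fun _ k => ⟨List.mem_cons_of_mem _ k.1, k.2⟩

/-- All reduced elements over the representative number `j` occur in `W`. -/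
noncomputable def chk2 (W : List ℕ) (j : ℕ) : Bool :=
  Spor.force (yL j) fun y => Spor.force (pvL j) fun m => band (bsOK y (bsL j)) (withL (ovr y W) fun U =>
    allRange 0 2048 fun x => band (Nat.beq (Nat.land (redB (bsL j) x) m) 0) (bor (!Nat.beq (Nat.land x m) 0)
      (Spor.force (vM x) (MB.memL U))))

/-- The `Q`-parts of the representatives. -/
def ra (i : ℕ) : ℕ := List.getD [0, 4096, 0, 65, 1284, 0, 64, 64, 576, 64] i 0

/-- The words of the representatives. -/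
def rv (i : ℕ) : List ℕ := List.getD [[], [], [6], [], [6], [1, 7], [1, 8], [1, 5, 7, 9], [1, 7], [1, 2, 1, 3, 2, 9]] i []

/-- The codes of the letters. -/
noncomputable def hL (i : ℕ) : ℕ := if i < 6 then sL i else if i < 10 then vH (2 ^ i) else idc

/-- The codes of the representatives. -/
noncomputable def rH (i : ℕ) : ℕ := hmul (qH (ra i)) (evH hL (rv i))

/-- Representatives of the classes of 2-elements. -/
def rT (z : G) (g l : ℕ → G) (i : ℕ) : G := qv z g (ra i) * evalW l (rv i)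

/-- Repeated squaring. -/
noncomputable def hsq (c k : ℕ) : ℕ := Nat.rec c (fun _ ih => Spor.force ih fun r => hmul r r) k

/-- The representative `i > 0` has order `2 ^ (ek i + 1)`. -/
def ek (i : ℕ) : ℕ := List.getD [0, 0, 0, 1, 1, 1, 2, 2, 2, 3] i 0

/-- The mask of the fixed points. -/
def fxm (c : ℕ) : ℕ := orN (fun i => if ap c i = i then 2 ^ i else 0) 24

/-- The numbers of fixed points of a permutation and of its square. -/
noncomputable def nfx (c : ℕ) : ℕ := Spor.force c fun c => 32 * pc (fxm c) + pc (fxm (mul c c))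

theorem card_fix (g : PG) : (fixSet g).card = pc (fxm (code g)) := by
  rw [← card_unmask]
  refine congrArg _ (Finset.ext fun p => ?_)
  rw [mem_fixSet, mem_unmask, fxm, testBit_orN]
  refine ⟨fun h => ⟨ix p, ix_lt p, by rw [ap_code_ix, h, if_pos rfl, Nat.testBit_two_pow_self]⟩, fun ⟨i, _, h⟩ => ?_⟩
  split_ifs at h with h1
  · rw [Nat.testBit_two_pow, decide_eq_true_iff] at h
    subst h
    exact ix_injective (ap_code_ix g p ▸ h1)
  · simp at h

theorem nfx_conj (k g : PG) : nfx (code (k * g * k⁻¹)) = nfx (code g) := by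
  rw [nfx, nfx, Spor.force_eq, Spor.force_eq, ← code_mul, ← code_mul, ← card_fix, ← card_fix, ← card_fix, ← card_fix,
    conj_mul, card_fixSet_conj, card_fixSet_conj]

theorem nfx_eq {z a b : G} {π : centralizer ({z} : Set G) →* PG} {c d n : ℕ} (ha : VB.Pc π a c) (hb : VB.Pc π b d)
    (h1 : a ^ n = z) (h2 : b ^ n = z) (h : IsConj a b) : nfx c = nfx d := by
  obtain ⟨k, rfl⟩ := isConj_iff.1 h
  obtain ⟨a1, rfl⟩ := ha
  obtain ⟨b1, rfl⟩ := hb
  have hk : k ∈ centralizer ({z} : Set G) := mem_cen'.2 (by rwa [conj_pow, h1] at h2)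
  rw [← nfx_conj (π ⟨k, hk⟩), ← map_inv, ← map_mul, ← map_mul]
  rfl

theorem lev1 : mw cjF inM24 (fun W => MB.beqL (msort id 1024 W) (msort id 1024 P2L)) sp1
    ((List.range 7).map yL) = true := by decide +kernel

theorem lev2 : withL ((List.range 10).map rH) (mw mv mvOK (fun W => allRange 1 6 (chk2 W)) sp2) = true := by
  decide +kernel

theorem rv_lt : ∀ i < 10, lettersLt 11 (rv i) = true ∧ ∀ j ∈ rv i, j < 10 := by decide +kernel

theorem hsq_rH : ∀ i < 10, i ≠ 0 → hsq (rH i) (ek i) = vH (if i % 3 = 2 ∧ i < 6 then 64 else 1024) := by decide +kernel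

theorem inv_ne : ∀ i < 10, ∀ j < i, j = 0 ∨ ek i ≠ ek j ∨ ¬ (i % 3 = 2 ∧ i < 6 ↔ j % 3 = 2 ∧ j < 6) ∨
    ¬ (i % 3 = 2 ∧ i < 6) ∧ nfx (VB.pev (rv i)) ≠ nfx (VB.pev (rv j)) := by decide +kernel

theorem cover_M {y : PG} (hy : y ∈ M24) {n : ℕ} (h : y ^ 2 ^ n = 1) :
    ∃ k ∈ M24, ∃ j < 7, code (k * y * k⁻¹) = yL j := by
  obtain ⟨W, h1, h2⟩ := mw_spec (P := fun x => ∃ u ∈ M24, code u = x ∧ ∃ k ∈ M24, ∃ j < 7, code (k * u * k⁻¹) = yL j)
    (fun c hc x ⟨u, hu, e, k, hk, j, hj, e'⟩ => by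
      obtain ⟨w, hw, rfl⟩ : okN c := hc.elim okN_of (· ▸ okN_idc)
      refine ⟨w * u * w⁻¹, mul_mem (mul_mem hw hu) (inv_mem hw), ?_, k * w⁻¹, mul_mem hk (inv_mem hw), j, hj, ?_⟩
      · simp only [cjF, Spor.force_eq, code_mul, code_inv, e]
      · exact (congrArg code (by group)).trans e') _ _ (fun x hx => by
      obtain ⟨j, hj, rfl⟩ := List.mem_map.1 hx
      rw [List.mem_range] at hj
      obtain ⟨u, hu, e⟩ := okN_of ((by decide +kernel : ∀ j < 7, inM24 (yL j) = true) j hj)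
      exact ⟨u, hu, e, 1, one_mem _, j, hj, by rw [one_mul, inv_one, mul_one, e]⟩) lev1
  have h3 := (msort_perm id 1024 W).symm.trans (MB.eq_of_beqL h2 ▸ msort_perm id 1024 P2L)
  rw [List.map_id, List.map_id] at h3
  obtain ⟨w, hw, e⟩ := exists_conj_of_sylow gens_gP2 listGrp_gP2 (factorization_M24 2 10
    (factorization_eq_of (by norm_num) (by norm_num) (by norm_num))) (q := MB.memL W)
    (MB.allL_iff.2 fun x hx => MB.memL_iff.2 (h3.mem_iff.2 hx)) hy h
  obtain ⟨u, -, e1, k, hk, j, hj, e2⟩ := h1 _ (MB.memL_iff.1 e)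
  refine ⟨k * w, mul_mem hk hw, j, hj, ?_⟩
  rw [← e2, code_injective e1]
  exact congrArg code (by group)

end Cls

open Cls

namespace StM

variable [Finite G] {z : G} {g l : ℕ → G} {π : centralizer ({z} : Set G) →* PG} {ψ : M24 →* G}
  (s : StM z π g l ψ)

include s

theorem pow_N {x : ℕ} (hx : x < 2048) (y : M24) (n : ℕ) : ∃ a < 2048, (vv z g l x * ψ y) ^ n = vv z g l a * ψ (y ^ n) := by
  induction n with
  | zero => exact ⟨0, by norm_num, by rw [pow_zero, pow_zero, map_one, s.o.x.vv_zero, one_mul]⟩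
  | succ n ih =>
    obtain ⟨a, ha, e⟩ := ih
    exact ⟨_, Split.xor_lt hx (Split.va_lt _ _), by rw [pow_succ', e, s.mul_N _ _ ha, pow_succ']⟩

theorem conj_red (y : M24) {bs : List (ℕ × ℕ × ℕ)} (h : bsOK (code y) bs = true) {x : ℕ} (hx : x < 2048) :
    redB bs x < 2048 ∧ IsConj (vv z g l x * ψ y) (vv z g l (redB bs x) * ψ y) := by
  induction bs with
  | nil => exact ⟨hx, IsConj.refl _⟩
  | cons t bs ih =>
    have e1 : bsOK (code y) (t :: bs) = band (band (blt t.2.1 2048)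
      (Nat.beq t.2.2 (Nat.xor t.2.1 (Split.va (code y) t.2.1)))) (bsOK (code y) bs) := rfl
    have e2 : redB (t :: bs) x = Spor.force (redB bs x) fun r =>
      Nat.rec r (fun _ _ => Nat.xor r t.2.2) (Nat.land (Nat.shiftRight r t.1) 1) := rfl
    rw [e1, band_iff, band_iff, blt_iff, nbeq_iff] at h
    obtain ⟨h1, h2⟩ := ih h.2
    rw [e2, Spor.force_eq]
    cases Nat.land (Nat.shiftRight (redB bs x) t.1) 1 with
    | zero => exact ⟨h1, h2⟩
    | succ n =>
      show redB bs x ^^^ t.2.2 < 2048 ∧ IsConj _ (vv z g l (redB bs x ^^^ t.2.2) * ψ y)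
      rw [h.1.2]
      refine ⟨Split.xor_lt h1 (Split.xor_lt h.1.1 (Split.va_lt _ _)), h2.trans (isConj_iff.2 ⟨vv z g l t.2.1, ?_⟩)⟩
      rw [s.vv_inv, mul_assoc, mul_assoc, s.psi_vv y h.1.1, Nat.xor_eq, s.o.x.vv_xor, s.o.x.vv_xor, ← mul_assoc,
        s.vv_comm t.2.1]
      simp only [mul_assoc]

omit [Finite G] in
theorem valH_rH {i : ℕ} (hi : i < 10) : okH (rH i) ∧ valH ψ (ZG z g l) (rH i) = rT z g l i := by
  have h1 := s.zs.valH_evH (cs := hL) (g := fun i => if i < 10 then l i else 1) (fun i => by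
    unfold hL
    split_ifs with h1 h2 h2
    · have h := okN_of ((by decide +kernel : ∀ i < 6, inM24 (sL i) = true) i h1)
      exact ⟨okH_of_okN h, by rw [s.zs.valH_of_okN h, s.sl i h1]⟩
    · omega
    · exact ⟨okH_vH _, by rw [s.valH_vH, vv_letter _ _ _ (by omega) h2]⟩
    · exact ⟨okH_of_okN okN_idc, s.zs.valH_one⟩) (rv i)
  have h2 := s.valH_qH (ra i)
  have h3 := s.zs.valH_mul h2.1 h1.1
  refine ⟨h3.1, h3.2.trans ?_⟩
  rw [h2.2, h1.2, rT, evalW_congr_mem fun j hj => if_pos ((rv_lt i hi).2 j hj)]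

omit [Finite G] in
theorem valH_hsq {c : ℕ} (hc : okH c) (k : ℕ) :
    okH (hsq c k) ∧ valH ψ (ZG z g l) (hsq c k) = valH ψ (ZG z g l) c ^ 2 ^ k := by
  induction k with
  | zero => exact ⟨hc, (pow_one _).symm⟩
  | succ k ih =>
    have e : hsq c (k + 1) = Spor.force (hsq c k) fun r => hmul r r := rfl
    have h := s.zs.valH_mul ih.1 ih.1
    rw [e, Spor.force_eq]
    exact ⟨h.1, by rw [h.2, ih.2, pow_succ, pow_mul, sq]⟩

omit [Finite G] in
theorem rT_pow {i : ℕ} (hi : i < 10) (h0 : i ≠ 0) :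
    rT z g l i ^ 2 ^ ek i = vv z g l (if i % 3 = 2 ∧ i < 6 then 64 else 1024) := by
  rw [← (s.valH_rH hi).2, ← (s.valH_hsq (s.valH_rH hi).1 _).2, hsq_rH i hi h0, s.valH_vH]

omit [Finite G] in
theorem rT_zero : rT z g l 0 = 1 := by
  show qv z g 0 * 1 = 1
  rw [s.o.x.q.qv_zero, one_mul]

theorem ord_rT {i : ℕ} (hi : i < 10) (h0 : i ≠ 0) : orderOf (rT z g l i) = 2 ^ (ek i + 1) :=
  orderOf_eq_prime_pow (by rw [s.rT_pow hi h0]; split_ifs <;> exact s.vv_ne_one (by norm_num) (by norm_num))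
    (by rw [pow_succ, pow_mul, s.rT_pow hi h0, sq, s.vv_sq])

theorem nc_two {i : ℕ} (hi : i < 10) {j : ℕ} (hj : j < i) : ¬ IsConj (rT z g l i) (rT z g l j) := fun h => by
  have h1 := ord_eq h
  have hi0 : i ≠ 0 := by omega
  by_cases h0 : j = 0
  · rw [h0, s.rT_zero, orderOf_one, s.ord_rT hi hi0] at h1
    simp at h1
  have hj' : j < 10 := by omega
  rw [s.ord_rT hi hi0, s.ord_rT hj' h0] at h1
  have h2 : ek i = ek j := by simpa using h1
  have h3 := s.rT_pow hi hi0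
  have h4 := h2 ▸ s.rT_pow hj' h0
  have h5 := h.pow (2 ^ ek i)
  have h6 := s.not_conj (x := 64) (by norm_num) (by decide +kernel)
  rw [h3, h4] at h5
  have h7 : (i % 3 = 2 ∧ i < 6) ↔ (j % 3 = 2 ∧ j < 6) := by
    split_ifs at h5 with a b b
    · exact iff_of_true a b
    · exact absurd (s.o.x.vv_z ▸ h5.symm) h6
    · exact absurd (s.o.x.vv_z ▸ h5) h6
    · exact iff_of_false a b
  obtain ⟨h8, h9⟩ := (((inv_ne i hi j hj).resolve_left h0).resolve_left (not_not.2 h2)).resolve_left (not_not.2 h7)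
  rw [if_neg h8, s.o.x.vv_z] at h3
  rw [if_neg (mt h7.2 h8), s.o.x.vv_z] at h4
  exact h9 (nfx_eq (VB.pc_Q_mul s.o.x (s.o.x.q.qv_mem _) (VB.pc_w s.o.x (rv_lt i hi).1))
    (VB.pc_Q_mul s.o.x (s.o.x.q.qv_mem _) (VB.pc_w s.o.x (rv_lt j hj').1)) h3 h4 h)

end StM

namespace StJ

variable [Finite G] {z : G} {g l : ℕ → G} {π : centralizer ({z} : Set G) →* PG} {ψ : M24 →* G} (s : StJ z π g l ψ)

include s

omit [Finite G] in
theorem mv_conj {c x : ℕ} (hc : mvOK c = true ∨ c = idc) (hx : okH x) :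
    okH (mv c x) ∧ IsConj (valH ψ (ZG z g l) x) (valH ψ (ZG z g l) (mv c x)) := by
  rw [mv_eq]
  cases h : Nat.beq c 0 with
  | true =>
    cases h1 : inK x with
    | false => exact ⟨hx, IsConj.refl _⟩
    | true =>
      have h2 := s.t.setup2.good_thK hx h1
      exact ⟨h2.2.1, isConj_iff.2 ⟨(l 10)⁻¹, by rw [mul_assoc, inv_inv, h2.2.2, inv_mul_cancel_left]⟩⟩
  | false =>
    have h1 : okH c := hc.elim (fun h1 => okH_of (((bor_iff _ _).1 h1).resolve_left (by simp [h])))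
      (· ▸ okH_of_okN okN_idc)
    have h2 := s.t.m.zs.valH_mul h1 hx
    have h3 := s.t.m.zs.valH_inv h1
    have h4 := s.t.m.zs.valH_mul h2.1 h3.1
    exact ⟨h4.1, isConj_iff.2 ⟨_, by rw [← h3.2, ← h2.2, ← h4.2]⟩⟩

omit [Finite G] in
/-- The codes visited by walks are conjugate to the starting codes. -/
theorem mw_conj {k : List ℕ → Bool} {S : List (List ℕ × ℕ × ℕ × ℕ)} {f : ℕ → ℕ} {n : ℕ} (hf : ∀ i < n, okH (f i))
    (h : withL ((List.range n).map f) (mw mv mvOK k S) = true) : ∃ W, k W = true ∧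
      ∀ x ∈ W, ∃ i < n, IsConj (valH ψ (ZG z g l) x) (valH ψ (ZG z g l) (f i)) := by
  rw [withL_eq] at h
  obtain ⟨W, h1, h2⟩ := mw_spec
    (P := fun x => okH x ∧ ∃ i < n, IsConj (valH ψ (ZG z g l) x) (valH ψ (ZG z g l) (f i)))
    (fun c hc x ⟨h1, i, hi, h2⟩ => ⟨(s.mv_conj hc h1).1, i, hi, (s.mv_conj hc h1).2.symm.trans h2⟩) _ _
    (fun x hx => by
      obtain ⟨j, hj, rfl⟩ := List.mem_map.1 hx
      rw [List.mem_range] at hj
      exact ⟨hf j hj, j, hj, IsConj.refl _⟩) h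
  exact ⟨W, h2, fun x hx => (h1 x hx).2⟩

theorem cover_two {a : G} {n : ℕ} (h : a ^ 2 ^ n = 1) : ∃ i < 10, IsConj a (rT z g l i) := by
  obtain ⟨d, -, hd⟩ := exists_conj_mem_syl s.x.syl_T (mem_top a) h
  obtain ⟨x, hx, y, e⟩ := s.t.m.mem_N.1 (s.x.T_le_A hd).2
  obtain ⟨b, hb, e1⟩ := s.t.m.pow_N hx y (2 ^ n)
  rw [← e, conj_pow, h, mul_one, mul_inv_cancel, ← mul_one 1, ← map_one ψ] at e1
  nth_rw 1 [map_one ψ, ← s.x.vv_zero] at e1
  obtain ⟨k, hk, j, hj, e2⟩ := cover_M y.2 (congrArg Subtype.val (s.t.m.vv_psi_inj (by norm_num) hb e1).2.symm)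
  suffices h : ∃ i < 10, IsConj (vv z g l (Split.va (code k) x) * ψ (⟨k, hk⟩ * y * ⟨k, hk⟩⁻¹)) (rT z g l i) from
    h.imp fun i h => ⟨h.1, (isConj_iff.2 ⟨ψ ⟨k, hk⟩ * d, by
      rw [← s.t.m.conj_vv ⟨k, hk⟩ hx, map_mul, map_mul, map_inv, conj_mul, ← e]; group⟩).trans h.2⟩
  replace e2 : code (⟨k, hk⟩ * y * ⟨k, hk⟩⁻¹ : M24) = yL j := e2
  generalize (⟨k, hk⟩ * y * ⟨k, hk⟩⁻¹ : M24) = u at e2
  have hv := Split.va_lt (code k) x
  generalize Split.va (code k) x = v at hv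
  by_cases h0 : j = 0
  · obtain rfl : u = 1 := Subtype.ext (eq_one_iff_code.2 (e2.trans (h0 ▸ by decide +kernel)))
    rw [map_one, mul_one]
    by_cases h1 : vv z g l v = 1
    · exact ⟨0, by norm_num, by rw [h1, s.t.m.rT_zero]⟩
    obtain ⟨w, h2 | h2⟩ := s.t.m.top_conj_V (s.t.m.vv_mem v) h1
    · exact ⟨1, by norm_num, isConj_iff.2 ⟨_, h2.trans ((mul_one _).trans s.x.q.qv_z).symm⟩⟩
    · refine ⟨2, by norm_num, isConj_iff.2 ⟨_, h2.trans ?_⟩⟩
      show _ = qv z g 0 * evalW l [6]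
      rw [s.x.q.qv_zero, one_mul, evalW_cons, evalW_nil, mul_one]
  obtain ⟨W, h1, h2⟩ := s.mw_conj (fun i hi => (s.t.m.valH_rH hi).1) lev2
  have h3 := allRange_spec h1 j (by omega) (by omega)
  rw [chk2, Spor.force_eq, Spor.force_eq, band_iff, withL_eq, ← e2] at h3
  obtain ⟨h4, h5⟩ := s.t.m.conj_red u h3.1 hv
  have h6 := allRange_zero h3.2 v hv
  have h7 := allRange_zero h3.2 _ h4
  rw [band_iff] at h6 h7
  have h8 := h7.2
  rw [h6.1, Spor.force_eq] at h8
  obtain ⟨c, hc, e3, e4⟩ := mem_ovr (MB.memL_iff.1 h8)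
  obtain ⟨i, hi, h9⟩ := h2 c hc
  rw [(s.t.m.valH_rH hi).2, valH, e3, e4, s.t.m.Z_vM, valN_coe] at h9
  exact ⟨i, hi, h5.trans h9⟩

theorem kk_two : kk {a : G | ty (orderOf a) = 9} = 10 := by
  refine kk_list (rT z g l) 10 (fun i hi j hj => s.t.m.nc_two hi hj) (fun a ha => s.cover_two (n := 21)
    (orderOf_dvd_iff_pow_eq_one.1 (ty_nine ha (s.card ▸ orderOf_dvd_natCard a)))) fun i hi => ?_
  show ty _ = 9
  by_cases h0 : i = 0
  · rw [h0, s.t.m.rT_zero, orderOf_one]; rfl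
  · rw [s.t.m.ord_rT hi h0]
    exact (by decide : ∀ i < 10, ty (2 ^ (ek i + 1)) = 9) i hi

end StJ

end Cfsg.Agent.J4T
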