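import Mathlib
import Cfsg.Agent.J4T.ClsC
import Cfsg.Agent.J3L.MDGrp

/-!
The classes of elements whose order is three times a power of two.
-/

set_option autoImplicit false

namespace Cfsg.Agent.J4T

open Cfsg.Agent.Spor Cfsg.Agent.Spor.MB Cfsg.Agent.Spor.J4C Cfsg.Agent.Rec Subgroup Cfsg.Agent.Inv.Fz
open Cfsg.Agent.J3L.MDt Cfsg.Agent.Spor.Dod

variable {G : Type*} [Group G]

namespace Cls

/-- Words for the classes of 2-elements of the centraliser of `p`. -/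
def wD (i : ℕ) : List ℕ :=
  List.getD [[], [], [6], [6], [1, 3, 7], [1, 3, 7], [1, 3, 9], [1, 3, 4, 5, 7], [1, 3, 4, 5, 7]] i []

/-- The representatives. -/
def vD (z : G) (l : ℕ → G) (i : ℕ) : G := (if Nat.testBit 298 i then z else 1) * evalW l (wD i)

/-- Their codes. -/
noncomputable def cD (i : ℕ) : ℕ := hmul (if Nat.testBit 298 i then cZ else idc) (evH hL (wD i))

/-- Their classes in the whole group. -/
def tD (i : ℕ) : ℕ := List.getD [0, 1, 2, 1, 3, 4, 5, 8, 8] i 0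

/-- Conjugating elements. -/
def kD (i : ℕ) : ℕ := List.getD [nat_lit 0xbdab49ca307b9ac5a928398a418820,
    nat_lit 0xbdab49ca307b9ac5a928398a418820,
    nat_lit 0xbdab49ca307b9ac5a928398a418820,
    nat_lit 0xb85c482e273011690e65a3da91558a,
    nat_lit 0xa0253230f583dc833465506374aec2,
    nat_lit 0xb830003962c30a14205ebaa1ca9daed1c920,
    nat_lit 0x1aaab9002d621d72d22f140f622666,
    nat_lit 0x9d8430a9924c1c65d4a879e20bb494,
    nat_lit 0xb13000bd5629d98038c8f834a83262ea2a41] i idc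

/-- The representatives modulo `z`. -/
def iD (j : ℕ) : ℕ := List.getD [0, 2, 4, 6, 7] j 0

/-- Walks through a Sylow 2-subgroup of `M22`. -/
def sp3 : List (List ℕ × ℕ × ℕ × ℕ) := [(gT ++ [nat_lit 0xba132ad04db1573541863bc640c5c0,
    nat_lit 0xba9e982066b056da1d93aca24708a0,
    nat_lit 0xbdab49ca307b9ac5a928398a418820,
    nat_lit 0xba0ea7c82b989ac850d6aa4a41ba20,
    nat_lit 0xbaaa5730967d0483a4d16c03258e60,
    nat_lit 0xbd950a2d9379a2d48a4138d04754a0,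
    nat_lit 0xbb1f1121d551606a06c968e6492ce0],
    nat_lit 0xbb1f3a4232ab916218ed4a8ab18820, 63, nat_lit 0x65650006567000064061006406b0003103d000150053005031c000656005a08),
  (gT ++ [nat_lit 0xba1b45ca29316aa9b2163bdc408860,
    nat_lit 0xbb51488569b155513e061b1c494ce0,
    nat_lit 0xb9e49a5446586d38298d43e2428dc0,
    nat_lit 0xbb6d481c4b50d0f49a75930242c5c0],
    nat_lit 0xb99b092c444158a3d6969bdc91c420, 66, nat_lit 0x64006043060510054006050430580001500530051069000640610060301a006406),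
  (gT ++ [nat_lit 0xbb1f499c49a94d65a20a935c41c420,
    nat_lit 0xbae69a3028389b283eb6328642c5c0,
    nat_lit 0xbb6c98544c7c64aa4cc742c2470ca0,
    nat_lit 0xbd51449c53606c683d6d92864744a0],
    nat_lit 0xbc0e653c554969269193b2dc81c420, 74, nat_lit 0x61065600006564000065600641000150053005031a00015005300503190001500530050318),
  (gT ++ [nat_lit 0xbb2c9819c8795753d1536923218820],
    nat_lit 0xbd1a93a9c644613b54925bc2c28c40, 28, nat_lit 0x6406031006015006054006043067)]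

theorem lev3 : withL ((List.range 5).map fun j => VB.pev (wD (iD j))) (mw cjF (fun c => inM24 c && q22 c)
    (fun W => MB.allL (MB.memL W) (walk mul gT idc 127 wT)) sp3) = true := by decide +kernel

theorem wD_ok : ∀ i < 9, lettersLt 11 (wD i) = true ∧ (∀ j ∈ wD i, j < 10) ∧ tD i < 10 ∧
    eqH (kD i) (cD i) (rH (tD i)) (kD i) = true ∧ eqH (cD i) cZ cZ (cD i) = true ∧
      eqH (cD i) (hL 0) (hL 0) (cD i) = true := by decide +kernel

theorem tD_inj : ∀ i < 9, ∀ j < i, tD i = tD j → i = 3 ∧ j = 1 ∨ i = 8 ∧ j = 7 := by decide +kernel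

theorem cent8 : chainAll (mkTs ptD bB gB) (fun n => bor (!comm n (nat_lit 0xbd1a93a9c644613b54925bc2c28c40))
    (anyN (fun e => Nat.beq n (pw (nat_lit 0xbd1a93a9c644613b54925bc2c28c40) e)) 8)) idc = true := by decide +kernel

theorem cover_22 {y : PG} (hy : y ∈ Spor.M22) {n : ℕ} (h : y ^ 2 ^ n = 1) :
    ∃ k ∈ Spor.M22, ∃ j < 5, code (k * y * k⁻¹) = VB.pev (wD (iD j)) := by
  have h0 : ∀ c, (inM24 c && q22 c) = true → ∃ u ∈ Spor.M22, code u = c := fun c hc =>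
    have e := code_toPerm' (Bool.and_eq_true_iff.1 hc).1
    ⟨_, mem22' e hc, e⟩
  obtain ⟨W, h1, h2⟩ := mw_spec
    (P := fun x => ∃ u : PG, code u = x ∧ ∃ k ∈ Spor.M22, ∃ j < 5, code (k * u * k⁻¹) = VB.pev (wD (iD j)))
    (fun c hc x ⟨u, e, k, hk, j, hj, e'⟩ => by
      obtain ⟨w, hw, rfl⟩ : ∃ u ∈ Spor.M22, code u = c := hc.elim (h0 c) fun e => ⟨1, one_mem _, e ▸ code_one⟩
      refine ⟨w * u * w⁻¹, ?_, k * w⁻¹, mul_mem hk (inv_mem hw), j, hj, ?_⟩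
      · simp only [cjF, Spor.force_eq, code_mul, code_inv, e]
      · exact (congrArg code (by group)).trans e') _ _ (fun x hx => by
      obtain ⟨j, hj, rfl⟩ := List.mem_map.1 hx
      rw [List.mem_range] at hj
      have e := code_toPerm ((by decide +kernel : ∀ j < 5, isPerm (VB.pev (wD (iD j))) = true) j hj)
      exact ⟨_, e, 1, one_mem _, j, hj, by rw [one_mul, inv_one, mul_one, e]⟩) (withL_eq _ _ ▸ lev3)
  obtain ⟨w, hw, e⟩ := exists_conj_of_sylow gens_gT grp2 (by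
    rw [Golay.card_M22]; exact factorization_eq_of (by norm_num) (by norm_num) (by norm_num)) h2 hy h
  obtain ⟨u, e1, k, hk, j, hj, e2⟩ := h1 _ (MB.memL_iff.1 e)
  refine ⟨k * w, mul_mem hk hw, j, hj, ?_⟩
  rw [← e2, code_injective e1]
  exact congrArg code (by group)

theorem cent_eight {r c : PG} (hr : code r = nat_lit 0xbd1a93a9c644613b54925bc2c28c40) (hc : c ∈ Spor.M22)
    (h : c * r = r * c) : ∃ e : ℕ, c = r ^ e := by
  have h1 := smul_fixSet_of_mem_CZ (x := r ^ 4) (mem_CZ.2 ⟨le24 hc, (Commute.pow_right h 4).eq⟩)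
  rw [fixSet_eq (m := 8536111) (by rw [code_pow, hr]; decide +kernel)] at h1
  have h2 := enum_B.forall cent8 c ⟨hc, h1⟩
  rw [← hr, comm_iff.2 h, bor_iff, anyN_iff] at h2
  obtain ⟨e, -, h3⟩ := h2.resolve_left (by simp)
  exact ⟨e, code_injective (by rw [code_pow]; exact Nat.eq_of_beq_eq_true h3)⟩

end Cls

open Cls

namespace StM

variable [Finite G] {z : G} {g l : ℕ → G} {π : centralizer ({z} : Set G) →* PG} {ψ : M24 →* G}
  (s : StM z π g l ψ)

include s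

omit [Finite G] in
theorem valH_evL {w : List ℕ} (hw : ∀ j ∈ w, j < 10) :
    okH (evH hL w) ∧ valH ψ (ZG z g l) (evH hL w) = evalW l w := by
  have h1 := s.zs.valH_evH (cs := hL) (g := fun i => if i < 10 then l i else 1) (fun i => by
    unfold hL
    split_ifs with h1 h2 h2
    · have h := okN_of ((by decide +kernel : ∀ i < 6, inM24 (sL i) = true) i h1)
      exact ⟨okH_of_okN h, by rw [s.zs.valH_of_okN h, s.sl i h1]⟩
    · omega
    · exact ⟨okH_vH _, by rw [s.valH_vH, vv_letter _ _ _ (by omega) h2]⟩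
    · exact ⟨okH_of_okN okN_idc, s.zs.valH_one⟩) w
  exact ⟨h1.1, h1.2.trans (evalW_congr_mem fun j hj => if_pos (hw j hj))⟩

omit [Finite G] in
theorem valH_cD {i : ℕ} (hi : i < 9) : valH ψ (ZG z g l) (cD i) = vD z l i := by
  have h1 := s.valH_evL (wD_ok i hi).2.1
  rw [cD, vD, ← h1.2]
  split_ifs
  · rw [(s.zs.valH_mul okH_cZ h1.1).2, s.zs.valH_cZ]
  · rw [(s.zs.valH_mul (okH_of_okN okN_idc) h1.1).2, s.zs.valH_one]

omit [Finite G] in
theorem valH_p : valH ψ (ZG z g l) (hL 0) = l 0 := by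
  rw [s.sl 0 (by norm_num)]
  exact s.zs.valH_of_okN (okN_of (by decide +kernel))

omit [Finite G] in
theorem vD_conj {i : ℕ} (hi : i < 9) : IsConj (vD z l i) (rT z g l (tD i)) := by
  have h := val_eqH s.zs (wD_ok i hi).2.2.2.1
  rw [s.valH_cD hi, (s.valH_rH (wD_ok i hi).2.2.1).2] at h
  exact isConj_iff.2 ⟨_, mul_inv_eq_iff_eq_mul.2 h⟩

omit [Finite G] in
theorem vD_mem {i : ℕ} (hi : i < 9) : vD z l i ∈ KK z (l 0) := by
  have h1 := val_eqH s.zs (wD_ok i hi).2.2.2.2.1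
  have h2 := val_eqH s.zs (wD_ok i hi).2.2.2.2.2
  rw [s.valH_cD hi, s.zs.valH_cZ] at h1
  rw [s.valH_cD hi, s.valH_p] at h2
  exact ⟨mem_cen.2 h1, mem_cen.2 h2⟩

omit [Finite G] in
theorem th_vD {i : ℕ} (hi : i < 9) : code (θ π (l 0) ⟨vD z l i, s.vD_mem hi⟩) = VB.pev (wD i) :=
  (VB.pc_Q_mul s.o.x (q := if Nat.testBit 298 i then z else 1)
    (by split_ifs; exacts [s.o.x.q.z_mem, one_mem _]) (VB.pc_w s.o.x (wD_ok i hi).1)).2

theorem vD_pow {i : ℕ} (hi : i < 9) : vD z l i ^ 2 ^ 4 = 1 := by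
  rw [← orderOf_dvd_iff_pow_eq_one, ord_eq (s.vD_conj hi)]
  by_cases h0 : tD i = 0
  · rw [h0, s.rT_zero, orderOf_one]; exact one_dvd _
  · rw [s.ord_rT (wD_ok i hi).2.2.1 h0]
    exact pow_dvd_pow 2 ((by decide : ∀ i < 10, ek i + 1 ≤ 4) _ (wD_ok i hi).2.2.1)

theorem cover_three {v : G} (hv : v ∈ KK z (l 0)) {n : ℕ} (h : v ^ 2 ^ n = 1) :
    ∃ i < 9, ∃ k ∈ KK z (l 0), k * v * k⁻¹ = vD z l i := by
  obtain ⟨m, hm, j, hj, e⟩ := cover_22 (s.o.x.range_th.le ⟨⟨v, hv⟩, rfl⟩) (n := n) (by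
    rw [← map_pow, ← map_one (θ π (l 0))]; exact congrArg _ (Subtype.ext h))
  obtain ⟨k, rfl⟩ := s.o.x.M22_le_range hm
  have hi : iD j < 9 := (by decide : ∀ j < 5, iD j < 9) j hj
  set y : KK z (l 0) := ⟨vD z l (iD j), s.vD_mem hi⟩ with hy
  have h1 : θ π (l 0) (y⁻¹ * (k * ⟨v, hv⟩ * k⁻¹)) = 1 := by
    rw [map_mul, map_mul, map_mul, map_inv, map_inv, code_injective (e.trans (s.th_vD hi).symm), inv_mul_cancel]
  have h2 : Commute y (y⁻¹ * (k * ⟨v, hv⟩ * k⁻¹)) := mem_center_iff.1 (s.o.x.center_KK.ge h1) y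
  have h3 : (y⁻¹ * (k * ⟨v, hv⟩ * k⁻¹)) ^ 2 ^ (n + 4) = 1 := by
    have a1 : y ^ 2 ^ (n + 4) = 1 := Subtype.ext (by
      rw [coe_pow, add_comm, pow_add, pow_mul, s.vD_pow hi, one_pow, coe_one])
    have a2 := h2.mul_pow (2 ^ (n + 4))
    rw [mul_inv_cancel_left, a1, one_mul, conj_pow] at a2
    rw [← a2, conj_eq_one]
    exact Subtype.ext (by rw [coe_pow, pow_add, pow_mul, h, one_pow, coe_one])
  have h4 : (y⁻¹ * (k * ⟨v, hv⟩ * k⁻¹)) ^ 6 = 1 :=
    congrArg Subtype.val (s.o.x.card_ker ▸ pow_card_eq_one' (G := (θ π (l 0)).ker) (x := ⟨_, h1⟩))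
  have h5 : (y⁻¹ * (k * ⟨v, hv⟩ * k⁻¹)) ^ 2 = 1 := orderOf_dvd_iff_pow_eq_one.1 (Nat.Coprime.dvd_of_dvd_mul_left
    (Nat.Coprime.coprime_dvd_left (orderOf_dvd_of_pow_eq_one h3) (Nat.Coprime.pow_left _ (by norm_num)))
    (orderOf_dvd_of_pow_eq_one (n := 3 * 2) h4))
  rcases s.o.x.inv_of_th h1 (by rw [← sq]; exact congrArg Subtype.val h5) with h6 | h6
  · exact ⟨_, hi, k, k.2, (inv_mul_eq_one.1 h6).symm⟩
  replace h6 : (k : G) * v * (k : G)⁻¹ = z * vD z l (iD j) := (inv_mul_eq_iff_eq_mul.1 h6).trans (mem_cen.1 y.2.1)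
  by_cases h7 : j = 3
  · subst h7
    have a1 := s.valH_evL (w := [1, 5, 7]) (by decide)
    have a2 := val_eqH s.zs (a := evH hL [1, 5, 7]) (b := cZ) (c := cZ) (d := evH hL [1, 5, 7]) (by decide +kernel)
    have a3 := val_eqH s.zs (a := evH hL [1, 5, 7]) (b := hL 0) (c := hL 0) (d := evH hL [1, 5, 7]) (by decide +kernel)
    have a4 := val_eqH s.zs (a := cD 6) (b := evH hL [1, 5, 7]) (c := evH hL [1, 5, 7]) (d := hmul cZ (cD 6))
      (by decide +kernel)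
    rw [(s.zs.valH_mul okH_cZ (okH_of (by decide +kernel))).2, s.valH_cD (by norm_num)] at a4
    rw [s.zs.valH_cZ] at a2 a4
    rw [s.valH_p] at a3
    refine ⟨6, by norm_num, _, mul_mem ⟨mem_cen.2 a2, mem_cen.2 a3⟩ k.2, ?_⟩
    rw [← mul_inv_eq_iff_eq_mul.2 a4.symm, ← show (k : G) * v * (k : G)⁻¹ = z * vD z l 6 from h6]; group
  · have a := (by decide : ∀ j < 5, j ≠ 3 → iD j + 1 < 9 ∧ wD (iD j + 1) = wD (iD j) ∧
      Nat.testBit 298 (iD j + 1) = true ∧ Nat.testBit 298 (iD j) = false) j hj h7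
    exact ⟨iD j + 1, a.1, k, k.2, h6.trans (by rw [vD, vD, a.2.1, a.2.2.1, a.2.2.2]; simp)⟩

theorem nc_three {i : ℕ} (hi : i < 9) {j : ℕ} (hj : j < i) {k : G} (hk : k ∈ KK z (l 0)) :
    k * vD z l i * k⁻¹ ≠ vD z l j := fun h => by
  have hj' : j < 9 := by omega
  have h1 := ((s.vD_conj hi).symm.trans (isConj_iff.2 ⟨k, h⟩)).trans (s.vD_conj hj')
  have h2 : tD i = tD j := by
    by_contra h2
    exact (lt_or_gt_of_ne h2).elim (fun h3 => s.nc_two (wD_ok j hj').2.2.1 h3 h1.symm)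
      fun h3 => s.nc_two (wD_ok i hi).2.2.1 h3 h1
  have h3 : θ π (l 0) ⟨k, hk⟩ * θ π (l 0) ⟨_, s.vD_mem hi⟩ * (θ π (l 0) ⟨k, hk⟩)⁻¹ = θ π (l 0) ⟨_, s.vD_mem hj'⟩ := by
    rw [← map_inv, ← map_mul, ← map_mul]; exact congrArg _ (Subtype.ext h)
  have h4 := s.th_vD hi
  have h5 := s.th_vD hj'
  obtain ⟨rfl, rfl⟩ | ⟨rfl, rfl⟩ := tD_inj i hi j hj h2
  · rw [eq_one_iff_code.2 h5, conj_eq_one] at h3
    rw [h3, code_one] at h4
    exact absurd h4 (by decide +kernel)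
  rw [code_injective (h4.trans h5.symm), mul_inv_eq_iff_eq_mul] at h3
  obtain ⟨e, h6⟩ := cent_eight (h5.trans (by decide +kernel)) (s.o.x.range_th.le ⟨_, rfl⟩) h3
  set y : KK z (l 0) := ⟨vD z l 7, s.vD_mem hj'⟩ with hy
  have h7 : Commute y ((y ^ e)⁻¹ * ⟨k, hk⟩) := mem_center_iff.1 (s.o.x.center_KK.ge (show θ π (l 0) _ = 1 by
    rw [map_mul, map_inv, map_pow, h6, inv_mul_cancel])) y
  have h8 := ((Commute.refl y).pow_right e).mul_right h7
  rw [mul_inv_cancel_left] at h8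
  have h9 : vD z l 8 = z * vD z l 7 := by simp [vD, wD, Nat.testBit]
  rw [h9, ← mul_assoc, mem_cen.1 hk.1, mul_assoc z, ← show vD z l 7 * k = k * vD z l 7 from congrArg Subtype.val h8,
    mul_assoc, mul_inv_cancel_right, mul_eq_right] at h
  exact s.z_ne h

end StM

namespace StJ

variable [Finite G] {z : G} {g l : ℕ → G} {π : centralizer ({z} : Set G) →* PG} {ψ : M24 →* G} (s : StJ z π g l ψ)

include s

theorem exp_three (u : G) (k : ℕ) (h : u ^ 3 ^ k = 1) : u ^ 3 = 1 := by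
  obtain ⟨d, -, hd⟩ := exists_conj_mem_syl (s.syl_R3 le_top) (mem_top u) h
  simpa [conj_pow] using StM.R3_cube _ hd

theorem kk_three : kk {a : G | ty (orderOf a) = 8} = 9 := by
  have h1 : ∀ i < 9, Commute (l 0) (vD z l i) := fun i hi => (mem_cen.1 (s.t.m.vD_mem hi).2).symm
  have h2 : ∀ i < 9, orderOf (vD z l i) ∣ 2 ^ 4 := fun i hi => orderOf_dvd_of_pow_eq_one (s.t.m.vD_pow hi)
  have h3 : ∀ i < 9, ¬ 3 ∣ orderOf (vD z l i) := fun i hi h => absurd (h.trans (h2 i hi)) (by norm_num)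
  refine kk_list (fun i => l 0 * vD z l i) 9 (fun i hi j hj h => ?_) (fun a ha => ?_) fun i hi => ?_
  · obtain ⟨k, hk⟩ := isConj_iff.1 h
    obtain ⟨h4, h5⟩ := conj_parts s.x.st.p3 s.x.st.p3 (h1 i hi) (h1 j (by omega)) (h3 i hi) (h3 j (by omega)) hk
    exact s.t.m.nc_three hi hj (s.cent_p.le (mem_cen'.2 h4)) h5
  · obtain ⟨a1, a2, a3, a4⟩ := (ty_dvd ha).2.2.2.2.2.2.2.2 rfl
    obtain ⟨x, hx, h4⟩ := exists_sec s.exp_three a1
    obtain ⟨v, h5, h6, h7⟩ := sec_mono (s.isConj_three hx s.x.st.p3) h4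
    have h8 : v ∈ KK z (l 0) := s.cent_p.le (mem_cen.2 h5.symm)
    have h9 : orderOf v ∣ orderOf a := by rw [ord_eq h7, ord_mul s.x.st.p3 h5 h6]; exact dvd_mul_left _ _
    have c : ∀ {p : ℕ}, p.Prime → ¬ p ∣ orderOf v → (orderOf v).Coprime p := fun hp h =>
      ((Nat.Prime.coprime_iff_not_dvd hp).2 h).symm
    obtain ⟨i, hi, k, hk, e⟩ := s.t.m.cover_three h8 (n := 8) (orderOf_dvd_iff_pow_eq_one.1
      (Nat.Coprime.dvd_of_dvd_mul_right (n := 3 ^ 3 * 5 * 7 * 11) (by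
        simp only [Nat.coprime_mul_iff_right]
        exact ⟨⟨⟨(c (by norm_num) h6).pow_right 3, c (by norm_num) (mt (Dvd.dvd.trans · h9) a2)⟩,
          c (by norm_num) (mt (Dvd.dvd.trans · h9) a3)⟩, c (by norm_num) (mt (Dvd.dvd.trans · h9) a4)⟩)
        ((orderOf_dvd_natCard _ h8).trans (by rw [s.x.card_KK]; norm_num))))
    exact ⟨i, hi, h7.trans (isConj_iff.2 ⟨k, by rw [← e, ← conj_mul, mem_cen'.1 hk.2]⟩)⟩
  · show ty _ = 8
    obtain ⟨e, he, h4⟩ := (Nat.dvd_prime_pow Nat.prime_two).1 (h2 i hi)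
    rw [ord_mul s.x.st.p3 (h1 i hi) (h3 i hi), h4]
    interval_cases e <;> rfl

end StJ

end Cfsg.Agent.J4T
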