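import Mathlib
import Cfsg.Agent.J4T.ClsD

/-!
The classes of elements whose order is divisible by five but not by seven.
-/

set_option autoImplicit false

namespace Cfsg.Agent.J4T

open Cfsg.Agent.Spor Cfsg.Agent.Spor.MB Cfsg.Agent.Spor.J4C Cfsg.Agent.Rec Subgroup Cfsg.Agent.Inv.Fz
open Let (apw cP cP2 cL_zero)

variable {G : Type*} [Group G]

namespace Cls

/-- Generators of the centraliser of an element of order 5 of `M24`. -/
def g60 : List ℕ := [62611376507543725957420125190719511, 109579686229357656080710270394752001]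

/-- A walk through this centraliser. -/
def w60 : ℕ :=
  0x2222100002220002212100000222222100000002222100002220002212100000222222100000002222100002220002212100000222222

theorem grp60 : listGrp g60 60 109 w60 = true := by decide +kernel

theorem cent5 {y c : PG} {m : ℕ} (hm : inM24 m = true) (hy : code y = cj m 975526482844923635508667718993905696)
    {q : ℕ → Bool} (h : MB.allL (fun a => Spor.force (cjF m a) q) (walk mul g60 idc 109 w60) = true) (hc : c ∈ M24)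
    (e : c * y = y * c) : q (code c) = true := by
  obtain ⟨k, hk, rfl⟩ := okN_of hm
  rw [← code_x5, ← code_conj] at hy
  obtain rfl := code_injective hy
  have h0 : Gens (CZ x5) g60 := gens_CZ code_x5 (by decide +kernel)
  have h1 : clo g60 = CZ x5 := eq_of_le_of_card_ge h0.clo_le (by
    rw [card_clo_of_listGrp h0 grp60]
    exact (card_le_of_le (H := CZ x5) (K := MT.Cen x5 []) fun g hg =>
      MT.mem_Cen.2 ⟨⟨hg.1, by simp⟩, (mem_CZ.1 hg).2⟩).trans MT.card_Cen_x5)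
  have h2 := MB.allL_iff.1 h _ (mem_walk_of_listGrp grp60 (k⁻¹ * c * k) (h1.ge (mem_CZ.2
    ⟨mul_mem (mul_mem (inv_mem hk) hc) hk, by
      calc _ = k⁻¹ * (c * (k * x5 * k⁻¹)) * k := by group
        _ = _ := by rw [e]; group⟩)))
  simp only [cjF, Spor.force_eq, ← code_mul, ← code_inv] at h2
  rwa [show k * (k⁻¹ * c * k) * k⁻¹ = c by group] at h2

theorem conj_five [Finite G] (hG : ¬ 5 * 5 ∣ Nat.card G) {K : Subgroup G} {x y d : G} (hx : orderOf x = 5)
    (hy : orderOf y = 5) (h1 : x ∈ K) (h2 : y ∈ K) (h3 : d ∈ K) (hd : d * x * d⁻¹ = x ^ 2) :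
    ∃ k ∈ K, k * y * k⁻¹ = x := by
  have : Fact (Nat.Prime 5) := ⟨by norm_num⟩
  obtain ⟨m, hm⟩ := hx ▸ orderOf_dvd_natCard _ h1
  obtain ⟨k, hk, e, he, h4⟩ : ∃ k ∈ K, ∃ e < 5, x ^ e = k * y * k⁻¹ := by
    obtain ⟨k, hk, h⟩ := exists_conj_mem_syl (isSylIn_of_card (zpowers_le.2 h1) (k := 1)
      (by rw [Nat.card_zpowers, hx, pow_one]) (m := m) (by rw [hm, pow_one]) fun h => hG
        (((Nat.mul_dvd_mul_left 5 h).trans hm.symm.dvd).trans (card_subgroup_dvd_card K))) h2 (k := 1)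
      (by rw [pow_one, ← hy, pow_orderOf_eq_one])
    obtain ⟨e, he⟩ := (isOfFinOrder_of_finite x).mem_powers_iff_mem_zpowers.2 h
    exact ⟨k, hk, e % 5, Nat.mod_lt _ (by norm_num), by rw [← hx, pow_mod_orderOf]; exact he⟩
  have h5 : ∀ t, d ^ t * x ^ e * (d ^ t)⁻¹ = x ^ (e * 2 ^ t) := fun t => by
    induction t with
    | zero => simp
    | succ t ih =>
      rw [pow_succ', mul_inv_rev, show d * d ^ t * x ^ e * ((d ^ t)⁻¹ * d⁻¹) = d * (d ^ t * x ^ e * (d ^ t)⁻¹) * d⁻¹ by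
        group, ih, ← conj_pow, hd, ← pow_mul, pow_succ', mul_left_comm]
  have h6 : e ≠ 0 := by
    rintro rfl
    rw [pow_zero, eq_comm, conj_eq_one] at h4
    rw [h4, orderOf_one] at hy
    omega
  obtain ⟨t, -, ht⟩ := (by decide : ∀ e < 5, e ≠ 0 → ∃ t < 4, e * 2 ^ t % 5 = 1) e he h6
  refine ⟨d ^ t * k, mul_mem (pow_mem h3 t) hk, ?_⟩
  rw [show d ^ t * k * y * (d ^ t * k)⁻¹ = d ^ t * (k * y * k⁻¹) * (d ^ t)⁻¹ by group, ← h4, h5, ← pow_mod_orderOf, hx,
    ht, pow_one]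

theorem wlog_five [Finite G] (hG : ¬ 5 * 5 ∣ Nat.card G) {x u a d : G} (hx : orderOf x = 5) (hu : Commute x u)
    (h : IsConj u a) (ha : x * a = a * x) (h3 : d * a = a * d) (hd : d * x * d⁻¹ = x ^ 2) :
    ∃ k, k * x * k⁻¹ = x ∧ k * u * k⁻¹ = a := by
  obtain ⟨k, rfl⟩ := isConj_iff.1 h
  obtain ⟨m, hm, e⟩ := conj_five hG (K := centralizer {k * u * k⁻¹}) hx ((ord_eq (isConj_iff.2 ⟨k, rfl⟩)).symm.trans hx)
    (mem_cen.2 ha) (mem_cen.2 (by simpa using (hu.map (MulAut.conj k)).eq)) (mem_cen.2 h3) hd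
  exact ⟨m * k, Eq.trans (by group) e, Eq.trans (by group) (mem_cen'.1 hm)⟩

/-- The action on `Q` of the element of order 5. -/
def cX5 : ℕ := nat_lit 0x50014016806c06002000012007001800802a03f
/-- Its image in the stabiliser of the duad. -/
def pX5 : ℕ := nat_lit 0xbc1e6ad0a9538e45a1b3b305288460
/-- Its image in the sextet group. -/
def mX5 : ℕ := nat_lit 0xbc6a5359203d1e37284b831132482d
/-- The action on `Q` of an involution that commutes with it. -/
def cS5 : ℕ := nat_lit 0xa00f002203300380393007402c03d01500540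
/-- Its image in the stabiliser of the duad. -/
def pS5 : ℕ := nat_lit 0x505629d060ac8970d919426d555f7

theorem chkD : MB.allL (fun a => Spor.force (cjF (nat_lit 0x7491624133a28af30aa16c5871aee0) a) fun c =>
    bor (!Nat.beq (act c 8388609) 8388609) (anyN (fun i => Nat.beq c (mul (pw pS5 (i / 5)) (pw pX5 (i % 5)))) 10))
    (walk mul g60 idc 109 w60) = true := by decide +kernel

theorem chkD' : ∀ i < 10, pw (mul (pw pS5 (i / 5)) (pw pX5 (i % 5))) 10 = idc ∧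
    (pw (mul (pw pS5 (i / 5)) (pw pX5 (i % 5))) 2 = idc → i % 5 = 0) ∧
    (ap (mul (pw pS5 (i / 5)) (pw pX5 (i % 5))) 23 = 23 → i / 5 = 0) := by decide +kernel

theorem chkM5 : MB.allL (fun a => Spor.force (cjF (nat_lit 0x536450217678a6939a2c71214186b7) a) fun c =>
    band (Nat.beq (pw c 30) idc) (bor (!Nat.beq (pw c 2) idc) (MB.allL (fun a => !Nat.beq (a ^^^ Split.va c a) 18)
      [0, 18, 35, 49, 1024, 1042, 1059, 1073]))) (walk mul g60 idc 109 w60) = true := by decide +kernel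

theorem chkV5 : allRange 0 2048 (fun a => bor (!Nat.beq (Split.va mX5 a) a)
    (MB.memL [0, 18, 35, 49, 1024, 1042, 1059, 1073] a)) = true := by decide +kernel

theorem chkQ5 : ∀ a < 8192, app cX5 a = a →
    (qmul a a = 0 ∨ ∃ d ∈ [0, 18], ∃ i < 3, qmul (qmul d (app (apw cP i) a)) (qinv d) ∈ [1635, 2993]) ∧
    (qmul a (app cS5 a) ≠ 4096 ∧ qmul (qmul a (app cS5 a)) (qmul a (app cS5 a)) = 0 ∨
      ∃ d ∈ [0, 18, 35, 49, 3520, 3538, 3555, 3569], qmul (qmul d a) (app cS5 (qinv d)) ∈ [35, 49]) := fun a ha h => by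
  simpa only [band_iff, decide_eq_true_eq] using ((bor_iff _ _).1 (allRange_zero (len := 8192)
    (f := fun a => bor (!Nat.beq (app cX5 a) a) (band
      (decide (qmul a a = 0 ∨ ∃ d ∈ ([0, 18] : List ℕ), ∃ i : ℕ, i < 3 ∧
        qmul (qmul d (app (apw cP i) a)) (qinv d) ∈ [1635, 2993]))
      (decide (qmul a (app cS5 a) ≠ 4096 ∧ qmul (qmul a (app cS5 a)) (qmul a (app cS5 a)) = 0 ∨
        ∃ d ∈ ([0, 18, 35, 49, 3520, 3538, 3555, 3569] : List ℕ), qmul (qmul d a) (app cS5 (qinv d)) ∈ [35, 49]))))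
    (by decide +kernel) a ha)).resolve_left (by simp [h])

/-- Representatives of the classes of the centraliser. -/
def vE (z : G) (g l : ℕ → G) (r : G) (i : ℕ) : G := List.getD [1, z, vv z g l 18, qv z g 1635, qv z g 2993,
  qv z g 35 * r, qv z g 49 * r, l 0, z * l 0] i 1

/-- Their orders. -/
def oE (i : ℕ) : ℕ := List.getD [1, 2, 2, 4, 4, 8, 8, 3, 6] i 1

end Cls

open Cls

/-- An element of order 5 and an involution that commutes with it. -/
structure St5 (z : G) (π : centralizer ({z} : Set G) →* PG) (g l : ℕ → G) (ψ : M24 →* G) (x r : G) : Prop where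
  j : StJ z π g l ψ
  mx : x = ψ (el mX5)
  rx : Rp z g x cX5
  px : VB.Pc π x pX5
  rr : Rp z g r cS5
  pr : VB.Pc π r pS5
  sq : r * r = 1

theorem StJ.exists_st5 {z : G} {g l : ℕ → G} {π : centralizer ({z} : Set G) →* PG} {ψ : M24 →* G}
    (s : StJ z π g l ψ) : ∃ x r, St5 z π g l ψ x r := by
  have h1 := VB.rw s.x (w := [5, 7, 8, 4, 10]) rfl
  have h2 := VB.pc_w s.x (w := [5, 7, 8, 4, 10]) rfl
  have h3 := s.x.q.rp_mul (s.x.q.rp_mul h1 (VB.rw s.x (w := [1, 8]) rfl))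
    (s.x.q.rp_inv h1 (VB.rw s.x (w := [10, 4, 8, 7, 5]) rfl) (by decide +kernel))
  have h4 := (h2.mul (VB.pc_w s.x (w := [1, 8]) rfl)).mul h2.inv
  have h5 := s.t.m.valH_evL (w := [1, 8]) (by decide)
  have h6 := val_eqH s.t.m.zs (a := evH hL [1, 8]) (b := evH hL [1, 8]) (c := idc) (d := idc) (by decide +kernel)
  rw [h5.2, s.t.m.zs.valH_one, one_mul] at h6
  refine ⟨evalW l [1, 2, 3, 4], _, s, s.t.m.word_psi _ (by decide +kernel), ?_, ?_, ?_, ?_,
    conj_sq (g := evalW l [5, 7, 8, 4, 10]) h6⟩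
  · exact (by decide +kernel : aev cL [1, 2, 3, 4] = cX5) ▸ VB.rw s.x rfl
  · exact (by decide +kernel : VB.pev [1, 2, 3, 4] = pX5) ▸ VB.pc_w s.x rfl
  · rwa [show amul _ _ = cS5 by decide +kernel] at h3
  · rwa [show mul _ _ = pS5 by decide +kernel] at h4

namespace St5

variable [Finite G] {z : G} {g l : ℕ → G} {π : centralizer ({z} : Set G) →* PG} {ψ : M24 →* G} {x r : G}
  (s : St5 z π g l ψ x r)

include s

omit [Finite G] in
theorem ord : orderOf x = 5 := by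
  have : Fact (Nat.Prime 5) := ⟨by norm_num⟩
  rw [s.mx, s.j.t.m.orderOf_psi]
  exact orderOf_of_code (by rw [code_el]; decide +kernel) (by rw [code_el]; decide +kernel)

omit [Finite G] in
theorem conj_x {y : G} {c n : ℕ} (hy : Rp z g y c) (e : amul c cX5 = amul (apw cX5 n) c) : y * x * y⁻¹ = x ^ n := by
  have q := s.j.x.q
  refine mul_inv_eq_iff_eq_mul.2 ((s.j.x.st.rp_eq_or q (q.rp_mul (Let.rp_pow q s.rx n) hy)
    (e ▸ q.rp_mul hy s.rx)).resolve_right fun h => q.z_ne ?_)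
  have h1 : y * x * y⁻¹ = x ^ n * z := by rw [h, mul_assoc (x ^ n), hy.1, ← mul_assoc, mul_inv_cancel_right]
  have h2 : x ^ 5 = 1 := s.ord ▸ pow_orderOf_eq_one x
  have h3 := congrArg (· ^ 5) h1
  simp only [conj_pow, h2, mul_one, mul_inv_cancel] at h3
  rw [(Commute.pow_left s.rx.1 n).mul_pow, ← pow_mul, mul_comm, pow_mul, h2, one_pow, one_mul] at h3
  rw [h3, show z ^ 5 = z * z * (z * z) * z by simp only [pow_succ, pow_zero, one_mul, mul_assoc], q.z_sq, one_mul,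
    one_mul]

omit [Finite G] in
theorem comm_x {y : G} {c : ℕ} (hy : Rp z g y c) (e : amul c cX5 = amul (apw cX5 1) c) : Commute x y :=
  (mul_inv_eq_iff_eq_mul.1 ((s.conj_x hy e).trans (pow_one x))).symm

omit [Finite G] in
theorem x_p : Commute x (l 0) := s.comm_x (s.j.x.rp 0 (by norm_num)) (by decide +kernel)

omit [Finite G] in
theorem x_r : Commute x r := s.comm_x s.rr (by decide +kernel)

omit [Finite G] in
theorem x_qv {a : ℕ} (ha : a < 8192) : Commute x (qv z g a) ↔ app cX5 a = a := by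
  rw [Commute, SemiconjBy, ← mul_inv_eq_iff_eq_mul, s.j.x.q.rp_app s.rx ha]
  exact ⟨s.j.x.q.qv_inj (app_lt _ _) ha, fun h => by rw [h]⟩

omit [Finite G] in
theorem r_p : r * l 0 * r⁻¹ = (l 0)⁻¹ := by
  have q := s.j.x.q
  have h1 := Let.rp_p_inv s.j.x.st q (s.j.x.rp 0 (by norm_num))
  refine mul_inv_eq_iff_eq_mul.2 ((s.j.x.st.rp_eq_or q (q.rp_mul h1 s.rr)
    ((by decide +kernel : amul cS5 (cL 0) = amul cP2 cS5) ▸ q.rp_mul s.rr (s.j.x.rp 0 (by norm_num)))).resolve_right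
      fun h => VB.ne_of_cube (y := r) q.z_ne q.z_sq (VB.p3 s.j.x) (w := (l 0)⁻¹) (by rw [inv_pow, VB.p3 s.j.x, inv_one])
        h1.1 ?_)
  rw [h, mul_assoc (l 0)⁻¹, s.rr.1, ← mul_assoc, mul_inv_cancel_right]

omit [Finite G] in
theorem sq_qr {a : ℕ} (ha : a < 8192) : (qv z g a * r) ^ 2 = qv z g (qmul a (app cS5 a)) := by
  rw [s.j.x.q.qv_mul ha (app_lt _ _), ← s.j.x.q.rp_app s.rr ha, inv_eq_of_mul_eq_one_right s.sq, _root_.sq]
  simp only [mul_assoc]

theorem dec {k : G} (hz : k * z = z * k) (hx : Commute x k) : ∃ a < 8192, ∃ i < 3, ∃ j < 2, ∃ m,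
    k = qv z g a * l 0 ^ i * r ^ j * x ^ m ∧ ((orderOf k).Coprime 5 → m = 0) ∧ (k * l 0 = l 0 * k → j = 0) := by
  obtain ⟨x1, x2⟩ := s.px
  obtain ⟨r1, r2⟩ := s.pr
  set k' : centralizer ({z} : Set G) := ⟨k, mem_cen.2 hz⟩ with hk
  have h1 : π k' ∈ D22 := s.j.x.st.range ▸ ⟨_, rfl⟩
  have h2 := cent5 (by decide +kernel) (x2.trans (by decide +kernel)) chkD h1.1 (by
    rw [← map_mul, ← map_mul]; exact congrArg π (Subtype.ext hx.symm.eq))
  have h3 : act (code (π k')) 8388609 = 8388609 := by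
    have a : unmask 8388609 = {none, some 0} := by decide +kernel
    exact (smul_unmask_eq_iff (by norm_num)).1 (by rw [a]; exact h1.2)
  rw [h3, bor_iff, anyN_iff] at h2
  obtain ⟨i, hi, h4⟩ := h2.resolve_left (by simp)
  replace h4 := Nat.eq_of_beq_eq_true h4
  obtain ⟨h5, h6, h7⟩ := chkD' i hi
  rw [← h4] at h5 h6 h7
  rw [← code_pow, ← eq_one_iff_code] at h5 h6
  rw [← x2, ← r2, ← code_pow, ← code_pow, ← code_mul, ← map_pow, ← map_pow, ← map_mul] at h4
  obtain ⟨q, hq, e, he, h8⟩ := Let.exists_of_ker s.j.x.st (h := k' * (⟨r, r1⟩ ^ (i / 5) * ⟨x, x1⟩ ^ (i % 5))⁻¹)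
    (by rw [map_mul, map_inv, code_injective h4, mul_inv_cancel])
  obtain ⟨a, ha, rfl⟩ := s.j.x.q.mem_QG.1 hq
  refine ⟨a, ha, e, he, i / 5, by omega, i % 5, ?_, fun h => h6 ?_, fun h => h7 ?_⟩
  · rw [mul_assoc]; exact mul_inv_eq_iff_eq_mul.1 h8
  · exact orderOf_dvd_iff_pow_eq_one.1 ((h.coprime_dvd_left ((orderOf_map_dvd π k').trans
      (orderOf_coe k').symm.dvd)).dvd_of_dvd_mul_left (orderOf_dvd_of_pow_eq_one (n := 5 * 2) h5))
  · have a := (HypA.mem_M22.1 (s.j.x.range_th.le ⟨⟨k, mem_cen.2 hz, mem_cen.2 h⟩, rfl⟩)).2.1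
    have b := (ap_code_ix (π k') none).trans (congrArg ix a)
    rwa [show ix none = 23 by decide +kernel] at b

theorem nc_four {k : G} (hx : Commute x k) : k * qv z g 2993 * k⁻¹ ≠ qv z g 1635 := fun h => by
  have q := s.j.x.q
  have h1 : k * z = z * k := by
    have a := congrArg (fun y => y * y) h
    simp only [conj_mul] at a
    rw [← q.qv_mul (by norm_num) (by norm_num), ← q.qv_mul (by norm_num) (by norm_num),
      show qmul 2993 2993 = 4096 by decide +kernel, show qmul 1635 1635 = 4096 by decide +kernel, q.qv_z] at a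
    exact mul_inv_eq_iff_eq_mul.1 a
  obtain ⟨a, ha, i, hi, j, hj, m, rfl, -⟩ := s.dec h1 hx
  have h2 := (((s.x_qv (a := 2993) (by norm_num)).2 (by decide +kernel)).pow_left m).eq
  have h3 := q.rp_app (q.rp_mul (Let.rp_pow q (s.j.x.rp 0 (by norm_num)) i) (Let.rp_pow q s.rr j)) (a := 2993)
    (by norm_num)
  have h4 := (by decide +kernel : ∀ i < 3, ∀ j < 2, app (amul (apw (cL 0) i) (apw cS5 j)) 2993 % 4096 ≠ 1635) i hi j hj
  have h5 := app_lt (amul (apw (cL 0) i) (apw cS5 j)) 2993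
  generalize app (amul (apw (cL 0) i) (apw cS5 j)) 2993 = b at h3 h4 h5
  have h6 : qv z g a * qv z g b = qv z g 1635 * qv z g a := by
    rw [← h, ← h3, mul_assoc _ (x ^ m), h2]; group
  rw [← q.qv_mul ha h5, ← q.qv_mul (by norm_num) ha] at h6
  have h7 := q.qv_inj (qmul_lt ha h5) (qmul_lt (by norm_num) ha) h6
  refine h4 (Nat.eq_of_testBit_eq fun n => ?_)
  by_cases hn : n < 12
  · have h8 := congrArg (Nat.testBit · n) h7
    simp only [testBit_qmul _ _ hn, Nat.testBit_xor] at h8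
    rw [show 4096 = 2 ^ 12 from rfl, Nat.testBit_mod_two_pow, decide_eq_true hn, Bool.true_and]
    revert h8
    cases a.testBit n <;> simp
  · rw [Nat.testBit_lt_two_pow ((Nat.mod_lt _ (by norm_num)).trans_le (Nat.pow_le_pow_right (by norm_num) (not_lt.1 hn) :
      2 ^ 12 ≤ _)), Nat.testBit_lt_two_pow (lt_of_lt_of_le (by norm_num) (Nat.pow_le_pow_right (by norm_num) (not_lt.1 hn)))]

theorem cover_z {v : G} (hx : Commute x v) {n : ℕ} (h : v ^ 2 ^ (n + 1) = z) :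
    ∃ i < 9, ∃ k, Commute x k ∧ k * v * k⁻¹ = vE z g l r i := by
  have q := s.j.x.q
  have h1 : v ^ 2 ^ (n + 2) = 1 := by rw [pow_succ, pow_mul, h, _root_.sq, q.z_sq]
  have h2 : ∀ {p : ℕ}, Nat.Coprime 2 p → (orderOf v).Coprime p := fun hp =>
    (hp.pow_left _).coprime_dvd_left (orderOf_dvd_of_pow_eq_one h1)
  have h3 : ∀ {u : G}, u ^ 2 ^ (n + 1) = z → u ^ 2 ≠ 1 := fun {u} h e => q.z_ne (by rw [← h, pow_succ', pow_mul, e, one_pow])
  have rp := fun i => Let.rp_pow q (s.j.x.rp 0 (by norm_num)) i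
  obtain ⟨a, ha, i, hi, j, hj, m, e, h4, -⟩ := s.dec (h ▸ ((Commute.refl v).pow_right _).eq) hx
  rw [h4 (h2 (by norm_num)), pow_zero, mul_one] at e
  interval_cases j
  · have h5 : v ^ 3 ∈ QG g := by
      have a1 := q.qv_mem a
      have a2 := fun y hy => s.j.x.st.nQ _ (rp i).1 y hy
      have a3 := mul_mem a1 (a2 _ (mul_mem a1 (a2 _ a1)))
      have a4 : l 0 ^ i * (l 0 ^ i * l 0 ^ i) = 1 := by rw [← pow_three, ← pow_mul, mul_comm, pow_mul, VB.p3 s.j.x, one_pow]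
      rwa [e, pow_zero, mul_one, show (qv z g a * l 0 ^ i) ^ 3 = qv z g a * (l 0 ^ i * (qv z g a * (l 0 ^ i * qv z g a *
        (l 0 ^ i)⁻¹)) * (l 0 ^ i)⁻¹) * (l 0 ^ i * (l 0 ^ i * l 0 ^ i)) by rw [pow_three]; group, a4, mul_one]
    obtain ⟨b, hb, rfl⟩ := q.mem_QG.1 (zpowers_le.2 h5 (mem_zpowers_pow_iff.2 (h2 (by norm_num)).symm))
    obtain ⟨d, hd, t, -, h6⟩ := (chkQ5 b hb ((s.x_qv hb).1 hx)).1.resolve_left fun h6 =>
      h3 h (by rw [_root_.sq, ← q.qv_mul hb hb, h6, q.qv_zero])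
    have h7 : d < 8192 ∧ app cX5 d = d := (by decide +kernel : ∀ d ∈ [0, 18], d < 8192 ∧ app cX5 d = d) d hd
    have h8 : qv z g d * l 0 ^ t * qv z g b * (qv z g d * l 0 ^ t)⁻¹ =
        qv z g (qmul (qmul d (app (apw cP t) b)) (qinv d)) := by
      rw [q.qv_mul (qmul_lt h7.1 (app_lt _ _)) (qinv_lt h7.1), q.qv_mul h7.1 (app_lt _ _), q.qv_qinv h7.1,
        ← cL_zero, ← q.rp_app (rp t) hb]; group
    have h9 := ((s.x_qv h7.1).2 h7.2).mul_right (s.x_p.pow_right t)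
    rcases List.mem_pair.1 h6 with h6 | h6 <;> rw [h6] at h8
    exacts [⟨3, by norm_num, _, h9, h8⟩, ⟨4, by norm_num, _, h9, h8⟩]
  · have h5 : l 0 ^ i * v * (l 0 ^ i)⁻¹ = qv z g (app (apw (cL 0) i) a) * r := by
      have a1 : r * (l 0 ^ i)⁻¹ = l 0 ^ i * r := by
        rw [← mul_inv_eq_iff_eq_mul, ← inv_pow, ← conj_pow, ← conj_inv, s.r_p, inv_inv]
      have a4 : l 0 ^ i * (l 0 ^ i * l 0 ^ i) = 1 := by rw [← pow_three, ← pow_mul, mul_comm, pow_mul, VB.p3 s.j.x, one_pow]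
      rw [← q.rp_app (rp i) ha, e, pow_one, mul_assoc, mul_assoc, a1, inv_eq_of_mul_eq_one_right a4]; group
    have hb := app_lt (apw (cL 0) i) a
    generalize app (apw (cL 0) i) a = b at h5 hb
    have h6 : Commute x (qv z g b) := by
      have a1 := h5 ▸ ((s.x_p.pow_right i).mul_right hx).mul_right (s.x_p.pow_right i).inv_right
      simpa using a1.mul_right s.x_r.inv_right
    have h7 : (qv z g b * r) ^ 2 ^ (n + 1) = z := by rw [← h5, conj_pow, h, (rp i).1, mul_inv_cancel_right]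
    obtain ⟨d, hd, h8⟩ := (chkQ5 b hb ((s.x_qv hb).1 h6)).2.resolve_left fun h8 => by
      have a1 := qmul_lt hb (app_lt cS5 b)
      rw [pow_succ', pow_mul, s.sq_qr hb] at h7
      rcases n with _ | n
      · exact h8.1 (q.qv_inj a1 (by norm_num) ((pow_one _).symm.trans (h7.trans q.qv_z.symm)))
      · exact q.z_ne (by rw [← h7, pow_succ', pow_mul, _root_.sq, ← q.qv_mul a1 a1, h8.2, q.qv_zero, one_pow])
    have h9 : d < 8192 ∧ app cX5 d = d :=
      (by decide +kernel : ∀ d ∈ [0, 18, 35, 49, 3520, 3538, 3555, 3569], d < 8192 ∧ app cX5 d = d) d hd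
    have h10 : qv z g d * l 0 ^ i * v * (qv z g d * l 0 ^ i)⁻¹ = qv z g (qmul (qmul d b) (app cS5 (qinv d))) * r := by
      rw [q.qv_mul (qmul_lt h9.1 hb) (app_lt _ _), q.qv_mul h9.1 hb, ← q.rp_app s.rr (qinv_lt h9.1), q.qv_qinv h9.1,
        show ∀ a b c : G, a * b * c * (a * b)⁻¹ = a * (b * c * b⁻¹) * a⁻¹ from fun _ _ _ => by group, h5]; group
    have h11 := ((s.x_qv h9.1).2 h9.2).mul_right (s.x_p.pow_right i)
    rcases List.mem_pair.1 h8 with h8 | h8 <;> rw [h8] at h10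
    exacts [⟨5, by norm_num, _, h11, h10⟩, ⟨6, by norm_num, _, h11, h10⟩]

theorem no_four {v : G} (hx : Commute x v) {n : ℕ} : v ^ 2 ^ (n + 1) ≠ vv z g l 18 := fun h => by
  have m := s.j.t.m
  obtain ⟨a, ha, y, rfl⟩ := m.mem_N.1 (s.j.cd 18 (by norm_num) (by decide +kernel)
    (mem_cen.2 (h ▸ ((Commute.refl v).pow_right _).eq)))
  obtain ⟨h1, h2⟩ := m.split_comm (m.vv_mem a) (s.mx ▸ hx.symm.eq)
  have h3 := allRange_zero chkV5 a ha
  rw [← code_el mX5 (by decide +kernel), (m.psi_comm_iff _ ha).1 h2.symm, bor_iff, MB.memL_iff] at h3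
  have h4 := cent5 (by decide +kernel) ((code_el mX5 _).trans (by decide +kernel)) chkM5 y.2 (congrArg Subtype.val h1)
  rw [band_iff, nbeq_iff, ← code_pow, ← code_pow, ← eq_one_iff_code] at h4
  obtain ⟨b, hb, e⟩ := m.pow_N ha y (2 ^ (n + 1))
  rw [h, ← mul_one (vv z g l 18), ← map_one ψ] at e
  have h5 : (y : PG) ^ 2 = 1 := orderOf_dvd_iff_pow_eq_one.1 (Nat.Coprime.dvd_of_dvd_mul_left
    (Nat.Coprime.coprime_dvd_left (orderOf_dvd_of_pow_eq_one (congrArg Subtype.val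
      (m.vv_psi_inj (by norm_num) hb e).2.symm)) (Nat.Coprime.pow_left _ (by norm_num)))
    (orderOf_dvd_of_pow_eq_one (n := 15 * 2) h4.1))
  have h6 := h4.2
  rw [h5, code_one, bor_iff] at h6
  have h7 := MB.allL_iff.1 (h6.resolve_left (by simp)) a (h3.resolve_left (by simp))
  rw [pow_succ', pow_mul, _root_.sq, m.mul_N _ _ ha, ← _root_.sq, show y ^ 2 = 1 from Subtype.ext h5, map_one, mul_one] at h
  rcases n with _ | n
  · rw [m.o.x.vv_inj (Split.xor_lt ha (Split.va_lt _ _)) (by norm_num) ((pow_one _).symm.trans h)] at h7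
    simp at h7
  · exact m.vv_ne_one (x := 18) (by norm_num) (by norm_num) (by rw [← h, pow_succ', pow_mul, _root_.sq, m.vv_sq, one_pow])

theorem x_u : Commute x (vv z g l 18) :=
  s.mx ▸ (s.j.t.m.psi_comm_iff _ (by norm_num)).2 (by rw [code_el]; decide +kernel)

theorem vE_spec {i : ℕ} (hi : i < 9) : Commute x (vE z g l r i) ∧ orderOf (vE z g l r i) = oE i := by
  have q := s.j.x.q
  have h1 : ∀ {u : G} (n : ℕ), u ^ 2 ^ n = z → orderOf u = 2 ^ (n + 1) := fun n h =>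
    orderOf_eq_prime_pow (h ▸ q.z_ne) (by rw [pow_succ, pow_mul, h, _root_.sq, q.z_sq])
  have h2 : ∀ {a : ℕ}, a < 8192 → qmul a a = 4096 → qv z g a ^ 2 = z := fun ha h => by
    rw [_root_.sq, ← q.qv_mul ha ha, h, q.qv_z]
  have h3 : ∀ {a : ℕ}, a < 8192 → qmul (qmul a (app cS5 a)) (qmul a (app cS5 a)) = 4096 →
      (qv z g a * r) ^ 2 ^ 2 = z := fun ha h => by
    rw [_root_.sq 2, pow_mul, s.sq_qr ha, h2 (qmul_lt ha (app_lt _ _)) h]
  interval_cases i
  · exact ⟨Commute.one_right x, orderOf_one⟩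
  · exact ⟨s.rx.1, s.j.x.orderOf_z⟩
  · exact ⟨s.x_u, orderOf_eq_prime (p := 2) ((_root_.sq _).trans (s.j.t.m.vv_sq 18)) (s.j.t.m.vv_ne_one (by norm_num) (by norm_num))⟩
  · exact ⟨(s.x_qv (by norm_num)).2 (by decide +kernel), h1 1 (h2 (by norm_num) (by decide +kernel))⟩
  · exact ⟨(s.x_qv (by norm_num)).2 (by decide +kernel), h1 1 (h2 (by norm_num) (by decide +kernel))⟩
  · exact ⟨((s.x_qv (by norm_num)).2 (by decide +kernel)).mul_right s.x_r, h1 2 (h3 (by norm_num) (by decide +kernel))⟩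
  · exact ⟨((s.x_qv (by norm_num)).2 (by decide +kernel)).mul_right s.x_r, h1 2 (h3 (by norm_num) (by decide +kernel))⟩
  · exact ⟨s.x_p, s.j.x.st.p3⟩
  · refine ⟨Commute.mul_right s.rx.1 s.x_p, ?_⟩
    show orderOf (z * l 0) = 6
    rw [Commute.orderOf_mul_eq_mul_orderOf_of_coprime s.j.x.st.pH.symm
      (by rw [s.j.x.orderOf_z, s.j.x.st.p3]; norm_num), s.j.x.orderOf_z, s.j.x.st.p3]

theorem nc_five {i : ℕ} (hi : i < 9) {j : ℕ} (hj : j < i) {k : G} (hk : Commute x k) :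
    k * vE z g l r i * k⁻¹ ≠ vE z g l r j := fun h => by
  have h1 := ord_eq (isConj_iff.2 ⟨k, h⟩)
  rw [(s.vE_spec hi).2, (s.vE_spec (by omega)).2] at h1
  obtain ⟨rfl, rfl⟩ | ⟨rfl, rfl⟩ | ⟨rfl, rfl⟩ := ((by decide : ∀ i < 9, ∀ j < i, oE i ≠ oE j ∨
    i = 2 ∧ j = 1 ∨ i = 4 ∧ j = 3 ∨ i = 6 ∧ j = 5) i hi j hj).resolve_left (not_not.2 h1)
  · exact s.j.t.m.not_conj (x := 18) (by norm_num) (by decide +kernel) (isConj_iff.2 ⟨k, h⟩).symm
  · exact s.nc_four hk h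
  · have h2 : (k * (qv z g 49 * r) * k⁻¹) ^ 2 = (qv z g 35 * r) ^ 2 := congrArg (· ^ 2) h
    rw [conj_pow, s.sq_qr (by norm_num), s.sq_qr (by norm_num), show qmul 49 _ = 2993 by decide +kernel,
      show qmul 35 _ = 1635 by decide +kernel] at h2
    exact s.nc_four hk h2

theorem cover_five {v : G} (hx : Commute x v) (h5 : ¬ 5 ∣ orderOf v) (h7 : ¬ 7 ∣ orderOf v) :
    ∃ i < 9, ∃ k, Commute x k ∧ k * v * k⁻¹ = vE z g l r i := by
  have q := s.j.x.q
  have hG : ¬ 5 * 5 ∣ Nat.card G := by rw [s.j.card]; norm_num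
  have c : ∀ {p : ℕ}, p.Prime → ¬ p ∣ orderOf v → (orderOf v).Coprime p := fun hp h =>
    ((Nat.Prime.coprime_iff_not_dvd hp).2 h).symm
  have d1 := VB.rw s.j.x (w := [1, 7, 8, 10, 3, 9, 10, 6, 9]) rfl
  have d2 := s.conj_x d1 (n := 2) (by decide +kernel)
  have key : ∀ {k w : G}, k * x * k⁻¹ = x → w = k * v * k⁻¹ → (∃ i < 9, ∃ k, Commute x k ∧ k * w * k⁻¹ = vE z g l r i) →
      ∃ i < 9, ∃ k, Commute x k ∧ k * v * k⁻¹ = vE z g l r i := fun {k w} h1 h2 ⟨i, hi, m, h3, h4⟩ =>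
    ⟨i, hi, m * k, h3.mul_right (mul_inv_eq_iff_eq_mul.1 h1).symm, by rw [← h4, h2]; group⟩
  have cm : ∀ {k : G}, k * x * k⁻¹ = x → Commute x (k * v * k⁻¹) := fun {k} h => by
    simpa [h] using hx.map (MulAut.conj k)
  by_cases h3 : 3 ∣ orderOf v
  · obtain ⟨k, h1, h2⟩ := wlog_five hG s.ord (hx.pow_right (orderOf v / 3)) (s.j.isConj_three
      (orderOf_pow_orderOf_div (orderOf_pos v).ne' h3) s.j.x.st.p3) s.x_p
      (Let.comm_of_code s.j.x.st q (s.j.x.rp 0 (by norm_num)) d1 (by decide +kernel)) d2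
    refine key h1 rfl ?_
    have h4 := cm h1
    have h6 := ord_eq (isConj_iff.2 ⟨k, rfl⟩ : IsConj v _)
    rw [← conj_pow] at h2
    generalize k * v * k⁻¹ = w at h2 h4 h6
    have h8 : w * l 0 = l 0 * w := h2 ▸ ((Commute.refl w).pow_right _).eq
    obtain ⟨a, ha, i, hi, j, -, m, e, h9, h10⟩ := s.dec (mem_cen.1 (s.j.cent_p_le (mem_cen.2 h8))) h4
    rw [h9 (h6 ▸ c (by norm_num) h5), h10 h8, pow_zero, pow_zero, mul_one, mul_one] at e
    have h11 := Commute.mul_left (e ▸ h8) ((Commute.refl (l 0)).pow_left i).inv_left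
    rw [mul_inv_cancel_right] at h11
    have h12 : r * l 0 ^ 2 * r⁻¹ = l 0 := by
      rw [← conj_pow, s.r_p, inv_pow, inv_eq_iff_mul_eq_one, ← pow_succ, VB.p3 s.j.x]
    have h13 : i ≠ 0 := by
      rintro rfl
      rw [pow_zero, mul_one] at e
      have a1 := (h6 ▸ h3).trans (orderOf_dvd_natCard _ (e ▸ q.qv_mem a))
      rw [q.card_QG] at a1
      norm_num at a1
    rcases s.j.x.st.fpf _ (q.qv_mem a) h11.symm with h14 | h14 <;> rw [e, h14] <;> interval_cases i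
    · omega
    · exact ⟨7, by norm_num, 1, Commute.one_right x, by simp [vE]⟩
    · exact ⟨7, by norm_num, r, s.x_r, by rw [one_mul, h12]; rfl⟩
    · omega
    · exact ⟨8, by norm_num, 1, Commute.one_right x, by simp [vE]⟩
    · exact ⟨8, by norm_num, r, s.x_r, by rw [← conj_mul, h12, s.rr.1, mul_inv_cancel_right]; rfl⟩
  obtain ⟨n, -, hn⟩ := (Nat.dvd_prime_pow Nat.prime_two).1 (Nat.Coprime.dvd_of_dvd_mul_right (n := 3 * 5 * 7) (m := 2 ^ 6)
    (by simp only [Nat.coprime_mul_iff_right]; exact ⟨⟨c (by norm_num) h3, c (by norm_num) h5⟩, c (by norm_num) h7⟩)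
    ((orderOf_dvd_natCard _ (mem_cen.2 hx.symm.eq)).trans (by rw [s.j.card_cent5 s.ord]; norm_num)))
  rcases n with _ | n
  · exact ⟨0, by norm_num, 1, Commute.one_right x, by simp [vE, orderOf_eq_one_iff.1 hn]⟩
  have h1 : v ^ 2 ^ n * v ^ 2 ^ n = 1 := by rw [← pow_add, ← mul_two, ← pow_succ, ← hn, pow_orderOf_eq_one]
  have h2 : v ^ 2 ^ n ≠ 1 := pow_ne_one_of_lt_orderOf (by positivity)
    (hn ▸ Nat.pow_lt_pow_right (by norm_num) (by omega))
  rcases s.j.cls _ h1 h2 with h4 | h4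
  · obtain ⟨k, h6, h8⟩ := wlog_five hG s.ord (hx.pow_right _) h4.symm s.rx.1 d1.1 d2
    rw [← conj_pow] at h8
    refine key h6 rfl ?_
    rcases n with _ | n
    · exact ⟨1, by norm_num, 1, Commute.one_right x, by simpa [vE] using h8⟩
    · exact s.cover_z (cm h6) h8
  · have h9 := (s.j.cls _ (s.j.t.m.vv_sq 18) (s.j.t.m.vv_ne_one (by norm_num) (by norm_num))).resolve_left
      (s.j.t.m.not_conj (by norm_num) (by decide +kernel))
    obtain ⟨k, h6, h8⟩ := wlog_five hG s.ord (hx.pow_right _) (h4.symm.trans h9) s.x_u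
      (d := ψ (el 964029945230847494455057676411121984))
      ((s.j.t.m.psi_comm_iff _ (by norm_num)).2 (by rw [code_el]; decide +kernel)) (by
        rw [s.mx, ← map_inv, ← map_mul, ← map_mul, ← map_pow]
        exact congrArg ψ (Subtype.ext (code_injective (by
          simp only [coe_mul, coe_inv, coe_pow, code_mul, code_inv, code_pow, code_el]; decide +kernel))))
    rw [← conj_pow] at h8
    refine key h6 rfl ?_
    rcases n with _ | n
    · exact ⟨2, by norm_num, 1, Commute.one_right x, by simpa [vE] using h8⟩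
    · exact absurd h8 (s.no_four (cm h6))

end St5

theorem StJ.kk_five [Finite G] {z : G} {g l : ℕ → G} {π : centralizer ({z} : Set G) →* PG} {ψ : M24 →* G}
    (s : StJ z π g l ψ) : kk {a : G | ty (orderOf a) = 7} = 9 := by
  have : Fact (Nat.Prime 5) := ⟨by norm_num⟩
  obtain ⟨x, r, t⟩ := s.exists_st5
  have h3 : ∀ i < 9, ¬ 5 ∣ orderOf (vE z g l r i) := fun i hi => by
    rw [(t.vE_spec hi).2]; exact (by decide : ∀ i < 9, ¬ 5 ∣ oE i) i hi
  refine kk_list (fun i => x * vE z g l r i) 9 (fun i hi j hj h => ?_) (fun a ha => ?_) fun i hi => ?_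
  · obtain ⟨k, hk⟩ := isConj_iff.1 h
    obtain ⟨h4, h5⟩ := conj_parts t.ord t.ord (t.vE_spec hi).1 (t.vE_spec (by omega)).1 (h3 i hi) (h3 j (by omega)) hk
    exact t.nc_five hi hj (mul_inv_eq_iff_eq_mul.1 h4).symm h5
  · obtain ⟨a1, a2⟩ := (ty_dvd ha).2.2.2.2.2.2.2.1 rfl
    obtain ⟨y, hy, h4⟩ := exists_sec (exp_of_sq (by rw [s.card]; norm_num)) a1
    obtain ⟨v, h5, h6, h7⟩ := sec_mono (s.isConj_five hy t.ord) h4
    obtain ⟨i, hi, k, hk, e⟩ := t.cover_five h5 h6 fun h => a2 (by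
      rw [ord_eq h7, ord_mul t.ord h5 h6]; exact h.mul_left 5)
    exact ⟨i, hi, h7.trans (isConj_iff.2 ⟨k, by rw [← e, ← conj_mul, ← hk.eq, mul_inv_cancel_right]⟩)⟩
  · show ty _ = 7
    rw [ord_mul t.ord (t.vE_spec hi).1 (h3 i hi), (t.vE_spec hi).2]
    exact (by decide : ∀ i < 9, ty (5 * oE i) = 7) i hi

end Cfsg.Agent.J4T
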