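import Mathlib
import Cfsg.Agent.J4T.LocA
import Cfsg.Agent.J4T.Slp
import Cfsg.Agent.Sym.Present
import Cfsg.Agent.Spor.MTM24
import Cfsg.Agent.GT.PGroupElemAb
import Cfsg.Agent.Cl.LinearIso
import Cfsg.Agent.Inv.BrauerFowler

/-!
The centralisers and normalisers of the subgroups of orders 5 and 7.
-/

set_option autoImplicit false

namespace Cfsg.Agent.J4T

open Cfsg.Agent.Spor Cfsg.Agent.Spor.MB Cfsg.Agent.Spor.J4C Cfsg.Agent.Spor.NM Subgroup Cfsg.Agent.Inv.Fz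

variable {G : Type*} [Group G]

namespace Lc

theorem card_norm_le [Finite G] (K : Subgroup G) {x : G} (hx : x ≠ 1) :
    Nat.card ↥(K ⊓ normalizer (zpowers x : Set G)) ≤ (orderOf x - 1) * Nat.card ↥(K ⊓ centralizer {x}) := by
  rw [← card_class (K ⊓ normalizer (zpowers x : Set G)) x (X := {y | ∃ h ∈ _, h * x * h⁻¹ = y}) fun _ => Iff.rfl]
  refine Nat.mul_le_mul ?_ (card_le_of_le (inf_le_inf_right _ inf_le_left))
  rw [← Nat.card_zpowers, ← SetLike.coe_sort_coe, Nat.card_coe_set_eq,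
    ← Set.ncard_sdiff_singleton_of_mem (one_mem (zpowers x))]
  refine Set.ncard_le_ncard ?_ (Set.toFinite _)
  rintro _ ⟨h, hh, rfl⟩
  exact ⟨Rec.conj_mem_of_mem_norm hh.2 (mem_zpowers x), mt Rec.conj_eq_one.1 hx⟩

/-- A program whose letter `k` generates a given subgroup of prime order. -/
theorem slp_sub [Finite G] (e : Cfsg.Spor.J4 ≃* G) {prog : List (List ℕ)} {eqs nes : List (List ℕ × List ℕ)}
    {k p m : ℕ} [Fact p.Prime] (h : runM (chkM ((powW p [k], []) :: eqs) (([k], []) :: nes)) prog 5 m5 = true)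
    (hG : Nat.card G = p * m) (hm : ¬ p ∣ m) {S : Subgroup G} (hS : Nat.card S = p) :
    ∃ a : ℕ → G, zpowers (a k) = S ∧ (∀ q ∈ eqs, evalW a q.1 = evalW a q.2) ∧ ∀ q ∈ nes, evalW a q.1 ≠ evalW a q.2 := by
  obtain ⟨a, -, h1, h2⟩ := slp_of_equiv e h
  rw [List.forall_mem_cons] at h1 h2
  have h3 : Nat.card (zpowers (a k)) = p := by
    rw [Nat.card_zpowers]
    exact orderOf_eq_prime (by simpa [evalW_powW] using h1.1) (by simpa using h2.1)
  obtain ⟨c, -, rfl⟩ := exists_cj_eq (K := ⊤) (by rw [card_top, hG]) hm h3 hS le_top le_top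
  have h4 : ∀ w, evalW (fun i => MulAut.conj c (a i)) w = MulAut.conj c (evalW a w) := fun w =>
    (map_evalW (MulAut.conj c).toMonoidHom a w).symm
  exact ⟨fun i => MulAut.conj c (a i), (cj_zpowers _ _).symm, fun q hq => by rw [h4, h4, h1.2 q hq],
    fun q hq => by rw [h4, h4]; exact (MulAut.conj c).injective.ne (h2.2 q hq)⟩

theorem seven_final [Finite G] {y n : G} (hy : orderOf y = 7) (hn : n * y = y ^ 2 * n) {t : Fin 4 → G}
    (h1 : ∀ i, t i * t i = 1) (h2 : ∀ i j : Fin 4, i.val + 1 = j.val → t i * t j * t i = t j * t i * t j)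
    (h3 : ∀ i j : Fin 4, i.val + 1 < j.val → Commute (t i) (t j)) (h4 : t 0 * t 1 ≠ 1) (h5 : ∀ i, t i * y = y * t i)
    (hN : Nat.card (normalizer (zpowers y : Set G)) = 2520) :
    (∃ I : Subgroup G, Cfsg.IsInternalDirectProduct (zpowers y) I (centralizer (zpowers y : Set G)) ∧
      Nonempty (I ≃* Equiv.Perm (Fin 5))) ∧ Nat.card (centralizer (zpowers y : Set G)) = 840 := by
  have : Fact (Nat.Prime 7) := ⟨by norm_num⟩
  obtain ⟨φ, hφ⟩ := Sym.exists_hom_of_coxeter 4 t h1 h2 h3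
  have k1 : Function.Injective φ := by
    rw [← MonoidHom.ker_eq_bot_iff]
    by_contra h
    have k := Equiv.Perm.alternatingGroup_le_of_normal (α := Fin 5) (by simp) ((nontrivial_iff_ne_bot _).2 h)
    refine h4 ?_
    rw [← hφ, ← hφ, ← map_mul]
    exact k (by rw [Equiv.Perm.mem_alternatingGroup]; decide)
  have k2 : φ.range ≤ centralizer (zpowers y : Set G) := by
    rw [MonoidHom.range_eq_map, map_le_iff_le_comap, cent_zpowers, ← toSubmonoid_le, top_toSubmonoid,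
      ← Equiv.Perm.mclosure_swap_castSucc_succ, Submonoid.closure_le]
    rintro _ ⟨i, rfl⟩
    exact Rec.mem_cen.2 (hφ i ▸ h5 i)
  have k3 : Nat.card φ.range = 120 := by
    rw [← Nat.card_congr (MonoidHom.ofInjective k1).toEquiv, Nat.card_perm]; simp [Nat.factorial]
  have k4 : Nat.card (zpowers y) = 7 := by rw [Nat.card_zpowers, hy]
  have k5 : zpowers y ⊓ φ.range = ⊥ := (disjoint_of_coprime_natCard (by rw [k3, k4]; norm_num)).eq_bot
  have k6 := GT.HT.card_sup_mul_card_inf (k2.trans (centralizer_le_normalizer _))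
  rw [k5, card_bot, k3, k4] at k6
  have k7 : zpowers y ⊔ φ.range ≤ centralizer (zpowers y : Set G) := sup_le (le_centralizer _) k2
  have k8 := card_le_of_le k7
  obtain ⟨m, m1, m2, -, m3, -⟩ := Rec.Syl.exists_automizer hy
  obtain ⟨j, j1, j2⟩ := m3 n 2 (mul_inv_eq_iff_eq_mul.2 hn)
  have k9 : 3 ≤ m := by
    have a1 := Nat.le_of_dvd (Nat.pos_of_dvd_of_pos m1 (by norm_num)) j1
    have a2 := j1.trans m1
    by_contra a3
    have a4 : j < 3 := by omega
    interval_cases j <;> simp at a2 j2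
  have k10 : Nat.card (centralizer (zpowers y : Set G)) = 840 := by nlinarith
  exact ⟨⟨_, ⟨le_centralizer _, k2, fun a ha b hb => mem_centralizer_iff.1 (k2 hb) a ha, k5,
    eq_of_le_of_card_ge k7 (by omega)⟩, ⟨(MonoidHom.ofInjective k1).symm⟩⟩, k10⟩

theorem exists_elem {e : ℕ → G} {n : ℕ} (h1 : ∀ i < n, e i * e i = 1) (h2 : ∀ i < n, ∀ j < n, e i * e j = e j * e i)
    (h3 : ∀ a < 2 ^ n, gp e a n = 1 → a = 0) : ∃ E : Subgroup G, Cfsg.IsElementaryAbelian 2 E ∧ Nat.card E = 2 ^ n ∧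
      ∀ x, x ∈ E ↔ ∃ a < 2 ^ n, gp e a n = x := by
  have k1 : ∀ a, gp e a n * gp e a n = 1 := fun a => by rw [← gp_xor h1 h2, Nat.xor_self, gp_zero]
  let E : Subgroup G :=
    { carrier := {x | ∃ a < 2 ^ n, gp e a n = x}
      one_mem' := ⟨0, Nat.two_pow_pos n, gp_zero _ _⟩
      mul_mem' := by
        rintro _ _ ⟨a, ha, rfl⟩ ⟨b, hb, rfl⟩
        exact ⟨_, Nat.xor_lt_two_pow ha hb, gp_xor h1 h2 a b⟩
      inv_mem' := by
        rintro _ ⟨a, ha, rfl⟩
        exact ⟨a, ha, eq_inv_of_mul_eq_one_left (k1 a)⟩ }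
  refine ⟨E, ⟨⟨⟨?_⟩⟩, ?_⟩, ?_, fun _ => Iff.rfl⟩
  · rintro ⟨_, a, -, rfl⟩ ⟨_, b, -, rfl⟩
    exact Subtype.ext ((gp_xor h1 h2 a b).symm.trans (Nat.xor_comm a b ▸ gp_xor h1 h2 b a))
  · rintro _ ⟨a, -, rfl⟩
    rw [sq, k1]
  · rw [← List.length_range (n := 2 ^ n)]
    refine ncard_of_list (X := (E : Set G)) (f := fun a => gp e a n) (n := 2 ^ n) (fun a ha b hb h => ?_)
      ⟨List.nodup_range, fun a => List.mem_range.1⟩ fun x => by simp only [List.mem_range]; rfl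
    exact Nat.xor_eq_zero_iff.1 (h3 _ (Nat.xor_lt_two_pow ha hb) (by rw [gp_xor h1 h2, h, k1]))

theorem ext_final [Finite G] {J E : Subgroup G} (hE : Cfsg.IsElementaryAbelian 2 E) (h8 : Nat.card E = 2 ^ 3)
    (hEJ : E ≤ J) (hJ : Nat.card J = 1344) {u w : G} (hu : u ∈ J ⊓ normalizer (E : Set G))
    (hw : w ∈ J ⊓ normalizer (E : Set G)) (u7 : u ^ 7 = 1) (u1 : u ∉ centralizer (E : Set G))
    (w2 : w ^ 2 ∉ centralizer (E : Set G)) (w4 : w ^ 4 ∈ E) (w1 : w ^ 4 ≠ 1) (w3 : ∀ e ∈ E, (e * w) ^ 4 = w ^ 4) :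
    ∃ (F : Subgroup J) (_ : F.Normal), Cfsg.IsElementaryAbelian 2 F ∧ Nat.card F = 8 ∧
      Nonempty (J ⧸ F ≃* Matrix.SpecialLinearGroup (Fin 3) (ZMod 2)) ∧ ∀ K : Subgroup J, ¬ F.IsComplement' K := by
  have : Fact (Nat.Prime 7) := ⟨by norm_num⟩
  have := hE.1
  obtain ⟨α⟩ := GT.PG.nonempty_mulAut_equiv_GL (p := 2) hE.1 (fun x => Subtype.ext (hE.2 x x.2)) h8
  obtain ⟨β⟩ := Cl.psl2_zmod_seven_equiv_sl
  have := Cl.psl_fin_isSimpleGroup (F := ZMod 7) (n := 2) le_rfl (by simp)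
  have := β.symm.isSimpleGroup
  have c1 : Nat.card (Matrix.SpecialLinearGroup (Fin 3) (ZMod 2)) = 168 := by
    rw [Nat.card_congr (Cl.slEquivGLOfCardTwo (by simp)).toEquiv, Matrix.card_GL_field]
    simp [Fin.prod_univ_three]
  let γ := α.trans (Cl.slEquivGLOfCardTwo (by simp)).symm
  let φ := γ.toMonoidHom.comp (E.normalizerMonoidHom.comp (inclusion (inf_le_right (a := J))))
  have k1 : ∀ x, φ x = 1 ↔ (x : G) ∈ centralizer (E : Set G) := fun x => by
    refine γ.map_eq_one_iff.trans ?_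
    rw [MonoidHom.comp_apply, ← MonoidHom.mem_ker, normalizerMonoidHom_ker, mem_subgroupOf]
    rfl
  have k2 : φ.range = ⊤ := by
    by_contra h
    have a1 : 7 ∣ Nat.card φ.range := by
      rw [← orderOf_eq_prime (p := 7) (x := φ ⟨u, hu⟩) (by rw [← map_pow, ← map_one φ]; exact congrArg φ (Subtype.ext u7))
        (mt (k1 _).1 u1)]
      exact orderOf_dvd_natCard _ ⟨_, rfl⟩
    have a2 : 2 ^ 2 ∣ Nat.card φ.range := by
      rw [← orderOf_eq_prime_pow (x := φ ⟨w, hw⟩) (n := 1) (by rw [← map_pow, k1]; exact w2)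
        (by rw [← map_pow, k1]; exact le_centralizer _ w4)]
      exact orderOf_dvd_natCard _ ⟨_, rfl⟩
    obtain ⟨k, hk⟩ := Nat.Coprime.mul_dvd_of_dvd_of_dvd (by norm_num) a1 a2
    have a3 := φ.range.index_mul_card
    have a4 := Inv.card_dvd_factorial_index h
    rw [c1] at a3 a4
    have a5 : φ.range.index ≤ 6 := by
      rw [hk] at a3
      rcases k with _ | k
      · simp at a3
      · nlinarith
    exact absurd (a4.trans (Nat.factorial_dvd_factorial a5)) (by decide)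
  have k3 := φ.ker.index_mul_card
  rw [index_ker, k2, card_top, c1] at k3
  have k4 : E.subgroupOf (J ⊓ normalizer (E : Set G)) ≤ φ.ker := fun x hx => (k1 x).2 (le_centralizer _ hx)
  have k5 : Nat.card (E.subgroupOf (J ⊓ normalizer (E : Set G))) = 8 :=
    (Nat.card_congr (subgroupOfEquivOfLe (le_inf hEJ le_normalizer)).toEquiv).trans h8
  have k6 := card_le_of_le k4
  have k7 : J ⊓ normalizer (E : Set G) = J := eq_of_le_of_card_ge inf_le_left (by omega)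
  have k8 := card_le_of_le (inf_le_left : J ⊓ normalizer (E : Set G) ≤ J)
  have k9 := eq_of_le_of_card_ge k4 (by omega)
  let θ := φ.comp (inclusion k7.ge)
  have k10 : θ.ker = E.subgroupOf J := Subgroup.ext fun x => by
    show inclusion k7.ge x ∈ φ.ker ↔ _
    rw [← k9]; rfl
  have k11 : Function.Surjective θ := fun y => by
    obtain ⟨x, rfl⟩ := MonoidHom.range_eq_top.1 k2 y
    exact ⟨⟨x, x.2.1⟩, rfl⟩
  refine ⟨θ.ker, inferInstance, ⟨k10 ▸ inferInstance, fun a ha => Subtype.ext (hE.2 _ (k10.le ha))⟩, ?_,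
    ⟨QuotientGroup.quotientKerEquivOfSurjective θ k11⟩, fun K hK => w1 ?_⟩
  · rw [k10]
    exact (Nat.card_congr (subgroupOfEquivOfLe hEJ).toEquiv).trans h8
  · obtain ⟨⟨e, k⟩, h⟩ := hK.2 ⟨w, hw.1⟩
    have a1 : ((k : J) : G) = ((e : J) : G)⁻¹ * w := eq_inv_mul_of_mul_eq (congrArg Subtype.val h)
    have a2 : ((k : J) : G) ^ 4 = w ^ 4 := a1 ▸ w3 _ (inv_mem (k10.le e.2))
    have a3 : (k : J) ^ 4 = 1 := disjoint_def.1 hK.disjoint (k10.ge (show ((k : J) : G) ^ 4 ∈ E from a2 ▸ w4)) (pow_mem k.2 4)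
    rw [← a2]
    exact congrArg Subtype.val a3

theorem exists_twenty [Finite G] {b d : G} (hb : orderOf b = 5) (hd : d ^ 4 = 1) (h : d * b = b ^ 2 * d) :
    ∃ R : Subgroup G, zpowers b ≤ R ∧ R ≤ normalizer (zpowers b : Set G) ∧ Nat.card R = 20 ∧
      R ⊓ centralizer (zpowers b : Set G) = zpowers b := by
  classical
  have h0 : d * b * d⁻¹ = b ^ 2 := mul_inv_eq_iff_eq_mul.2 h
  have h1 : zpowers d ≤ normalizer (zpowers b : Set G) :=
    zpowers_le.2 (mem_normalizer_zpowers_iff.2 (h0 ▸ npow_mem_zpowers b 2))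
  have h2 : d ^ 2 * b ≠ b * d ^ 2 := fun e => by
    have a1 : d ^ 2 * b * (d ^ 2)⁻¹ = b ^ 4 := by
      calc _ = d * (d * b * d⁻¹) * d⁻¹ := by rw [sq]; group
        _ = _ := by rw [h0, ← conj_pow, h0, ← pow_mul]
    rw [e, mul_inv_cancel_right] at a1
    have a2 := pow_inj_mod.1 ((pow_one b).trans a1)
    rw [hb] at a2
    omega
  have h3 : orderOf d = 2 ^ 2 := orderOf_eq_prime_pow (n := 1) (fun e => h2 (by rw [show d ^ 2 = 1 from e]; simp)) hd
  have h4 : Nat.card (zpowers b) = 5 := by rw [Nat.card_zpowers, hb]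
  have h5 : Nat.card (zpowers d) = 4 := by rw [Nat.card_zpowers, h3]; norm_num
  have h6 := GT.HT.card_sup_mul_card_inf h1
  rw [(disjoint_of_coprime_natCard (by rw [h4, h5]; norm_num)).eq_bot, card_bot, h4, h5] at h6
  refine ⟨zpowers b ⊔ zpowers d, le_sup_left, sup_le le_normalizer h1, by omega,
    le_antisymm ?_ (le_inf le_sup_left (le_centralizer _))⟩
  rintro x ⟨h7, h8⟩
  obtain ⟨r, hr, q, hq, rfl⟩ := (coe_mul_of_right_le_normalizer_left _ _ h1).le h7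
  have h9 := Rec.mem_cen.1 ((cent_zpowers b).le ((Subgroup.mul_mem_cancel_left _ (le_centralizer _ hr)).1 h8))
  obtain ⟨k, hk, rfl⟩ := Finset.mem_image.1 (mem_zpowers_iff_mem_range_orderOf.1 hq)
  have h10 : ∀ j, d ^ (k * j) * b = b * d ^ (k * j) := fun j => by
    rw [pow_mul]; exact (Commute.pow_left h9 j).eq
  rw [h3, Finset.mem_range] at hk
  have h11 : d ^ 6 = d ^ 2 := by rw [show 6 = 4 + 2 from rfl, pow_add, hd, one_mul]
  interval_cases k
  · simpa using hr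
  · exact absurd (h10 2) h2
  · exact absurd (h10 1) h2
  · exact absurd (h11 ▸ h10 2) h2

end Lc

theorem chk7 : runM (chkM [(powW 7 [13], []), ([26, 13], [13, 13, 26]), ([27, 27], []), ([28, 28], []), ([29, 29], []),
    ([30, 30], []), ([27, 28, 27], [28, 27, 28]), ([28, 29, 28], [29, 28, 29]), ([29, 30, 29], [30, 29, 30]),
    ([27, 29], [29, 27]), ([27, 30], [30, 27]), ([28, 30], [30, 28]), ([27, 13], [13, 27]), ([28, 13], [13, 28]),
    ([29, 13], [13, 29]), ([30, 13], [13, 30])] [([13], []), ([27, 28], [])])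
  [[5, 4, 1, 0, 3, 0, 1, 1, 0, 2, 3, 1, 4, 2, 3, 1, 0, 2, 2, 0, 3, 0, 2],
  [1, 2, 3, 1, 0, 2, 2, 0, 3, 0, 2, 5],
  [13, 6],
  [5, 4, 0, 1, 1, 3, 2, 3, 2, 3, 1, 1, 4, 2, 2, 3, 1, 3, 1, 3, 2, 2, 0],
  [1, 2, 2, 3, 1, 3, 1, 3, 2, 2, 0, 8],
  [41, 9],
  [1, 4, 2, 0, 3, 1, 0, 2, 0, 3, 2, 2, 4, 1, 1, 3, 0, 1, 0, 2, 3, 0, 1],
  [1, 1, 1, 3, 0, 1, 0, 2, 3, 0, 1, 11],
  [6, 9],
  [1, 12, 9, 12, 10, 12, 6, 6, 9, 9, 12, 9, 12, 9, 6, 9, 12, 7, 9, 12, 9, 12, 7, 12, 9],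
  [1, 9, 9, 9, 9, 9, 9, 14],
  [5, 15, 0, 1, 1, 1, 1, 3, 0, 2, 3, 2, 15, 1, 3, 1, 0, 3, 2, 2, 2, 2, 0],
  [1, 1, 3, 1, 0, 3, 2, 2, 2, 2, 0, 16],
  [11, 17],
  [5, 15, 3, 0, 1, 0, 3, 1, 1, 3, 0, 2, 15, 1, 0, 3, 2, 2, 3, 0, 2, 0, 3],
  [1, 1, 0, 3, 2, 2, 3, 0, 2, 0, 3, 19],
  [41, 20],
  [5, 15, 0, 2, 3, 1, 1, 1, 0, 2, 0, 2, 15, 1, 0, 1, 0, 2, 2, 2, 3, 1, 0],
  [1, 1, 0, 1, 0, 2, 2, 2, 3, 1, 0, 22],
  [65, 23],
  [1, 20, 20, 18, 24, 18, 23, 23, 17, 23, 23, 20, 23, 18, 23, 18, 23, 18, 24, 24, 18, 18, 23, 17, 21],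
  [1, 6, 12, 9, 6, 9, 12, 7, 12, 10, 7, 10, 10, 12, 10, 12, 6, 6, 12, 10, 12, 9, 6, 10, 10],
  [1, 4],
  [1, 25, 4, 25],
  [1, 9, 9, 9, 9, 9, 14, 9],
  [1, 25, 4, 25, 4, 25, 4]] 5 m5 = true := by decide +kernel

theorem chk5 : runM (chkM [(powW 5 [14], []), ([27, 14], [14, 14, 27]), (powW 4 [27], []), (powW 7 [28], []),
    (powW 4 [29], [31]), ([31, 31], []), ([32, 32], []), ([33, 33], []), ([31, 32], [32, 31]), ([31, 33], [33, 31]),
    ([32, 33], [33, 32]), ([31, 14], [14, 31]), ([32, 14], [14, 32]), ([33, 14], [14, 33]), ([28, 14], [14, 28]),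
    ([29, 14], [14, 29]), ([28, 31], [32, 28]), ([28, 32], [33, 28]), ([28, 33], [31, 33, 28]), ([29, 31], [31, 29]),
    ([29, 32], [31, 32, 33, 29]), ([29, 33], [31, 33, 29]), (powW 4 [31, 29], [31]), (powW 4 [32, 29], [31]),
    (powW 4 [31, 32, 29], [31]), (powW 4 [33, 29], [31]), (powW 4 [31, 33, 29], [31]), (powW 4 [32, 33, 29], [31]),
    (powW 4 [31, 32, 33, 29], [31])]
    [([14], []), ([31], []), ([32], []), ([31, 32], []), ([33], []), ([31, 33], []), ([32, 33], []), ([31, 32, 33], []),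
      ([31, 28], [28, 31]), ([32, 29, 29], [29, 29, 32])])
  [[5, 4, 1, 0, 3, 0, 1, 1, 0, 2, 3, 1, 4, 2, 3, 1, 0, 2, 2, 0, 3, 0, 2],
  [1, 2, 3, 1, 0, 2, 2, 0, 3, 0, 2, 5],
  [13, 6],
  [5, 4, 0, 1, 1, 3, 2, 3, 2, 3, 1, 1, 4, 2, 2, 3, 1, 3, 1, 3, 2, 2, 0],
  [1, 2, 2, 3, 1, 3, 1, 3, 2, 2, 0, 8],
  [41, 9],
  [1, 4, 2, 0, 3, 1, 0, 2, 0, 3, 2, 2, 4, 1, 1, 3, 0, 1, 0, 2, 3, 0, 1],
  [1, 1, 1, 3, 0, 1, 0, 2, 3, 0, 1, 11],
  [1, 6, 12, 6, 12, 6, 12],
  [8, 13],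
  [1, 12, 7, 7, 7, 7, 10, 10, 7, 12, 9, 9, 12, 9, 12, 10, 12, 7, 10, 12, 7, 12, 7, 9, 12],
  [1, 13, 13, 15, 13, 15, 15, 13, 15, 15, 15, 15],
  [5, 16, 3, 2, 3, 1, 0, 3, 0, 1, 3, 0, 16, 0, 3, 2, 0, 3, 0, 2, 3, 1, 3],
  [1, 0, 3, 2, 0, 3, 0, 2, 3, 1, 3, 17],
  [19, 18],
  [2, 16, 3, 2, 2, 0, 2, 0, 1, 1, 0, 3, 16, 3, 0, 2, 2, 0, 1, 0, 1, 1, 3],
  [1, 3, 0, 2, 2, 0, 1, 0, 1, 1, 3, 20],
  [11, 21],
  [5, 16, 3, 1, 0, 3, 2, 2, 0, 2, 2, 0, 16, 0, 1, 1, 0, 1, 1, 3, 0, 2, 3],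
  [1, 0, 1, 1, 0, 1, 1, 3, 0, 2, 3, 23],
  [39, 24],
  [1, 18, 22, 24, 21, 21, 25, 18, 25, 19, 25, 22, 24, 24, 24, 22, 19, 25, 22, 24, 18, 25, 22, 24, 19],
  [1, 6, 12, 6, 6, 12, 7, 7, 12, 6, 12, 6, 12, 12, 7, 12, 10, 10, 10, 6, 10, 12, 6, 10, 7],
  [1, 13, 13, 26, 15],
  [1, 13, 15, 15, 15],
  [6, 28],
  [1, 4],
  [1, 28, 4, 30],
  [1, 28, 32, 30]] 5 m5 = true := by decide +kernel

theorem card_NZ_x5 : Nat.card (NZ x5) = 240 := by
  refine le_antisymm ((Lc.card_norm_le M24 fun e => by simpa [e] using orderOf_x5).trans ?_)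
    (le_card_of_walk (gs := [90120697347337918905777888926522400, 88406652660618231933136785918886625])
      (gens_NZ code_x5 5 (by decide +kernel)) 240 470 0x11120002200012111200002012000120000222011120000220001212000021211120000000120020021112012000001201200112000022012011120000220002012000022111200002001120002212111200000001200022000121112000020120001200022011120000222000021211120000000200211120120000012012012000201211200002200020120000221112000020122111200000020020021112000012002002112000022201112000020120000012012200012112000200022001112000012211120000002001112000200200211200111200002012000022201120000200111201112111 (by decide +kernel))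
  have h := (card_le_of_le (H := CZ x5) (K := MT.Cen x5 []) fun g hg => MT.mem_Cen.2 ⟨⟨hg.1, by simp⟩, (mem_CZ.1 hg).2⟩).trans
    MT.card_Cen_x5
  rw [orderOf_x5]
  exact (Nat.mul_le_mul_left _ h).trans (by norm_num)

namespace StJ

variable [Finite G] {z : G} {g l : ℕ → G} {π : centralizer ({z} : Set G) →* PG} {ψ : M24 →* G} (s : StJ z π g l ψ)

include s

theorem norm_seven {S : Subgroup G} (hS : Nat.card S = 7) : Nat.card (normalizer (S : Set G)) = 2520 := by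
  have : Fact (Nat.Prime 7) := ⟨by norm_num⟩
  have h1 : Nat.card (zpowers (ψ ⟨x7, x7_mem⟩)) = 7 := by rw [Nat.card_zpowers, s.t.m.orderOf_psi, orderOf_x7]
  obtain ⟨c, -, rfl⟩ := Lc.exists_cj_eq (K := ⊤) (m := 12396510149439651840) (by rw [card_top, s.card])
    (by norm_num) h1 hS le_top le_top
  have h3 := s.t.m.card_normz ⟨x7, x7_mem⟩
  rw [s.t.m.card_of_list (L := [0, 49, 1871, 1918]) (by decide) fun v =>
    s.t.m.fix_iff code_x7 ((allLt_iff _ _).2 (allRange_zero (by decide +kernel))) (by decide), card_NZ_x7] at h3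
  obtain ⟨f, h4, h5⟩ := s.card_norm_eq (Rec.isSylIn_of_card (zpowers_le.2 (s.t.m.psi_mem _)) (k := 1)
    (m := 71628226560) (by rw [h1, pow_one]) (by rw [s.t.m.card_M]; norm_num) (by norm_num)) h3
  have h6 : ∀ i < 7, 2 ≤ i → f i = 0 := fun i hi h2 => (h5 i hi).2.resolve_right fun h => by
    rw [h1] at h
    interval_cases i <;> exact absurd h.1 (by decide)
  have h7 := card_subgroup_dvd_card (normalizer (zpowers (ψ ⟨x7, x7_mem⟩) : Set G))
  rw [← cj_normalizer, card_cj]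
  rw [h6 2, h6 3, h6 4, h6 5, h6 6] at h4 <;> try norm_num
  obtain ⟨h8, h9 | h9⟩ := h5 1 (by norm_num)
  · rw [h9] at h8; exact absurd h8 (by decide)
  rw [h4, s.card] at h7
  rw [h1] at h9
  have key : ∀ d < 73, d % 7 = orbL 1 % 7 → d * 7 ∣ 4 * 126 → (1 + d) * (4 * 126) ∣ 86775571046077562880 → d = 4 := by
    decide +kernel
  rw [h4, key _ (by have := Nat.le_of_dvd (by norm_num) h9.2; simp at this; omega) h8 h9.2 h7]
  rfl

theorem loc_seven {S : Subgroup G} (hS : Nat.card S = 7) :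
    (∃ I : Subgroup G, Cfsg.IsInternalDirectProduct S I (centralizer (S : Set G)) ∧
      Nonempty (I ≃* Equiv.Perm (Fin 5))) ∧ Nat.card (centralizer (S : Set G)) = 840 := by
  have : Fact (Nat.Prime 7) := ⟨by norm_num⟩
  obtain ⟨e, -⟩ := s.exists_equiv
  obtain ⟨a, rfl, h1, h2⟩ := Lc.slp_sub e chk7 (m := 12396510149439651840) (by rw [s.card]) (by norm_num) hS
  simp only [List.forall_mem_cons, evalW_cons, evalW_nil, mul_one, ← mul_assoc] at h1 h2
  obtain ⟨k1, k2, k3, k4, k5, k6, k7, k8, k9, k10, k11, k12, k13, k14, k15, -⟩ := h1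
  refine Lc.seven_final (by rw [← Nat.card_zpowers, hS]) (k1.trans (by rw [sq])) (t := fun i => a (i + 27))
    (fun i => ?_) (fun i j h => ?_) (fun i j h => ?_) h2.1 (fun i => ?_) (s.norm_seven hS)
  · fin_cases i <;> assumption
  · fin_cases i <;> fin_cases j <;> first | assumption | simp at h
  · fin_cases i <;> fin_cases j <;> first | assumption | simp at h
  · fin_cases i <;> assumption

theorem norm_five_aux {S : Subgroup G} (hS : Nat.card S = 5) (h : 7 ∣ Nat.card (normalizer (S : Set G))) :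
    Nat.card (normalizer (S : Set G)) = 26880 := by
  have : Fact (Nat.Prime 5) := ⟨by norm_num⟩
  have h1 : Nat.card (zpowers (ψ ⟨x5, x5_mem⟩)) = 5 := by rw [Nat.card_zpowers, s.t.m.orderOf_psi, orderOf_x5]
  obtain ⟨c, -, rfl⟩ := Lc.exists_cj_eq (K := ⊤) (m := 17355114209215512576) (by rw [card_top, s.card])
    (by norm_num) h1 hS le_top le_top
  have h3 := s.t.m.card_normz ⟨x5, x5_mem⟩
  rw [s.t.m.card_of_list (L := [0, 49, 278, 295, 1625, 1640, 1871, 1918]) (by decide) fun v =>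
    s.t.m.fix_iff code_x5 ((allLt_iff _ _).2 (allRange_zero (by decide +kernel))) (by decide), card_NZ_x5] at h3
  obtain ⟨f, h4, h5⟩ := s.card_norm_eq (Rec.isSylIn_of_card (zpowers_le.2 (s.t.m.psi_mem _)) (k := 1)
    (m := 100279517184) (by rw [h1, pow_one]) (by rw [s.t.m.card_M]; norm_num) (by norm_num)) h3
  have h6 : ∀ i < 7, i ≠ 0 → i ≠ 2 → i ≠ 4 → f i = 0 := fun i hi h0 h2 h4 => (h5 i hi).2.resolve_right fun h => by
    rw [h1] at h
    interval_cases i <;> first | exact absurd h.1 (by decide) | omega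
  have h7 := card_subgroup_dvd_card (normalizer (zpowers (ψ ⟨x5, x5_mem⟩) : Set G))
  rw [← cj_normalizer, card_cj] at h ⊢
  rw [h6 1, h6 3, h6 5, h6 6] at h4 <;> try norm_num
  obtain ⟨h8, h9 | h9⟩ := h5 2 (by norm_num)
  · rw [h9] at h8; exact absurd h8 (by decide)
  obtain ⟨h10, h11 | h11⟩ := h5 4 (by norm_num)
  · rw [h11] at h10; exact absurd h10 (by decide)
  rw [h4, s.card] at h7
  rw [h4] at h
  rw [h1] at h9 h11
  have key : ∀ d < 385, d % 5 = orbL 2 % 5 ∧ d * 5 ∣ 8 * 240 → ∀ e < 385, e % 5 = orbL 4 % 5 ∧ e * 5 ∣ 8 * 240 ∧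
      7 ∣ (1 + d + e) * (8 * 240) ∧ (1 + d + e) * (8 * 240) ∣ 86775571046077562880 → (1 + d + e) * (8 * 240) = 26880 := by
    decide +kernel
  exact h4.trans (key _ (by have := Nat.le_of_dvd (by norm_num) h9.2; simp at this; omega) ⟨h8, h9.2⟩ _
    (by have := Nat.le_of_dvd (by norm_num) h11.2; simp at this; omega) ⟨h10, h11.2, h, h7⟩)

theorem loc_five {Q : Subgroup G} (hQ : Nat.card Q = 5) :
    (∃ J : Subgroup G, Cfsg.IsInternalDirectProduct Q J (centralizer (Q : Set G)) ∧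
      ∃ (E : Subgroup J) (_ : E.Normal), Cfsg.IsElementaryAbelian 2 E ∧ Nat.card E = 8 ∧
        Nonempty (J ⧸ E ≃* Matrix.SpecialLinearGroup (Fin 3) (ZMod 2)) ∧ ∀ K : Subgroup J, ¬ E.IsComplement' K) ∧
    (∃ R : Subgroup G, Q ≤ R ∧ R ≤ normalizer (Q : Set G) ∧ Nat.card R = 20 ∧ R ⊓ centralizer (Q : Set G) = Q) ∧
    Nat.card (normalizer (Q : Set G)) = 26880 ∧ Nat.card (centralizer (Q : Set G)) = 6720 := by
  have : Fact (Nat.Prime 5) := ⟨by norm_num⟩
  have : Fact (Nat.Prime 7) := ⟨by norm_num⟩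
  obtain ⟨e, -⟩ := s.exists_equiv
  obtain ⟨a, rfl, h1, h2⟩ := Lc.slp_sub e chk5 (m := 17355114209215512576) (by rw [s.card]) (by norm_num) hQ
  simp only [List.forall_mem_cons, evalW_powW, evalW_cons, evalW_nil, mul_one, ← mul_assoc] at h1 h2
  obtain ⟨k1, k2, k3, k4, k5, k6, k7, k8, k9, k10, k11, k12, k13, k14, k15, k16, k17, k18, k19, k20, k21, k22, k23, k24,
    k25, k26, k27, k28, -⟩ := h1
  obtain ⟨n1, n2, n3, n4, n5, n6, n7, n8, n9, -⟩ := h2
  have hb : orderOf (a 14) = 5 := by rw [← Nat.card_zpowers, hQ]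
  have c1 : ∀ {x : G}, x * a 14 = a 14 * x → x ∈ centralizer (zpowers (a 14) : Set G) := fun h =>
    Lc.cent_zpowers (a 14) ▸ Rec.mem_cen.2 h
  have c2 : orderOf (a 28) = 7 := orderOf_eq_prime k3 fun h => n8 (by rw [h, mul_one, one_mul])
  have hN := s.norm_five_aux hQ (c2 ▸ orderOf_dvd_natCard _ (centralizer_le_normalizer _ (c1 k14)))
  have hC : Nat.card (centralizer (zpowers (a 14) : Set G)) = 5 * 1344 := by
    obtain ⟨m, m1, m2, -, m3, -⟩ := Rec.Syl.exists_automizer hb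
    obtain ⟨j, j1, j2⟩ := m3 (a 27) 2 (mul_inv_eq_iff_eq_mul.2 (k1.trans (by rw [sq])))
    have a1 := Nat.le_of_dvd (Nat.pos_of_dvd_of_pos m1 (by norm_num)) j1
    have a2 := j1.trans m1
    have a3 : m ≤ 4 := Nat.le_of_dvd (by norm_num) m1
    have a4 : 4 ≤ j := by
      by_contra a4
      have a5 : j < 4 := by omega
      interval_cases j <;> simp at a2 j2
    obtain rfl : m = 4 := by omega
    omega
  obtain ⟨J, j1, j2, j3, -⟩ := Lc.exists_direct hb hC (by norm_num)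
  have c3 : ∀ {x : G} (k : ℕ), x * a 14 = a 14 * x → x ^ k = 1 → k.Coprime 5 → x ∈ J := fun k h hk hc =>
    j3 _ (c1 h) (hc.coprime_dvd_left (orderOf_dvd_of_pow_eq_one hk))
  have g1 : ∀ x, gp (fun i => a (i + 31)) x 3 = (if x.testBit 0 then a 31 else 1) * (if x.testBit 1 then a 32 else 1) *
      if x.testBit 2 then a 33 else 1 := fun x => by rw [gp_succ, gp_succ, gp_succ, gp_nil, one_mul]
  obtain ⟨E, e1, e2, e3⟩ := Lc.exists_elem (e := fun i => a (i + 31)) (n := 3)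
    (fun i hi => by interval_cases i <;> assumption)
    (fun i hi j hj => by interval_cases i <;> interval_cases j <;> first | rfl | assumption | (symm; assumption))
    fun x hx h => by
      rw [g1] at h
      interval_cases x
      exacts [rfl, absurd (by simpa [Nat.testBit] using h) n1, absurd (by simpa [Nat.testBit] using h) n2,
        absurd (by simpa [Nat.testBit] using h) n3, absurd (by simpa [Nat.testBit] using h) n4,
        absurd (by simpa [Nat.testBit] using h) n5, absurd (by simpa [Nat.testBit] using h) n6,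
        absurd (by simpa [Nat.testBit] using h) n7]
  have e4 : ∀ i < 3, a (i + 31) ∈ E := fun i hi => (e3 _).2 ⟨2 ^ i, Nat.pow_lt_pow_right (by norm_num) hi, gp_two_pow _ hi⟩
  have e5 := e4 0 (by norm_num)
  have e6 := e4 1 (by norm_num)
  have e7 := e4 2 (by norm_num)
  have e8 : ∀ {K : Subgroup G}, a 31 ∈ K → a 32 ∈ K → a 33 ∈ K → E ≤ K := fun h1 h2 h3 x hx => by
    obtain ⟨y, -, rfl⟩ := (e3 x).1 hx
    exact gp_mem (fun i hi => by interval_cases i <;> assumption) y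
  have e9 : ∀ {x y1 y2 y3 : G}, x * a 31 = y1 * x → x * a 32 = y2 * x → x * a 33 = y3 * x → y1 ∈ E → y2 ∈ E → y3 ∈ E →
      x ∈ normalizer (E : Set G) := fun {x _ _ _} h1 h2 h3 h4 h5 h6 => mem_normalizer_of_conj_mem
    (e8 (K := E.comap (MulAut.conj x).toMonoidHom) (mul_inv_eq_iff_eq_mul.2 h1 ▸ h4 :)
      (mul_inv_eq_iff_eq_mul.2 h2 ▸ h5 :) (mul_inv_eq_iff_eq_mul.2 h3 ▸ h6 :))
  refine ⟨⟨J, j1, Lc.ext_final e1 e2 (e8 (c3 2 k11 (by rwa [sq]) (by norm_num)) (c3 2 k12 (by rwa [sq]) (by norm_num))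
    (c3 2 k13 (by rwa [sq]) (by norm_num))) j2 ⟨c3 7 k14 k3 (by norm_num), e9 k16 k17 k18 e6 e7 (mul_mem e5 e7)⟩
    ⟨c3 (4 * 2) k15 (by rw [pow_mul, k4, sq, k5]) (by norm_num),
      e9 k19 k20 k21 e5 (mul_mem (mul_mem e5 e6) e7) (mul_mem e5 e7)⟩ k3 (fun h => n8 (mem_centralizer_iff.1 h _ e5))
    (fun h => n9 (by simpa only [sq, ← mul_assoc] using mem_centralizer_iff.1 h _ e6)) (k4 ▸ e5) (k4 ▸ n1)
    fun x hx => ?_⟩, Lc.exists_twenty hb k2 (k1.trans (by rw [sq])), hN, hC⟩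
  obtain ⟨y, hy, rfl⟩ := (e3 x).1 hx
  rw [g1, k4]
  interval_cases y
  exacts [by simpa using k4, by simpa [Nat.testBit] using k22, by simpa [Nat.testBit] using k23,
    by simpa [Nat.testBit] using k24, by simpa [Nat.testBit] using k25, by simpa [Nat.testBit] using k26,
    by simpa [Nat.testBit] using k27, by simpa [Nat.testBit] using k28]

end StJ

end Cfsg.Agent.J4T
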