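import Mathlib
import Cfsg.Agent.J4T.MaxTI
import Cfsg.Agent.Rec.Top
import Cfsg.Agent.GT.PPrimeCore

/-!
Three maximal 2-local subgroups.
-/

set_option autoImplicit false

namespace Cfsg.Agent.J4T

open Cfsg.Agent.Spor Cfsg.Agent.Spor.MB Cfsg.Agent.Spor.J4C Subgroup Cfsg.Agent.Inv.Fz MulAction Cfsg.Agent.Rec

variable {G : Type*} [Group G]

theorem cn_elt [Finite G] {p e : ℕ} [Fact p.Prime] (h2 : ¬ p * p ∣ Nat.card G) {x : G} (hx : orderOf x = p)
    (hN : Nat.card (normalizer (zpowers x : Set G)) = p * e) {M : Subgroup G} (hM : x ∈ M) {d0 : ℕ}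
    (h0 : p * d0 ∣ Nat.card ↥(M ⊓ normalizer (zpowers x : Set G))) {ds : List ℕ}
    (hd : ∀ d ∈ e.divisors, d0 ∣ d → d ∈ ds) : cnB p p ds (Nat.card M) = true :=
  (cn_of_le (isSylIn_of_sq hM hx h2) (by rw [Nat.card_zpowers, hx]) inf_le_right hN h0 fun d h => hd d
    (Nat.mem_divisors.2 ⟨h, fun e0 => Nat.card_pos.ne' (by rw [hN, e0, mul_zero])⟩)).cnB Nat.card_pos.ne'

theorem cn_exact [Finite G] {p d : ℕ} [Fact p.Prime] (h2 : ¬ p * p ∣ Nat.card G) {x : G} (hx : orderOf x = p)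
    {M : Subgroup G} (hM : x ∈ M) (h0 : Nat.card ↥(M ⊓ normalizer (zpowers x : Set G)) = p * d) :
    cnB p p [d] (Nat.card M) = true :=
  (cn_of_le (isSylIn_of_sq hM hx h2) (by rw [Nat.card_zpowers, hx]) le_rfl h0 h0.symm.dvd fun _ h h' =>
    List.mem_singleton.2 (Nat.dvd_antisymm h h')).cnB Nat.card_pos.ne'

theorem exists_gen_syl [Finite G] {p m : ℕ} [Fact p.Prime] (hG : Nat.card G = m * p) (hm : ¬ p ∣ m) (U : Sylow p G) :
    ∃ y : G, orderOf y = p ∧ zpowers y = U := by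
  obtain ⟨x, hx⟩ := exists_prime_orderOf_dvd_card' p (Dvd.intro_left m hG.symm)
  obtain ⟨y, -, h1, -, h2⟩ := Syl.exists_gen (r := 1) hG hm U ⟨x, 1, hx, by simp⟩
  exact ⟨y, h1, h2⟩

theorem eq_or_top [Finite G] {H M : Subgroup G} {h : ℕ} (hH : Nat.card H = h) (hM : H ≤ M)
    (h1 : Nat.card M = h ∨ M = ⊤) : M = H ∨ M = ⊤ :=
  h1.imp_left fun e => (eq_of_le_of_card_ge hM (by rw [e, hH])).symm

theorem St0.exists_subgroupOf [Finite G] {z p : G} {Q : Subgroup G} {π : centralizer ({z} : Set G) →* PG}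
    (s : St0 z Q p π) {M : Subgroup G} (hM : centralizer {z} ≤ M) :
    ∃ (p' : M) (π' : centralizer ({⟨z, hM (mem_cen.2 rfl)⟩} : Set M) →* PG),
      St0 (⟨z, hM (mem_cen.2 rfl)⟩ : M) (Q.subgroupOf M) p' π' := by
  have hQ : Q ≤ M := fun q hq => hM (mem_cen.2 (s.es.z_comm q hq).symm)
  have hp : p ∈ M := hM (mem_cen.2 s.pH)
  let ι : centralizer ({⟨z, hM (mem_cen.2 rfl)⟩} : Set M) →* centralizer ({z} : Set G) :=
    ((M.subtype.comp (Subgroup.subtype _)).codRestrict _ fun x => mem_cen.2 (congrArg Subtype.val (mem_cen.1 x.2)))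
  have hι : Function.Surjective ι := fun x => ⟨⟨⟨x, hM x.2⟩, mem_cen.2 (Subtype.ext (mem_cen.1 x.2))⟩, rfl⟩
  refine ⟨⟨p, hp⟩, π.comp ι, s.es.subgroupOf hQ, by rw [Nat.card_congr (subgroupOfEquivOfLe hQ).toEquiv, s.card],
    fun h e q hq => s.nQ h (congrArg Subtype.val e) q hq,
    fun h e k => s.cQ h (congrArg Subtype.val e) fun q hq => congrArg Subtype.val (k ⟨q, hQ hq⟩ hq),
    by rw [← orderOf_coe, s.p3], Subtype.ext s.pH, ?_, fun h => (s.ker (ι h)).trans ?_,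
    fun q hq e => (s.fpf q hq (congrArg Subtype.val e)).imp Subtype.ext Subtype.ext⟩
  · rw [MonoidHom.range_comp, MonoidHom.range_eq_top.2 hι, ← MonoidHom.range_eq_map, s.range]
  · rw [← mem_map_iff_mem (f := M.subtype) Subtype.val_injective, Subgroup.map_sup, map_subgroupOf_eq_of_le hQ,
      MonoidHom.map_zpowers]
    rfl

theorem StX.inf_eq_bot [Finite G] {z : G} {g l : ℕ → G} {π : centralizer ({z} : Set G) →* PG} (s : StX z π g l)
    {O : Subgroup G} [hO : O.Normal] (h : Odd (Nat.card O)) : centralizer {z} ⊓ O = ⊥ := by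
  have h1 : ∀ x ∈ O, x ∈ QG g → x = 1 := fun x hx hq => eq_one_of_odd_of_sq h hx (k := 13)
    (by rw [← s.q.card_QG]; exact congrArg Subtype.val (pow_card_eq_one' (x := (⟨x, hq⟩ : QG g))))
  refine eq_bot_iff.2 fun x ⟨h2, h3⟩ => h1 x h3 (s.st.cQ x (mem_cen.1 h2) fun q hq => ?_)
  rw [← mul_inv_eq_one, mul_inv_rev, ← mul_assoc]
  refine h1 _ ?_ (mul_mem (s.st.nQ x (mem_cen.1 h2) q hq) (inv_mem hq))
  rw [mul_assoc, mul_assoc, ← mul_assoc q]
  exact mul_mem h3 (hO.conj_mem _ (inv_mem h3) q)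

namespace StJ

variable [Finite G] [IsSimpleGroup G] {z : G} {g l : ℕ → G} {π : centralizer ({z} : Set G) →* PG} {ψ : M24 →* G}
  (s : StJ z π g l ψ)

include s

theorem over_NV {M : Subgroup G} (hM : normalizer (VG z g l : Set G) ≤ M) :
    M = normalizer (VG z g l : Set G) ∨ M = ⊤ := by
  have : Fact (Nat.Prime 23) := ⟨by norm_num⟩
  have h1 : orderOf (ψ ⟨x23, x23_mem⟩) = 23 := (s.orderOf_psi _).trans orderOf_x23
  have h2 : orderOf (ψ ⟨x11, x11_mem⟩) = 11 := (s.orderOf_psi _).trans orderOf_x11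
  refine eq_or_top s.card_NV hM (s.num (s.card_NV ▸ card_dvd_of_le hM)
    (L := [(11, 2), (29, 1), (31, 1), (37, 1), (43, 1)]) (by simp; norm_num) (by norm_num)
    (E := cnB 23 23 [11, 22]) (cn_elt (e := 22) (d0 := 11) (by rw [s.card]; norm_num) h1
      (s.syl23 (isSylIn_of_sq (mem_top _) h1 (by rw [s.card]; norm_num)).toSylowTop).2 (hM (s.psi_mem_N _))
      (Nat.Coprime.mul_dvd_of_dvd_of_dvd (by norm_num) ?_ ?_) (by decide)) (by decide +kernel))
  · exact h1 ▸ orderOf_dvd_natCard _ ⟨hM (s.psi_mem_N _), le_normalizer (mem_zpowers _)⟩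
  · refine h2 ▸ orderOf_dvd_natCard _ ⟨hM (s.psi_mem_N _), mem_normalizer_zpowers_iff.2 ?_⟩
    obtain ⟨k, hk⟩ := (mem_NZ.1 x11_mem_NZ).2
    exact ⟨k, by rw [← map_inv, ← map_mul, ← map_mul]; exact (map_zpow ψ _ k).symm.trans (congrArg ψ (Subtype.ext hk))⟩

theorem coatom_NV : IsCoatom (normalizer (VG z g l : Set G)) :=
  isCoatom_of (by rw [s.card_NV, s.card]; norm_num) fun _ => s.over_NV

theorem coatom_V {V : Subgroup G} (h1 : Cfsg.IsElementaryAbelian 2 V) (h2 : Nat.card V = 2 ^ 11) :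
    IsCoatom (normalizer (V : Set G)) := by
  obtain ⟨x, rfl⟩ := s.x.exists_conj_V h1 h2.ge
  rw [cj_def, ← cj_normalizer]
  exact isCoatom_cj s.coatom_NV x

theorem over_H {M : Subgroup G} (hM : centralizer {z} ≤ M) : M = centralizer {z} ∨ M = ⊤ := by
  have : Fact (Nat.Prime 5) := ⟨by norm_num⟩
  obtain ⟨p', π', s0⟩ := s.x.st.exists_subgroupOf hM
  obtain ⟨g', l', -, -, x⟩ := s0.exists_stX
  rcases exists_conj_or_sup x.syl_T (orderOf_eq_prime (by rw [sq, x.q.z_sq]) x.q.z_ne) (x.V_le_T x.z_mem_V) with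
    h | ⟨c, h1, h2⟩
  swap
  · obtain ⟨l'', ψ', -, s'⟩ := x.exists_stJ_of_ne
      (x.not_isolated (isConj_iff.2 ⟨c, rfl⟩) (mem_cen.1 (x.T_le_A h1).1) h2)
    exact Or.inr (eq_top_of_card_eq _ (s'.card.trans s.card.symm))
  have h1 := GT.HT.card_sup_mul_card_inf
    (show centralizer {(⟨z, hM (mem_cen.2 rfl)⟩ : M)} ≤ normalizer (oddCore M : Set M) from le_normalizer_of_normal)
  rw [sup_comm, inf_comm, h, x.inf_eq_bot GT.odd_card_oddCore, x.card_H, card_top, card_bot, mul_one, mul_comm] at h1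
  obtain ⟨y, hy⟩ := exists_prime_orderOf_dvd_card' (G := M) 5 (by rw [h1]; exact Dvd.dvd.mul_right (by norm_num) _)
  have h2 := GT.card_modEq_card_inf_centralizer (L := oddCore M)
    (IsPGroup.of_card (p := 5) (n := 1) (by rw [Nat.card_zpowers, hy, pow_one]))
    (le_normalizer_of_normal (K := zpowers y))
  have h3 : Nat.card ↥(oddCore M ⊓ centralizer (zpowers y : Set M)) ∣ 6720 := by
    rw [← s.card_cent5 (x := y) (by rw [orderOf_coe, hy]), ← card_map_of_injective (f := M.subtype)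
      Subtype.val_injective]
    refine card_dvd_of_le ?_
    rintro _ ⟨a, ha, rfl⟩
    exact mem_cen.2 (congrArg Subtype.val (ha.2 y (mem_zpowers y))).symm
  have h4 := card_subgroup_dvd_card M
  rw [h1, s.card, show 86775571046077562880 = 21799895040 * 3980549947 by norm_num,
    Nat.mul_dvd_mul_iff_left (by norm_num)] at h4
  have h5 := Nat.dvd_gcd h3 ((card_dvd_of_le inf_le_left).trans h4)
  rw [Nat.dvd_one.1 h5] at h2
  refine eq_or_top s.x.card_H hM (s.num (s.x.card_H ▸ card_dvd_of_le hM)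
    (L := [(11, 2), (23, 1), (29, 1), (31, 1), (37, 1), (43, 1)]) (by simp; norm_num) (by norm_num)
    (E := fun m => Nat.beq (Nat.mod (Nat.div m 21799895040) 5) 1) ((nbeq_iff _ _).2 ?_) (by decide +kernel))
  rw [h1]
  exact (congrArg (· % 5) (Nat.mul_div_cancel_left _ (by norm_num))).trans h2

theorem coatom_H : IsCoatom (centralizer ({z} : Set G)) :=
  isCoatom_of (by rw [s.x.card_H, s.card]; norm_num) fun _ => s.over_H

theorem coatom_of_seven {N : Subgroup G} (h1 : Nat.card N = 660602880) {S : Sylow 7 G}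
    (h2 : normalizer ((S : Subgroup G) : Set G) ≤ N) : IsCoatom N := by
  have : Fact (Nat.Prime 7) := ⟨by norm_num⟩
  obtain ⟨y, h3, h4⟩ := exists_gen_syl (m := 12396510149439651840) s.card (by norm_num) S
  rw [← h4] at h2
  refine isCoatom_of (by rw [h1, s.card]; norm_num) fun M hM => eq_or_top h1 hM (s.num (h1 ▸ card_dvd_of_le hM)
    (L := [(3, 1), (11, 3), (23, 1), (29, 1), (31, 1), (37, 1), (43, 1)]) (by simp; norm_num) (by norm_num)
    (E := cnB 7 7 [360]) (cn_exact (by rw [s.card]; norm_num) h3 (hM (h2 (le_normalizer (mem_zpowers y)))) ?_)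
    (by decide +kernel))
  rw [inf_eq_right.2 (h2.trans hM), s.card_norm7 h3]

end StJ

end Cfsg.Agent.J4T
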