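import Mathlib
import Cfsg.Agent.J4T.MaxA
import Cfsg.Agent.J4T.CovA
import Cfsg.Agent.J4T.CovB
import Cfsg.Agent.J4T.CovC
import Cfsg.Agent.J4T.TenU

/-!
Maximality of the normalisers of the Sylow subgroups for 11, 29 and 43, and of `2 ^ 10 : L5(2)`.
-/

set_option autoImplicit false

namespace Cfsg.Agent.J4T

open Cfsg.Agent.Spor Cfsg.Agent.Spor.MB Cfsg.Agent.Spor.J4C Subgroup Cfsg.Agent.Inv.Fz Cfsg.Agent.Rec Cov Ten

variable {G : Type*} [Group G]

/-- The index of `h` in `m` is `1` modulo `p`. -/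
def ixB (p h m : ℕ) : Bool := Nat.beq (Nat.mod (Nat.div m h) p) 1

theorem ix_of_le [Finite G] {p h : ℕ} [hp : Fact p.Prime] {H M P : Subgroup G} (hH : Nat.card H = h) (hM : H ≤ M)
    (hP : IsSylIn p P M) (h1 : P ≤ H) (h2 : M ⊓ normalizer (P : Set G) ≤ H) : ixB p h (Nat.card M) = true := by
  obtain ⟨d, n, k1, k2, k3⟩ := exists_count hP
  obtain ⟨d', n', k4, k5, k6⟩ := exists_count (hP.mono h1 hM)
  rw [le_antisymm (inf_le_inf_right _ hM) (le_inf h2 inf_le_right), k1] at k4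
  have k7 := card_mul_relIndex hM
  have k8 : 0 < Nat.card H := Nat.card_pos
  rw [ixB, nbeq_iff, ← hH, ← k7]
  show Nat.card H * H.relIndex M / Nat.card H % p = 1
  rw [Nat.mul_div_cancel_left _ k8]
  rw [← k6, ← k4, ← k3, mul_assoc, Nat.mul_right_inj (k1 ▸ Nat.card_pos.ne')] at k7
  rw [← k7, Nat.mul_mod, k5, one_mul, Nat.mod_mod] at k2
  exact k2

theorem coatom_syl [Finite G] {p : ℕ} [Fact p.Prime] {P : Subgroup G} (hP : IsSylIn p P ⊤)
    (h : IsCoatom (normalizer (P : Set G))) (U : Sylow p G) : IsCoatom (normalizer ((U : Subgroup G) : Set G)) := by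
  obtain ⟨k, -, hk⟩ := (isSylIn_top U).exists_cj_eq hP
  rw [← hk, ← cj_normalizer]
  exact isCoatom_cj h k

theorem central_of_le {M : Subgroup G} {x : G} (h : M ⊓ normalizer (zpowers x : Set G) ≤ centralizer {x}) :
    ∀ g ∈ M, g ∈ normalizer (zpowers x : Set G) → ∀ v ∈ zpowers x, g * v = v * g := fun _ h1 h2 v hv =>
  (mem_centralizer_iff.1 (cent_zpowers x ▸ h ⟨h1, h2⟩) v hv).symm

theorem not_dvd_of_central [Finite G] {p q e : ℕ} [Fact p.Prime] [Fact q.Prime] (hp : ¬ p * p ∣ Nat.card G)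
    (hq : ¬ q * q ∣ Nat.card G) (hN : ∀ U : Sylow q G, Nat.card (normalizer ((U : Subgroup G) : Set G)) = e)
    (he : ¬ p ∣ e) {M : Subgroup G} {x : G} (hx : orderOf x = p) (hM : x ∈ M)
    (h : M ⊓ normalizer (zpowers x : Set G) ≤ centralizer {x}) (hpq : p ≠ q) : dvB q (Nat.card M) = false := by
  rw [← Bool.not_eq_true, dvB_iff]
  intro h1
  obtain ⟨y, hy⟩ := exists_prime_orderOf_dvd_card' q h1
  rw [← orderOf_coe] at hy
  exact he (hN (isSylIn_of_sq (mem_top _) hy hq).toSylowTop ▸ (dvd_norm_of_central (isSylIn_of_sq hM hx hp)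
    (central_of_le h) hpq (isSylIn_of_sq y.2 hy hq) (hx ▸ orderOf_dvd_natCard _ hM)).trans (card_dvd_of_le inf_le_right))

theorem mem_norm_of {x y : G} [Finite G] {k : ℕ} (h : y * x = x ^ k * y) : y ∈ normalizer (zpowers x : Set G) := by
  rw [mem_normalizer_zpowers_iff, h, mul_inv_cancel_right]
  exact pow_mem (mem_zpowers x) k

namespace StJ

variable [Finite G] {z : G} {g l : ℕ → G} {π : centralizer ({z} : Set G) →* PG} {ψ : M24 →* G} (s : StJ z π g l ψ)

include s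

theorem ti_syl (U : Sylow 11 G) (k x : G) (hx : x ∈ U) (h1 : x ≠ 1)
    (h2 : k⁻¹ * x * k ∈ normalizer ((U : Subgroup G) : Set G)) : k ∈ normalizer ((U : Subgroup G) : Set G) := by
  obtain ⟨a, b, c, u, h', w, n, e, h3, h4⟩ := s.exists_e11_syl U
  exact h4 ▸ s.ti_e11 e h3 k x (h4 ▸ hx) h1 (h4 ▸ h2)

theorem not_eleven {p : ℕ} [Fact p.Prime] (hp : ¬ p * p ∣ Nat.card G) (he : ¬ p ∣ 319440) {M : Subgroup G} {x : G}
    (hx : orderOf x = p) (hM : x ∈ M) (h : M ⊓ normalizer (zpowers x : Set G) ≤ centralizer {x}) :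
    dvB 11 (Nat.card M) = false := by
  have : Fact (Nat.Prime 11) := ⟨by norm_num⟩
  rw [← Bool.not_eq_true, dvB_iff]
  intro h1
  obtain ⟨y, hy⟩ := exists_prime_orderOf_dvd_card' 11 h1
  rw [← orderOf_coe] at hy
  obtain ⟨P, hP, h2⟩ := exists_isSylIn (p := 11) (IsPGroup.of_card (n := 1) (by rw [Nat.card_zpowers, hy, pow_one]))
    (zpowers_le.2 y.2)
  obtain ⟨U, rfl⟩ := exists_syl11 M hP
  refine he (s.card_norm11 U ▸ (dvd_norm_of_central (isSylIn_of_sq hM hx hp) (central_of_le h)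
    (fun e => he (by rw [e]; norm_num)) hP (hx ▸ orderOf_dvd_natCard _ hM)).trans (card_dvd_of_le fun k hk => ?_))
  have h3 := h2 (mem_zpowers _)
  exact s.ti_syl U k y h3.2 (fun e => by simp [e] at hy) (le_normalizer ((mem_normalizer_iff''.1 hk.2 _).1 h3).2)

variable [IsSimpleGroup G]

theorem coatom_num {H : Subgroup G} {h : ℕ} (hH : Nat.card H = h) (h0 : h < 86775571046077562880)
    {L : List (ℕ × ℕ)} (hL : ∀ pe ∈ L, pe.1.Prime) (h2 : h * (L.map fun pe => pe.1 ^ pe.2).prod = 86775571046077562880)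
    {E : ℕ → Bool} (hE : ∀ M, H ≤ M → E (Nat.card M) = true) (hc : allDiv (fun m => Bool.rec true (Bool.rec true
      (bor (Nat.beq m h) (Nat.ble 86775571046077562880 (Nat.mul 2 m))) (consB m)) (E m)) L h = true) : IsCoatom H :=
  isCoatom_of (by rwa [hH, s.card]) fun M hM => eq_or_top hH hM (s.num (hH ▸ card_dvd_of_le hM) hL h2 (hE M hM) hc)

theorem coatom29 (U : Sylow 29 G) : IsCoatom (normalizer ((U : Subgroup G) : Set G)) := by
  have : Fact (Nat.Prime 7) := ⟨by norm_num⟩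
  have : Fact (Nat.Prime 29) := ⟨by norm_num⟩
  have : Fact (Nat.Prime 37) := ⟨by norm_num⟩
  obtain ⟨a, -, h1, h2, h3⟩ := s.cov29
  simp only [q29, r29, List.forall_mem_cons, evalW_powW, evalW_cons, evalW_nil, mul_one, ← mul_assoc, ← sq] at h1 h2
  obtain ⟨k1, k2, k3, k4, k5, -⟩ := h1
  have o1 := orderOf_eq_prime k1 h2.1
  have o2 := orderOf_eq_prime k5 h2.2.1
  have h7 : ¬ 7 * 7 ∣ Nat.card G := by rw [s.card]; norm_num
  have h4 := isSylIn_of_sq (mem_top _) o1 (by rw [s.card]; norm_num)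
  have h5 := mem_norm_of k2
  have h0 : Nat.card (normalizer (zpowers (a 15) : Set G)) = 812 := (s.syl29 h4.toSylowTop).2
  refine coatom_syl h4 (s.coatom_num h0 (by norm_num)
    (L := [(2, 19), (3, 3), (5, 1), (11, 3), (23, 1), (31, 1), (37, 1), (43, 1)]) (by simp; norm_num) (by norm_num)
    (E := fun m => band (cnB 29 29 [28] m) (bor (band (dvB 37 m) (dvB 43 m))
      (band (ixB 7 812 m) (band (!dvB 11 m) (!dvB 37 m))))) (fun M hM => ?_) (by decide +kernel)) U
  have h6 : a 15 ∈ M := hM (le_normalizer (mem_zpowers _))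
  have h8 : a 17 ∈ M := k3 ▸ pow_mem (hM h5) _
  rw [band_iff, bor_iff, band_iff, band_iff, band_iff]
  refine ⟨cn_exact (by rw [s.card]; norm_num) o1 h6 (by rw [inf_eq_right.2 hM, h0]), ?_⟩
  refine (h3 M (by simp [d29, h6, hM h5]) (by simp [d29, hM h5]) (k4 ▸ pow_mem (hM h5) _ : a 0 ∈ M)
    (s.card_norm7 o2).le).imp (fun h => ⟨dvB_iff.2 (h _ (by decide) (by norm_num)), dvB_iff.2 (h _ (by decide) (by norm_num))⟩)
    fun h => ?_
  have h9 : M ⊓ normalizer (zpowers (a 17) : Set G) ≤ centralizer {a 17} :=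
    h.trans (clos_le.2 (by simp [d29, mem_cen, k3, ← pow_succ, ← pow_succ']))
  rw [s.not_eleven h7 (by norm_num) o2 h8 h9, not_dvd_of_central h7 (by rw [s.card]; norm_num) (fun U => (s.syl37 U).2)
    (by norm_num) o2 h8 h9 (by norm_num)]
  exact ⟨ix_of_le h0 hM (isSylIn_of_sq h8 o2 h7) (zpowers_le.2 (k3 ▸ pow_mem h5 _))
    (h.trans (clos_le.2 (by simpa [d29] using h5))), rfl, rfl⟩

theorem coatom43 (U : Sylow 43 G) : IsCoatom (normalizer ((U : Subgroup G) : Set G)) := by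
  have : Fact (Nat.Prime 7) := ⟨by norm_num⟩
  have : Fact (Nat.Prime 23) := ⟨by norm_num⟩
  have : Fact (Nat.Prime 43) := ⟨by norm_num⟩
  obtain ⟨a, -, h1, h2, h3⟩ := s.cov43
  simp only [q43, r43, List.forall_mem_cons, evalW_powW, evalW_cons, evalW_nil, mul_one, ← mul_assoc, ← sq] at h1 h2
  obtain ⟨k1, k2, k3, k4, k5, -⟩ := h1
  have o1 := orderOf_eq_prime k1 h2.1
  have o2 := orderOf_eq_prime k5 h2.2.1
  have h7 : ¬ 7 * 7 ∣ Nat.card G := by rw [s.card]; norm_num
  have h4 := isSylIn_of_sq (mem_top _) o1 (by rw [s.card]; norm_num)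
  have h5 := mem_norm_of k2
  have h0 : Nat.card (normalizer (zpowers (a 15) : Set G)) = 602 := (s.syl43 h4.toSylowTop).2
  refine coatom_syl h4 (s.coatom_num h0 (by norm_num)
    (L := [(2, 20), (3, 3), (5, 1), (11, 3), (23, 1), (29, 1), (31, 1), (37, 1)]) (by simp; norm_num) (by norm_num)
    (E := fun m => band (cnB 43 43 [14] m) (bor (band (dvB 29 m) (dvB 37 m))
      (band (ixB 7 602 m) (!dvB 23 m)))) (fun M hM => ?_) (by decide +kernel)) U
  have h6 : a 15 ∈ M := hM (le_normalizer (mem_zpowers _))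
  have h8 : a 17 ∈ M := k3 ▸ pow_mem (hM h5) _
  rw [band_iff, bor_iff, band_iff, band_iff]
  refine ⟨cn_exact (by rw [s.card]; norm_num) o1 h6 (by rw [inf_eq_right.2 hM, h0]), ?_⟩
  refine (h3 M (by simp [d43, h6, hM h5]) (by simp [d43, hM h5]) (k4 ▸ pow_mem (hM h5) _ : a 0 ∈ M)
    (s.card_norm7 o2).le).imp (fun h => ⟨dvB_iff.2 (h _ (by decide) (by norm_num)), dvB_iff.2 (h _ (by decide) (by norm_num))⟩)
    fun h => ?_
  have h9 : M ⊓ normalizer (zpowers (a 17) : Set G) ≤ centralizer {a 17} :=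
    h.trans (clos_le.2 (by simp [d43, mem_cen, k3, sq, mul_assoc]))
  rw [not_dvd_of_central h7 (by rw [s.card]; norm_num) (fun U => (s.syl23 U).2) (by norm_num) o2 h8 h9 (by norm_num)]
  exact ⟨ix_of_le h0 hM (isSylIn_of_sq h8 o2 h7) (zpowers_le.2 (k3 ▸ pow_mem h5 _))
    (h.trans (clos_le.2 (by simpa [d43] using h5))), rfl⟩

theorem coatom11 (U : Sylow 11 G) : IsCoatom (normalizer ((U : Subgroup G) : Set G)) := by
  have : Fact (Nat.Prime 5) := ⟨by norm_num⟩
  have : Fact (Nat.Prime 11) := ⟨by norm_num⟩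
  obtain ⟨a, -, h1, h2, h3⟩ := s.cov11
  simp only [q11, r11, List.forall_mem_cons, evalW_powW, evalW_appL, evalW_cons, evalW_nil, mul_one, ← mul_assoc] at h1 h2
  obtain ⟨k1, k2, k3, k4, k5, k6, k7, k8, k9, k10, k11, k12, k13, k14, k15, k16, k17, k18, k19, k20, k21, k22,
    k23, k24, -⟩ := h1
  obtain ⟨l0, l1, l2, l3, -⟩ := h2
  have e : E11 (a 15) (a 16) (a 17) (a 18) (a 0) (a 19) (a 20) := ⟨k1, k2, k3, k4, k5, k6, k7, k8, k9, k10, k11, k12,
    k13, k14, k15, k16, k17, k18, k19, k20, by simpa only [← mul_assoc] using k21, by simpa only [← mul_assoc] using k22,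
    k23, l0, l1, by simpa only [← mul_assoc] using l2, by simpa only [← mul_assoc] using l3⟩
  have o2 : orderOf (a 21) = 5 := orderOf_eq_prime (by rw [k24, ← pow_mul, k16]) (k24 ▸ l1)
  have h4 := s.syl_e11 e
  have h5 : ∀ i ∈ [16, 17, 18, 0, 19, 20, 21], a i ∈ normalizer (clos [a 16, a 17] : Set G) := by
    have h6 := clos_le.1 e.le_norm
    have h7 := clos_le.1 (le_normalizer (H := clos [a 16, a 17]))
    simp only [List.forall_mem_cons, k24] at h6 h7 ⊢
    exact ⟨h7.1, h7.2.1, h6.1, h6.2.1, h6.2.2.1, h6.2.2.2.1, pow_mem h6.2.2.2.1 _, by simp⟩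
  have h6 : Nat.card (normalizer (clos [a 16, a 17] : Set G)) = 319440 := s.card_norm11 h4.toSylowTop
  refine coatom_syl h4 (s.coatom_num h6 (by norm_num)
    (L := [(2, 17), (3, 2), (7, 1), (23, 1), (29, 1), (31, 1), (37, 1), (43, 1)]) (by simp; norm_num) (by norm_num)
    (E := fun m => band (cnB 1331 1331 [240] m) (bor (dvB 37 m) (ixB 5 319440 m))) (fun M hM => ?_) (by decide +kernel)) U
  rw [band_iff, bor_iff]
  refine ⟨Cn.cnB ?_ Nat.card_pos.ne', (h3 M (fun i hi => hM (h5 i (by revert i; decide)))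
    (fun i hi => hM (h5 i (by revert i; decide))) (hM (h5 _ (by decide))) (s.card_norm5 o2).le).imp
    (fun h => dvB_iff.2 (h _ (by decide) (by norm_num))) fun h => ix_of_le h6 hM (isSylIn_of_sq (hM (h5 21 (by decide))) o2
      (by rw [s.card]; norm_num)) (zpowers_le.2 (h5 21 (by decide))) (h.trans (clos_le.2 (List.forall_mem_map.2
        fun i hi => h5 i (by revert i; decide))))⟩
  obtain ⟨k, hk⟩ := exists_count_ti (U := clos [a 16, a 17]) (N := normalizer (clos [a 16, a 17] : Set G))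
    (s.ti_syl h4.toSylowTop) le_normalizer M
  rw [inf_eq_right.2 hM, inf_eq_right.2 (le_normalizer.trans hM), h6] at hk
  exact ⟨240, by simp, _, by rw [e.card_U s.not_dvd_eleven]; omega, hk⟩

theorem coatom_A {A : Subgroup G} (hA : Good A) : IsCoatom (normalizer (A : Set G)) := by
  have : Fact (Nat.Prime 7) := ⟨by norm_num⟩
  obtain ⟨c, rfl⟩ := s.exists_cj_AG hA
  rw [← cj_normalizer]
  refine isCoatom_cj ?_ c
  obtain ⟨a, h0, h1, h2, h3⟩ := s.covA
  simp only [qA, rA, List.forall_mem_cons, evalW_powW] at h1 h2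
  obtain ⟨k1, k2, k3, k4, k5, k6, k7, k8, k9, -⟩ := h1
  have h4 : ∀ {i j}, j < 13 → evalW a [i] = evalW a (nth [] WB j) → a i ∈ normalizer (AG z g l ψ : Set G) :=
    fun {i j} hj h => by
      rw [evalW_cons, evalW_nil, mul_one, h0 _ ((by decide +kernel : ∀ j < 13, lettersLt 15 (nth [] WB j) = true) j hj),
        ← nth_map_of_lt [] 1 (eW z g l ψ) (by exact hj)] at h
      exact h ▸ s.nth_mem j
  have h5 : ∀ {i w} {L : List ℕ}, evalW a [i] = evalW a w → (∀ j ∈ L, a j ∈ normalizer (AG z g l ψ : Set G)) →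
      (∀ j ∈ w, j ∈ L) → ∀ j ∈ i :: L, a j ∈ normalizer (AG z g l ψ : Set G) := fun h k1 k2 =>
    List.forall_mem_cons.2 ⟨by simpa only [← h, evalW_cons, evalW_nil, mul_one] using evalW_mem fun j hj => k1 j (k2 j hj), k1⟩
  have h6 := h5 k8 (h5 k7 (h5 k6 (h5 k5 (L := [15, 16, 17, 18]) (by
    simp [h4 (by norm_num) k1, h4 (by norm_num) k2, h4 (by norm_num) k3, h4 (by norm_num) k4]) (by decide)) (by decide))
      (by decide)) (by decide)
  simp only [evalW_cons, evalW_nil, mul_one] at k9 h2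
  have o2 := orderOf_eq_prime k9 h2.1
  obtain ⟨B, b1, b2, b3, ⟨φ⟩⟩ := s.exists_compl
  have h7 : Nat.card (normalizer (AG z g l ψ : Set G)) = 10239344640 := by
    rw [← b3, GT.card_sup_of_inf_eq_bot b1 b2, s.t.m.card_AG, Nat.card_congr φ.toEquiv, L52.card_SL5]; rfl
  refine s.coatom_num h7 (by norm_num) (L := [(2, 1), (3, 1), (11, 3), (23, 1), (29, 1), (37, 1), (43, 1)])
    (by simp; norm_num) (by norm_num) (E := fun m => bor (dvB 23 m) (ixB 7 10239344640 m)) (fun M hM => ?_)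
    (by decide +kernel)
  exact (bor_iff _ _).2 ((h3 M (fun i hi => hM (h6 i (by revert i; decide))) (fun i hi => hM (h6 i (by revert i; decide)))
    (hM (h6 _ (by decide))) (s.card_norm7 o2).le).imp (fun h => dvB_iff.2 (h _ (by decide) (by norm_num))) fun h =>
      ix_of_le h7 hM (isSylIn_of_sq (hM (h6 19 (by decide))) o2 (by rw [s.card]; norm_num)) (zpowers_le.2 (h6 19 (by decide)))
        (h.trans (clos_le.2 (List.forall_mem_map.2 fun i hi => h6 i (by revert i; decide)))))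

end StJ

end Cfsg.Agent.J4T
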