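import Mathlib
import Cfsg.Agent.J4T.MaxB
import Cfsg.Agent.J4T.CovE
import Cfsg.Agent.J4T.LocA

/-!
Maximality of the normaliser of a Sylow 37-subgroup.
-/

set_option autoImplicit false

namespace Cfsg.Agent.J4T

open Cfsg.Agent.Spor Cfsg.Agent.Spor.MB Cfsg.Agent.Spor.J4C Subgroup Cfsg.Agent.Inv.Fz Cfsg.Agent.Rec Cov Ten

variable {G : Type*} [Group G]

/-- The action on the coset of `V` that contains `zA`. -/
noncomputable def aF (c x : ℕ) : ℕ :=
  Bool.rec (Split.va c x) (Nat.xor (Nat.xor c x) (Split.va 972512676110088067912772961567868960 c)) (blt c 2048)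

theorem orb_four : distinct (fun x => x) 1024 (walk aF (gCA ++ [1, 2, 4, 64]) 1498 1791
    0xabacabadabacaba1abacabadabacaba2abacabadabacaba1abacabadabacaba3abacabadabacaba1abacabadabacaba2abacabadabacaba1abacabadabacaba9000000000000000000000000000000000000000000000000000000000000000000000000000000000000000000000000000000000000000000000000000000000000000000000000000000000000000000000000000000000000000000000000000000000000000000000000000000000000000000000000000000000000000000000000000000000000000000000000000000000000000000000000000000000000000000000000000000000000000000000000000000000000000000000000abacabadabacaba1abacabadabacaba2abacabadabacaba1abacabadabacaba3abacabadabacaba1abacabadabacaba2abacabadabacaba1abacabadabacaba700000000000000000000000000000000000000000000000000000000000000000000000000000000000000000000000000000000000000000000000000000000000000000000000000000000000000000000000000000000000000000000000000000000000000000000000000000000000000000000000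0000000000000000000000000000000000000000000000000000000000000000000000000000000000000000000000000000000000000000000000000000000000000000000000000abacabadabacaba1abacabadabacaba2abacabadabacaba1abacabadabacaba3abacabadabacaba1abacabadabacaba2abacabadabacaba1abacabadabacaba9abacabadabacaba1abacabadabacaba2abacabadabacaba1abacabadabacaba3abacabadabacaba1abacabadabacaba2abacabadabacaba1abacabadabacaba5abacabadabacaba1abacabadabacaba2abacabadabacaba1abacabadabacaba3abacabadabacaba1abacabadabacaba2abacabadabacaba1abacabadabacaba6abacabadabacaba1abacabadabacaba2abacabadabacaba1abacabadabacaba3abacabadabacaba1abacabadabacaba2abacabadabacaba1abacabadabacaba5abacabadabacaba1abacabadabacaba2abacabadabacaba1abacabadabacaba3abacabadabacaba1abacabadabacaba2abacabadabacaba1abacabadabacaba7abacabadabacaba1abacabadabacaba2abacabadabacaba1abacabadabacaba3abacabadabacaba1abacabadabacaba2abacabadabacaba1abacabadabacaba) = true := by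
  decide +kernel

theorem StJ.card_norm_four [Finite G] {z : G} {g l : ℕ → G} {π : centralizer ({z} : Set G) →* PG} {ψ : M24 →* G}
    (s : StJ z π g l ψ) {f : G} (h1 : f = vv z g l 1498 * ψ ⟨zA, zA_mem⟩) (h2 : f * f = vv z g l 299) :
    Nat.card (normalizer (zpowers f : Set G)) ≤ 896 * 96 := by
  have m := s.t.m
  have hV : ∀ {v}, v ∈ VG z g l → v ∈ m.zs.VS := fun h => m.VS_eq.ge h
  set K := pim ψ (CZ zA) ⊔ VG z g l
  have h3 : centralizer {f} ≤ K := fun c hc => by
    have h4 := mem_cen.1 hc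
    obtain ⟨v, hv, y, rfl⟩ := m.exists_mul (s.cd 299 (by norm_num) (by decide +kernel) (mem_cen.2
      (by rw [← h2, ← mul_assoc, h4, mul_assoc, h4, mul_assoc] : c * _ = _ * c)))
    rw [h1] at h4
    have h5 := (m.zs.mul_inj m.z_ne (hV (mul_mem hv (conj_mem_of_mem_norm (m.psi_mem y) (m.vv_mem 1498)))) (hV (mul_mem
      (m.vv_mem 1498) (conj_mem_of_mem_norm (m.psi_mem ⟨zA, zA_mem⟩) hv))) (g := y * ⟨zA, zA_mem⟩)
      (k := (⟨zA, zA_mem⟩ : M24) * y) (by simpa only [map_mul, mul_assoc, inv_mul_cancel_left] using h4)).2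
    exact mul_mem (mem_sup_right hv) (mem_sup_left ⟨y, mem_CZ.2 ⟨y.2, congrArg Subtype.val h5⟩, rfl⟩)
  have h4 : Nat.card K = 21504 * 2048 := by
    rw [GT.card_sup_of_inf_eq_bot (m.pim_le _), m.card_pim (CZ_le _), card_CZ_zA, m.o.x.card_V]
    · rfl
    refine eq_bot_iff.2 ?_
    rintro _ ⟨⟨y, -, rfl⟩, h⟩
    exact (m.zs.mul_inj m.z_ne (hV h) (one_mem _) (g := 1) (k := y) (by rw [map_one, mul_one, one_mul])).1
  have h7 := walk_spec (a := aF) (gs := gCA ++ [1, 2, 4, 64])
    (m := 1498) (P := fun a => a < 2048 ∧ ∃ k ∈ K, k * f * k⁻¹ = vv z g l a * ψ ⟨zA, zA_mem⟩) (by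
      rintro c hc a ⟨ha, k, hk, e⟩
      unfold aF
      cases hb : blt c 2048
      · obtain ⟨y, hy, rfl⟩ := gens_gCA.or_idc (c := c) (hc.imp_left fun h => (List.mem_append.1 h).resolve_right
          fun h => absurd hb ((by decide : ∀ c ∈ [1, 2, 4, 64], ¬ blt c 2048 = false) c h))
        refine ⟨Split.va_lt _ _, ψ ⟨y, hy.1⟩ * k, mul_mem (mem_sup_left ⟨_, hy, rfl⟩) hk, ?_⟩
        rw [← m.conj_vv ⟨y, hy.1⟩ ha, mul_assoc _ _ (ψ ⟨zA, zA_mem⟩), ← map_inv, ← map_mul,
          show (⟨y, hy.1⟩ : M24)⁻¹ * ⟨zA, zA_mem⟩ = ⟨zA, zA_mem⟩ * ⟨y, hy.1⟩⁻¹ from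
            Subtype.ext (Commute.inv_left (mem_CZ.1 hy).2), map_mul, map_inv, mul_assoc (ψ _) (vv z g l a), ← mul_assoc (vv z g l a), ← e]
        group
      · have h8 := (blt_iff _ _).1 hb
        refine ⟨Nat.xor_lt_two_pow (n := 11) (Nat.xor_lt_two_pow h8 ha) (Split.va_lt _ _), vv z g l c * k,
          mul_mem (mem_sup_right (m.vv_mem c)) hk, ?_⟩
        have h9 := m.psi_vv ⟨zA, zA_mem⟩ h8
        rw [show code ((⟨zA, zA_mem⟩ : M24) : PG) = _ from code_zA] at h9
        rw [Nat.xor_eq, Nat.xor_eq, m.o.x.vv_xor, m.o.x.vv_xor, mul_assoc (vv z g l c * vv z g l a), ← h9,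
          mul_assoc (vv z g l c) (vv z g l a), ← mul_assoc (vv z g l a), ← e, mul_inv_rev, m.vv_inv]
        group) ⟨by norm_num, 1, one_mem _, by rw [one_mul, inv_one, mul_one, h1]⟩ 1791
  have h8 := Lc.mul_card_le (K := K) (t := f) (f := fun a => vv z g l a * ψ ⟨zA, zA_mem⟩) (n := 2048)
    (fun a ha b hb e => m.o.x.vv_inj ha hb (mul_right_cancel e))
    ⟨List.map_id' _ ▸ (distinct_spec orb_four).1, fun a ha => (h7 _ a ha).1⟩ fun a ha => (h7 _ a ha).2
  rw [(distinct_spec orb_four).2, inf_eq_right.2 h3, h4] at h8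
  have h9 : f ^ 4 = 1 := by rw [show f ^ 4 = f * f * (f * f) by rw [← sq, ← sq, ← pow_mul], h2, m.vv_sq]
  have h10 : f * f ≠ 1 := fun e => absurd (m.o.x.vv_inj (by norm_num) (by norm_num)
    ((h2 ▸ e).trans m.o.x.vv_zero.symm)) (by norm_num)
  have h11 := ncard_cls_mul (normalizer (zpowers f : Set G)) f
  have h12 : {y | ∃ a ∈ normalizer (zpowers f : Set G), y = a * f * a⁻¹}.ncard ≤ 2 := by
    refine (Set.ncard_le_ncard (t := {f, f ^ 3}) ?_).trans ((Set.ncard_insert_le _ _).trans (by rw [Set.ncard_singleton]))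
    rintro _ ⟨a, ha, rfl⟩
    obtain ⟨k, hk⟩ := (mem_powers_iff_mem_zpowers.2 (mem_normalizer_zpowers_iff.1 ha) :)
    have h13 : (f ^ k) ^ 2 ≠ 1 := fun e => h10 (by
      rw [show f ^ k = _ from hk, conj_pow, conj_eq_one] at e
      rwa [← sq])
    rw [← show f ^ k = _ from hk, pow_eq_pow_mod k h9] at *
    have h14 : k % 4 < 4 := Nat.mod_lt _ (by norm_num)
    generalize k % 4 = j at *
    interval_cases j
    · simp at h13
    · simp
    · exact absurd (by rw [← pow_mul, h9]) h13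
    · simp
  have h13 := Nat.mul_le_mul h12 (card_le_of_le (inf_le_right : normalizer (zpowers f : Set G) ⊓ centralizer {f} ≤ _))
  omega

theorem StJ.cn43 [Finite G] {z : G} {g l : ℕ → G} {π : centralizer ({z} : Set G) →* PG} {ψ : M24 →* G}
    (s : StJ z π g l ψ) {M : Subgroup G} (h1 : 43 ∣ Nat.card M) (h2 : 37 ∣ Nat.card M) :
    cnB 43 43 [2, 7, 14] (Nat.card M) = true := by
  have : Fact (Nat.Prime 37) := ⟨by norm_num⟩
  have : Fact (Nat.Prime 43) := ⟨by norm_num⟩
  obtain ⟨x, hx⟩ := exists_prime_orderOf_dvd_card' 43 h1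
  rw [← orderOf_coe] at hx
  have h3 : ¬ 43 * 43 ∣ Nat.card G := by rw [s.card]; norm_num
  obtain ⟨d, n, k1, k2, k3⟩ := exists_count (isSylIn_of_sq x.2 hx h3)
  have k4 := card_dvd_of_le (inf_le_right : M ⊓ normalizer (zpowers (x : G) : Set G) ≤ _)
  rw [k1, show Nat.card (normalizer (zpowers (x : G) : Set G)) = _ from
    (s.syl43 (isSylIn_of_sq (mem_top _) hx h3).toSylowTop).2, Nat.card_zpowers, hx,
    Nat.mul_dvd_mul_iff_left (by norm_num)] at k4
  refine Cn.cnB ⟨d, (by decide : ∀ d ∈ Nat.divisors 14, d ≠ 1 → d ∈ [2, 7, 14]) d (by simp [k4]) fun e => ?_, n, k2,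
    by rwa [Nat.card_zpowers, hx] at k3⟩ Nat.card_pos.ne'
  rw [e, mul_one] at k1
  have k5 := eq_of_le_of_card_ge (le_inf (zpowers_le.2 x.2) le_normalizer) k1.le
  have k6 := not_dvd_of_central h3 (by rw [s.card]; norm_num) (fun U => (s.syl37 U).2) (by norm_num) hx x.2
    (k5 ▸ zpowers_le.2 (mem_cen.2 rfl)) (by norm_num)
  rw [dvB_iff.2 h2] at k6
  exact absurd k6 (by simp)

theorem StJ.coatom37 [Finite G] [IsSimpleGroup G] {z : G} {g l : ℕ → G} {π : centralizer ({z} : Set G) →* PG}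
    {ψ : M24 →* G} (s : StJ z π g l ψ) (U : Sylow 37 G) : IsCoatom (normalizer ((U : Subgroup G) : Set G)) := by
  have : Fact (Nat.Prime 37) := ⟨by norm_num⟩
  obtain ⟨a, h0, h1, h2, h3⟩ := s.cov37
  have hv : ∀ {w x}, lettersLt 15 w = true → wOK w (vH x) = true → evalW a w = vv z g l x := fun h h' => by
    rw [h0 _ h, (s.t.m.eW_eq h').2, s.t.m.valH_vH]
  simp only [q37, r37, List.forall_mem_cons] at h1 h2
  obtain ⟨k1, k2, k3, k4, k5, k6, k7, k8, -⟩ := h1
  rw [h0 (nth [] WB 8) (by decide +kernel), ← nth_map_of_lt [] 1 (eW z g l ψ) (by decide), s.nth_WB (by norm_num), aG,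
    if_neg (by norm_num), valN_of (y := ⟨zA, zA_mem⟩) code_zA'] at k6
  rw [show [5, 7, 8, 10, 11, 12, 14, 17] = [5, 7, 8, 10, 11, 12, 14] ++ [17] from rfl, evalW_append,
    hv (w := [5, 7, 8, 10, 11, 12, 14]) (x := 1498) (by decide +kernel) (by decide +kernel), k6] at k7
  rw [hv (w := [4, 5, 7, 9, 12]) (x := 299) (by decide +kernel) (by decide +kernel)] at k8
  simp only [evalW_powW, evalW_appL, evalW_cons, evalW_nil, mul_one] at k1 k2 k3 k4 k5 k7 k8 h2
  have o1 := orderOf_eq_prime k1 h2.1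
  have o2 : orderOf (a 18) = 2 ^ 2 := orderOf_eq_prime_pow (by rw [pow_one, sq]; exact h2.2.1)
    (by rw [k3, ← pow_mul]; exact k5)
  have h4 := isSylIn_of_sq (mem_top _) o1 (by rw [s.card]; norm_num)
  have h5 := mem_norm_of k2
  have h7 : Nat.card (normalizer (zpowers (a 15) : Set G)) = 444 := (s.syl37 h4.toSylowTop).2
  refine coatom_syl h4 (s.coatom_num h7 (by norm_num)
    (L := [(2, 19), (3, 2), (5, 1), (7, 1), (11, 3), (23, 1), (29, 1), (31, 1), (43, 1)]) (by simp; norm_num) (by norm_num)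
    (E := fun m => band (cnB 37 37 [12] m) (bor (cnB 43 43 [2, 7, 14] m) (!dvB 8 m))) (fun M hM => ?_)
    (by decide +kernel)) U
  have h6 : a 15 ∈ M := hM (le_normalizer (mem_zpowers _))
  rw [band_iff, bor_iff]
  refine ⟨cn_exact (by rw [s.card]; norm_num) o1 h6 (by rw [inf_eq_right.2 hM, h7]), ?_⟩
  refine (h3 M (by simp [d37, h6, hM h5]) (by simp [d37, hM h5]) (k4 ▸ pow_mem (hM h5) _ : a 19 ∈ M)
    (s.card_norm_four k7 k8)).imp (fun h => s.cn43 (h _ (by decide) (by norm_num)) (o1 ▸ orderOf_dvd_natCard _ h6))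
    fun h => ?_
  have h8 : zpowers (a 18) ≤ normalizer (zpowers (a 15) : Set G) := zpowers_le.2 (k3 ▸ pow_mem h5 _)
  have h9 := isSylIn_of_normalizer (isSylIn_of_card (p := 2) (k := 2) (m := 111) h8 (by rw [Nat.card_zpowers, o2])
    (by rw [h7]; rfl) (by norm_num)) (h8.trans hM) fun x h1 h2 => clos_le.2 (by simpa [d37] using h5) (h ⟨h1, h2⟩)
  rw [Bool.not_eq_true', ← Bool.not_eq_true, dvB_iff, ← card_mul_relIndex h9.le, Nat.card_zpowers, o2]
  exact fun h => h9.not_dvd_relIndex (Nat.dvd_of_mul_dvd_mul_left (by norm_num : 0 < 2 ^ 2) h)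

end Cfsg.Agent.J4T
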