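import Mathlib
import Cfsg.Agent.J4T.MaxC

/-!
Certificates that share their registers.
-/

set_option autoImplicit false

namespace Cfsg.Agent.J4T

open Cfsg.Agent.Spor Cfsg.Agent.Spor.MB Cfsg.Agent.Spor.J4C Subgroup Cfsg.Agent.Rec

namespace Cov

/-- `y` normalises the cyclic group generated by `s`. -/
noncomputable def nrmC (A : Ar) (s y : ℕ) : Bool :=
  Spor.force (A.mul y s) fun a => bneg (allLt 11 fun k => Spor.force (Nat.sub 11 k) fun k =>
    bneg (Nat.beq a (A.mul (pw2 A s k k) y)))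

/-- The relations between the registers. -/
noncomputable def basC (d : Dat) : Bool :=
  withL d.R fun R => Spor.force (nth arM.one R d.s) fun s => Spor.force (nth arM.one R d.c) fun c =>
    band (Spor.allL (sel arM R (appL d.ys (appL d.bs (appL d.rs d.ks)))) (nrmC arM s))
    (band (Spor.allL (sel arM R d.bs) fun b => Nat.beq (arM.mul b c) (arM.mul c b))
    (band (allLt 8 fun i => Nat.beq (arM.mul (nth arM.one (sel arM R d.ys) i) (nth arM.one (sel arM R d.yi) i)) arM.one)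
    (band (preB (sel arM R d.ys) (sel arM R d.ks) d.m1) (preB (sel arM R d.bs) (sel arM R d.ks) d.m2))))

/-- The matrices `D'` are values of a program in the letters and the matrices `D`. -/
noncomputable def prgC (D D' : List ℕ) (prog : List (List ℕ)) (regs : List ℕ) : Bool :=
  withL (appL mL D) (runL arM prog fun R => Spor.beqL (sel arM R regs) D')

/-- The registers `xs` are values of a program in the registers `hs`. -/
noncomputable def inC (D hs xs : List ℕ) (prog : List (List ℕ)) (regs : List ℕ) : Bool :=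
  withL (appL mL D) fun R => withL (sel arM R hs) (runL arM prog fun T => Spor.beqL (sel arM T regs) (sel arM R xs))

/-- Equations between words in the registers. -/
noncomputable def eqC (D : List ℕ) (eqs nes : List (List ℕ × List ℕ)) : Bool :=
  withL (appL mL D) fun R => chkE arM R eqs nes

/-- The matrices satisfy the relators. -/
noncomputable def relC (D ix : List ℕ) (rels : LT) : Bool :=
  withL (appL mL D) fun R => withL (sel arM R ix) fun T => rels.all fun w => Nat.beq (ev1 arM T w) arM.one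

variable {G : Type*} [Group G] {C : Cod arM G}

theorem nrmC_sound [Finite G] {s y : ℕ} {a b : G} (hs : C.Rep s a) (hy : C.Rep y b) (h : nrmC arM s y = true) :
    b ∈ normalizer (zpowers a : Set G) := by
  simp only [nrmC, Spor.force_eq, bneg_iff, allLt_iff, nbeq_iff, not_forall, not_not] at h
  obtain ⟨k, -, h⟩ := h
  rw [mem_normalizer_zpowers_iff, ((hy.mul hs).eq_iff ((rep_pw2 hs _ _).mul hy)).1 h, mul_inv_cancel_right]
  exact pow_mem (mem_zpowers a) _

theorem cover2 [Finite G] {d : Dat} {e : List G} (hR : C.RepL d.R e)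
    (h1 : basC d = true) {n β : ℕ} {L : List (List ℕ)}
    (h2 : ∀ ks ∈ L, ∃ fuel cert s, ch1 d fuel cert s ks = true) (h3 : distinct (fun x => x) n L.flatten = true)
    (h4 : ∀ j < d.rs.length, ∃ L : List (List ℕ), (∀ ks ∈ L, ∃ fuel cert s, ch2 d j fuel cert s ks = true) ∧
      distinct (fun x => x) β L.flatten = true) {M : Subgroup G} (k1 : ∀ i ∈ d.hs, nth 1 e i ∈ M)
    (k2 : ∀ i ∈ d.ks, nth 1 e i ∈ M) (k3 : nth 1 e d.c ∈ M)
    (k4 : Nat.card (normalizer (zpowers (nth 1 e d.s) : Set G)) ≤ n * β) (k5 : 0 < d.rs.length) :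
    (∀ p ∈ d.ps, p.Prime → p ∣ Nat.card M) ∨
      M ⊓ normalizer (zpowers (nth 1 e d.s) : Set G) ≤ clos (d.ks.map (nth 1 e)) := by
  refine or_iff_not_imp_left.2 fun hn y hy0 => ?_
  obtain ⟨y1, y2⟩ := mem_inf.1 hy0
  simp only [basC, withL_eq, Spor.force_eq, band_iff, appL_eq, Spor.allL_iff, nbeq_iff, allLt_iff] at h1
  obtain ⟨b1, b2, b3, b4, b5⟩ := h1
  set Y := normalizer (zpowers (nth 1 e d.s) : Set G)
  set B := clos (d.ks.map (nth 1 e))
  have hc := hR.nth d.c
  generalize nth 1 e d.c = xc at *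
  have hY : ∀ l : List ℕ, (∀ a ∈ l, a ∈ d.ys ++ (d.bs ++ (d.rs ++ d.ks))) → ∀ x ∈ l.map (nth 1 e), x ∈ Y :=
    fun l hm => forall_of_repL (repL_sel hR l) fun a ha x hx => nrmC_sound (hR.nth _) hx
      (b1 a (List.map_subset _ hm ha))
  have hBM : B ≤ M := clos_le.2 (by simpa using k2)
  have hBY : B ≤ Y := clos_le.2 (hY _ (by simp +contextual))
  have hC : ∀ x ∈ d.bs.map (nth 1 e), x ∈ Y ⊓ centralizer {xc} := fun x hx => ⟨hY _ (by simp +contextual) x hx,
    forall_of_repL (repL_sel hR _) (fun a ha x hx => mem_cen.2 (((hx.mul hc).eq_iff (hc.mul hx)).1 (b2 a ha))) x hx⟩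
  simp only [ch1, ch2, withL_eq, Spor.force_eq] at h2 h4
  obtain ⟨a1, a2⟩ := chB_sound hR k1 hn (S := {y | ∃ a ∈ Y, y = a * xc * a⁻¹})
    (Q := fun x => ∃ v ∈ B, ∃ j < d.rs.length,
      x * (v * nth 1 (d.rs.map (nth 1 e)) j) = v * nth 1 (d.rs.map (nth 1 e)) j * xc) hc ⟨1, one_mem _, by group⟩
    (by
      rintro i hi a _ ⟨y, h5, rfl⟩ h6
      have h7 := (repL_sel hR d.ys).nth i
      have h8 := (repL_sel hR d.yi).nth i
      rw [eq_inv_of_mul_eq_one_right (((h7.mul h8).eq_iff Cod.rep_one).1 (b3 i hi))] at h8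
      refine ⟨_, ⟨_ * y, mul_mem (nth_mem (hY d.ys (by simp +contextual)) i) h5, by group⟩, (h7.mul h6).mul h8,
        fun h9 h10 h11 => ?_⟩
      have h12 := preB_sound (repL_sel hR _) (repL_sel hR _) b4 h9
      obtain ⟨v, h13, j, h14, h15⟩ := h10 (by
        simpa only [mul_assoc, inv_mul_cancel, mul_one, inv_mul_cancel_left] using
          mul_mem (mul_mem (inv_mem (hBM h12)) h11) (hBM h12))
      exact ⟨_, mul_mem h12 h13, j, h14, by simp only [mul_assoc, inv_mul_cancel_left] at h15 ⊢; rw [h15]⟩)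
    (fun K eK h5 h6 a x k h7 h8 => by
      rw [band_iff, blt_iff, nbeq_iff] at h8
      obtain ⟨v, c4, c5⟩ := rep_tw h5 h6 Cod.rep_one (one_mem _) (Nat.land (Nat.shiftRight k 2) 0xffffff)
      have c6 := c5.mul ((repL_sel hR d.rs).nth (Nat.land k 3))
      exact ⟨v, c4, _, h8.1, ((h7.mul c6).eq_iff (c6.mul hc)).1 h8.2⟩) h2 h3
  have key : ∀ j < d.rs.length, β ≤ Nat.card ↥(Y ⊓ centralizer {xc}) ∧ (Nat.card ↥(Y ⊓ centralizer {xc}) ≤ β →
      ∀ x ∈ Y ⊓ centralizer {xc}, nth 1 (d.rs.map (nth 1 e)) j * x ∈ M → nth 1 (d.rs.map (nth 1 e)) j * x ∈ B) := by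
    intro j hj
    obtain ⟨L, h5, h6⟩ := h4 j hj
    have h7 := chB_sound hR k1 hn (S := (nth 1 (d.rs.map (nth 1 e)) j * ·) '' (Y ⊓ centralizer {xc} : Subgroup G))
      (Q := (· ∈ B)) ((repL_sel hR d.rs).nth j) ⟨1, one_mem _, mul_one _⟩
      (by
        rintro i - a _ ⟨x, h7, rfl⟩ h8
        refine ⟨_, ⟨_, mul_mem h7 (nth_mem hC i), (mul_assoc _ _ _).symm⟩, h8.mul ((repL_sel hR d.bs).nth i),
          fun h9 h10 h11 => ?_⟩
        have h12 := preB_sound (repL_sel hR _) (repL_sel hR _) b5 h9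
        exact mul_mem (h10 ((mul_mem_cancel_right (hBM h12)).1 h11)) h12)
      (fun K eK h5 h6 a x k h7 h8 => by
        obtain ⟨v, c4, c5⟩ := rep_tw h5 h6 Cod.rep_one (one_mem _) (Nat.land k 0xffffff)
        exact (h7.eq_iff c5).1 ((nbeq_iff _ _).1 h8) ▸ c4) h5 h6
    rw [Set.ncard_image_of_injective _ (mul_right_injective _), ← Nat.card_coe_set_eq, SetLike.coe_sort_coe] at h7
    exact ⟨h7.1, fun h x hx => h7.2 h _ ⟨x, hx, rfl⟩⟩
  have h5 := ncard_cls_mul Y xc
  have h6 : 0 < Nat.card Y := Nat.card_pos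
  have h8 : 0 < {y | ∃ a ∈ Y, y = a * xc * a⁻¹}.ncard := Nat.pos_of_mul_pos_right (h5 ▸ h6)
  obtain ⟨v, c1, j, c2, c3⟩ := a2 (Nat.le_of_mul_le_mul_right ((h5 ▸ k4).trans (Nat.mul_le_mul_left n (key 0 k5).1))
    Nat.card_pos) _ ⟨y, y2, rfl⟩ (mul_mem (mul_mem y1 k3) (inv_mem y1))
  have c4 := (key j c2).2 (Nat.le_of_mul_le_mul_left ((h5 ▸ k4).trans (Nat.mul_le_mul_right β a1)) h8)
    ((v * nth 1 (d.rs.map (nth 1 e)) j)⁻¹ * y) (mem_inf.2 ⟨mul_mem (inv_mem (mul_mem (hBY c1)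
      (nth_mem (hY d.rs (by simp +contextual)) _))) y2, mem_cen.2 (by
        rw [mul_assoc, inv_mul_eq_iff_eq_mul, ← mul_assoc, ← mul_assoc, ← c3]; group)⟩)
  rw [show nth 1 (d.rs.map (nth 1 e)) j * ((v * nth 1 (d.rs.map (nth 1 e)) j)⁻¹ * y) = v⁻¹ * y by group] at c4
  exact (mul_mem_cancel_left (inv_mem c1)).1 (c4 (mul_mem (inv_mem (hBM c1)) y1))

theorem repL_inj {c : List ℕ} {e e' : List G} (h : C.RepL c e) (h' : C.RepL c e') : e = e' := by
  induction h generalizing e' with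
  | nil => cases h'; rfl
  | cons h1 _ ih =>
    cases h' with
    | cons h2 h3 => rw [(h1.eq_iff h2).1 rfl, ih h3]

theorem length_eq {c : List ℕ} {e : List G} (h : C.RepL c e) : c.length = e.length := by
  induction h with
  | nil => rfl
  | cons _ _ ih => simpa using ih

theorem prgC_sound {D D' : List ℕ} {e : List G} (h : C.RepL (appL mL D) e) {prog : List (List ℕ)} {regs : List ℕ}
    (h0 : prgC D D' prog regs = true) : ∃ e', C.RepL (appL mL (appL D D')) (e ++ e') := by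
  rw [prgC, withL_eq] at h0
  obtain ⟨R, e', k1, -, k2⟩ := runL_sound h h0
  have k3 := repL_sel k1 regs
  rw [Spor.eq_of_beqL k2] at k3
  rw [appL_eq, appL_eq, ← List.append_assoc, ← appL_eq mL]
  exact ⟨_, h.append k3⟩

theorem inC_sound {D : List ℕ} {e : List G} (h : C.RepL (appL mL D) e) {hs xs : List ℕ} {prog : List (List ℕ)}
    {regs : List ℕ} (h0 : inC D hs xs prog regs = true) {H : Subgroup G} (hH : ∀ i ∈ hs, nth 1 e i ∈ H) :
    ∀ i ∈ xs, nth 1 e i ∈ H := by
  rw [inC, withL_eq, withL_eq] at h0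
  obtain ⟨R, e', k1, k2, k3⟩ := runL_sound (repL_sel h hs) h0
  have k4 := repL_sel k1 regs
  rw [Spor.eq_of_beqL k3] at k4
  rw [← List.forall_mem_map (P := (· ∈ H)), repL_inj (repL_sel h xs) k4, List.forall_mem_map]
  exact fun i _ => nth_mem (fun x hx => clos_le.2 (List.forall_mem_map.2 hH)
    ((List.mem_append.1 hx).elim mem_clos (k2 x))) i

theorem eqC_sound {D : List ℕ} {e : List G} (h : C.RepL (appL mL D) e) {eqs nes : List (List ℕ × List ℕ)}
    (h0 : eqC D eqs nes = true) : (∀ p ∈ eqs, evalW (nth 1 e) p.1 = evalW (nth 1 e) p.2) ∧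
      ∀ p ∈ nes, evalW (nth 1 e) p.1 ≠ evalW (nth 1 e) p.2 := by
  rw [eqC, withL_eq] at h0
  exact chkE_sound h h0

theorem relC_sound {D ix : List ℕ} {e : List G} (h : C.RepL (appL mL D) e) {rels : LT} (h0 : relC D ix rels = true)
    (i : ℕ) : evalW (nth 1 (ix.map (nth 1 e))) (rels.get i) = 1 := by
  rw [relC, withL_eq, withL_eq] at h0
  exact ((rep_ev1 (repL_sel h ix) _).eq_iff Cod.rep_one).1 ((nbeq_iff _ _).1 (LT.all_get h0 i))

/-- A checked certificate over the registers `D`. -/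
def Cert (D : List ℕ) (d : Dat) (N : ℕ) : Prop :=
  ∃ D' prog regs prog' regs' n β, ∃ L : List (List ℕ), d.D = appL D D' ∧ prgC D D' prog regs = true ∧
    inC d.D d.hs (d.c :: d.ks) prog' regs' = true ∧ basC d = true ∧
    (∀ ks ∈ L, ∃ fuel cert s, ch1 d fuel cert s ks = true) ∧ distinct (fun x => x) n L.flatten = true ∧
    (∀ j < d.rs.length, ∃ L : List (List ℕ), (∀ ks ∈ L, ∃ fuel cert s, ch2 d j fuel cert s ks = true) ∧
      distinct (fun x => x) β L.flatten = true) ∧ 0 < d.rs.length ∧ N = n * β ∧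
    lettersLt (appL mL D).length (d.s :: d.hs) = true

/-- What a certificate proves. -/
def Concl (a : ℕ → G) (hs : List ℕ) (s : ℕ) (ps : List ℕ) (N : ℕ) : Prop :=
  ∀ H M : Subgroup G, (∀ i ∈ hs, a i ∈ H) → H ≤ M → Nat.card (normalizer (zpowers (a s) : Set G)) ≤ N →
    (∀ p ∈ ps, p.Prime → p ∣ Nat.card M) ∨ M ⊓ normalizer (zpowers (a s) : Set G) ≤ H

theorem Cert.out [Finite G] {D : List ℕ} {d : Dat} {N : ℕ} (h : Cert D d N) {e : List G}
    (hR : C.RepL (appL mL D) e) : Concl (nth 1 e) d.hs d.s d.ps N := by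
  obtain ⟨D', prog, regs, prog', regs', n, β, L, h1, h2, h3, h4, h5, h6, h7, h8, rfl, h9⟩ := h
  obtain ⟨e', k1⟩ := prgC_sound hR h2
  rw [← h1] at k1
  rw [length_eq hR, lettersLt_iff, List.forall_mem_cons] at h9
  intro H M m1 m2 m3
  have k2 : ∀ i ∈ d.hs, nth 1 (e ++ e') i ∈ H := fun i hi => nth_append (h9.2 i hi) ▸ m1 i hi
  have k3 := List.forall_mem_cons.1 (inC_sound k1 h3 k2)
  rw [← nth_append (e' := e') h9.1] at m3 ⊢
  exact (cover2 k1 h4 h5 h6 h7 (fun i hi => m2 (k2 i hi)) (fun i hi => m2 (k3.2 i hi)) (m2 k3.1) m3 h8).imp_right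
    fun h => h.trans (clos_le.2 (List.forall_mem_map.2 k3.2))

end Cov

open Cov

/-- The registers `D` are elements of the group. -/
def Regs {G : Type*} [Group G] (f : List ℕ → G) (D : List ℕ) : Prop :=
  ∃ (C : Cod arM G) (e : List G), C.RepL (appL mL D) e ∧ ∀ w, lettersLt 15 w = true → evalW (nth 1 e) w = f w

theorem StJ.regs_nil {G : Type*} [Group G] {z : G} {g l : ℕ → G} {π : centralizer ({z} : Set G) →* PG}
    {ψ : M24 →* G} (S : StJ z π g l ψ) : Regs (eW z g l ψ) [] := by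
  obtain ⟨C, hC⟩ := S.exists_cod
  exact ⟨C, _, by rwa [appL_eq, List.append_nil], fun _ _ => rfl⟩

theorem Regs.step {G : Type*} [Group G] {f : List ℕ → G} {D D' : List ℕ} (h : Regs f D) {prog : List (List ℕ)}
    {regs : List ℕ} (h0 : prgC D D' prog regs = true) : Regs f (appL D D') := by
  obtain ⟨C, e, h1, h2⟩ := h
  obtain ⟨e', h3⟩ := prgC_sound h1 h0
  refine ⟨C, _, h3, fun w hw => (Spor.evalW_congr fun i hi => nth_append ?_).trans (h2 w hw)⟩
  rw [← length_eq h1, appL_eq, List.length_append]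
  exact ((lettersLt_iff _ _).1 hw i hi).trans_le (Nat.le_add_right 15 _)

end Cfsg.Agent.J4T
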