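import Mathlib
import Cfsg.Agent.J4T.MaxE
import Cfsg.Agent.J4T.GL2Pres
import Cfsg.Agent.Spor.MX.Glue3

/-!
Tools for the maximal subgroups that are not local.
-/

set_option autoImplicit false

namespace Cfsg.Agent.J4T

open Cfsg.Agent.Spor Cfsg.Agent.Spor.MB Cfsg.Agent.Spor.J4C Subgroup Cfsg.Agent.Inv.Fz Cfsg.Agent.Rec Cov

variable {G : Type*} [Group G]

/-- A copy of `PGL₂(p)` that contains the generators. -/
theorem exists_PGL2 {p : ℕ} [Fact p.Prime] {r : (ZMod p)ˣ} (hr : ∀ a, a ∈ zpowers r) {k m : ℕ}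
    (hk : (r : ZMod p) = k) (hm : (r : ZMod p) ^ m = -1) {u h w : G} (h1 : u ^ p = 1) (h2 : h ^ (p - 1) = 1)
    (h3 : w * w = 1) (h4 : h * u = u ^ k * h) (h5 : h * (w * h * w) = 1) (h7 : w * u * w = u * h ^ m * w * u)
    (h8 : u * (w * u * w) ≠ w * u * w * u) : ∃ K : Subgroup G, u ∈ K ∧ w ∈ K ∧
      Nonempty (K ≃* GL (Fin 2) (ZMod p) ⧸ center (GL (Fin 2) (ZMod p))) := by
  have e := eq_inv_of_mul_eq_one_right h5
  obtain ⟨x, D, hR, hx, hD⟩ := GL2P.exists_grel hr hk hm h1 h2 h3 h4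
    (by rw [e, inv_mul_eq_iff_eq_mul, ← mul_assoc, h4, mul_inv_cancel_right]) (by rw [e]; group) h7
  have x1 : x 1 = u := by rw [hx, ZMod.val_one, pow_one]
  have hker : hR.hom.ker = center _ := by
    ext g
    refine ⟨fun hg => ?_, fun hg => ?_⟩
    · obtain ⟨k1, k2, k3, -⟩ := hR.scalar_of_eq_one (x1 ▸ h8)
        (fun s hs => GL2P.eq_zero_of_pow_val h1 (fun e => h8 (by simp [e])) (hx s ▸ hs)) hg
      exact GL2P.GRel.mem_center k1 k2 k3
    · obtain ⟨k1, k2⟩ := hR.hom_scalar hg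
      obtain ⟨n, -, k3⟩ := hD _ k1
      rw [MonoidHom.mem_ker, k2, k3, h5, one_pow]
  exact ⟨hR.hom.range, ⟨.mkOfDetNeZero !![1, 1; 0, 1] (by simp), by simp [hR.hom_apply, GL2P.gm, hR.D_one, x1]⟩,
    ⟨.mkOfDetNeZero !![0, 1; 1, 0] (by simp), by simp [hR.hom_apply, GL2P.gm, hR.D_one, hR.x_zero]⟩,
    ⟨(QuotientGroup.quotientKerEquivRange hR.hom).symm.trans (QuotientGroup.quotientMulEquivOfEq hker)⟩⟩

theorem exists_model {G₀ : Type} [Group G₀] [IsSimpleGroup G₀] {g₀ : ℕ → G₀} {rels : LT} {m N : ℕ} {e : List G}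
    (h : MX.Gen ⊤ g₀ rels m N) (hb : MX.Pres rels m N) (he : ∀ i, evalW (nth 1 e) (rels.get i) = 1) (hm : e.length = m)
    {i : ℕ} (hi : i < m) (h1 : nth 1 e i ≠ 1) : Nat.card (clos e) = N ∧ Nonempty (clos e ≃* G₀) := by
  have := (topEquiv (G := G₀)).isSimpleGroup
  have h2 := h.of_simple hb he hi h1
  rw [← hm, genLt_nth, hm] at h2
  exact ⟨h2.2.2, (h2.equiv hb h).map (·.trans topEquiv)⟩

variable [Finite G]

theorem exists_ext {K : Subgroup G} {σ : G} {p : ℕ} [hp : Fact p.Prime] (h1 : σ ^ p = 1) (h2 : σ ∉ K)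
    (h3 : σ ∈ normalizer (K : Set G)) : Nat.card ↥(zpowers σ ⊔ K) = p * Nat.card K ∧
      (K.subgroupOf (zpowers σ ⊔ K)).Normal ∧ (K.subgroupOf (zpowers σ ⊔ K)).index = p := by
  have h4 := orderOf_eq_prime h1 fun e => h2 (e ▸ one_mem K)
  have h5 : Nat.card ↥(zpowers σ ⊔ K) = p * Nat.card K := by
    rw [GT.card_sup_of_inf_eq_bot (zpowers_le.2 h3) (eq_bot_iff.2 fun y hy => by_contra fun h => h2 ?_),
      Nat.card_zpowers, h4]
    have h6 := orderOf_dvd_of_mem_zpowers hy.1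
    rw [h4, Nat.dvd_prime hp.out, orderOf_eq_one_iff] at h6
    exact zpowers_le.1 (zpowers_eq_of_mem hy.1 (h4 ▸ h6.resolve_left h) ▸ zpowers_le.2 hy.2)
  refine ⟨h5, (normal_subgroupOf_iff_le_normalizer le_sup_right).2 (sup_le (zpowers_le.2 h3) le_normalizer), ?_⟩
  have h6 := card_mul_relIndex (le_sup_right : K ≤ zpowers σ ⊔ K)
  rw [h5, mul_comm p] at h6
  exact Nat.eq_of_mul_eq_mul_left Nat.card_pos h6

theorem mem_norm_words {a : ℕ → G} {q : List (List ℕ × List ℕ)} (hq : ∀ p ∈ q, evalW a p.1 = evalW a p.2) {y : ℕ}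
    {ix : List ℕ} (h : ∀ i ∈ ix, ∃ p ∈ q, p.1 = [y, i] ∧ p.2 = p.2.dropLast ++ [y] ∧ ∀ j ∈ p.2.dropLast, j ∈ ix) :
    a y ∈ normalizer (clos (ix.map a) : Set G) := by
  refine mem_normalizer_of_conj_mem (conj_clos_mem (List.forall_mem_map.2 fun i hi => ?_))
  obtain ⟨p, h1, h2, h3, h4⟩ := h i hi
  have h5 := hq p h1
  simp only [h2, evalW_cons, evalW_nil, mul_one] at h5
  rw [h5, h3, evalW_append, evalW_cons, evalW_nil, mul_one, mul_inv_cancel_right]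
  exact evalW_mem fun j hj => mem_clos (List.mem_map_of_mem (h4 j hj))

theorem mem_cen_of_coprime {x y : G} {p n : ℕ} (hp : p.Prime) (hx : orderOf x = p)
    (hy : y ∈ normalizer (zpowers x : Set G)) (h : y ^ n = 1) (hn : n.Coprime (p - 1)) : y ∈ centralizer {x} := by
  have h1 : (⟨y, hy⟩ : normalizer (zpowers x : Set G)) ∈ (zpowers x).normalizerMonoidHom.ker := by
    refine MonoidHom.mem_ker.2 (orderOf_eq_one_iff.1 (Nat.eq_one_of_dvd_coprimes hn (orderOf_dvd_of_pow_eq_one ?_) ?_))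
    · rw [← map_pow, ← map_one (zpowers x).normalizerMonoidHom]
      exact congrArg _ (Subtype.ext h)
    · rw [← Nat.totient_prime hp, ← hx, ← Nat.card_zpowers x, ← IsCyclic.card_mulAut]
      exact _root_.orderOf_dvd_natCard _
  rwa [normalizerMonoidHom_ker, mem_subgroupOf, cent_zpowers] at h1

theorem Cov.Concl.ix {a : ℕ → G} {hs ps : List ℕ} {s N p h : ℕ} [Fact p.Prime] (hc : Concl a hs s ps N)
    {H M : Subgroup G} (k : ∀ i ∈ s :: hs, a i ∈ H) (hH : Nat.card H = h) (hM : H ≤ M) (hx : orderOf (a s) = p)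
    (hN : Nat.card (normalizer (zpowers (a s) : Set G)) ≤ N) (h2 : ¬ p * p ∣ h) (hp : ∀ q ∈ ps, q.Prime) :
    bor (Spor.allL ps fun q => dvB q (Nat.card M)) (ixB p h (Nat.card M)) = true := by
  rw [List.forall_mem_cons] at k
  obtain ⟨m, hm⟩ := hH ▸ hx ▸ orderOf_dvd_natCard _ k.1
  exact (bor_iff _ _).2 ((hc H M k.2 hM hN).imp (fun h => (Spor.allL_iff _ _).2 fun q hq => dvB_iff.2 (h q hq (hp q hq)))
    fun h => ix_of_le hH hM (isSylIn_of_normalizer (isSylIn_of_card (k := 1) (zpowers_le.2 k.1)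
      (by rw [Nat.card_zpowers, hx, pow_one]) (by rw [hH, hm, pow_one]) fun e => h2 (hm ▸ mul_dvd_mul_left p e))
      (zpowers_le.2 (hM k.1)) fun _ h1 h2 => h ⟨h1, h2⟩) (zpowers_le.2 k.1) h)

/-- The wreath product of a cyclic group of order 4 and a group of order 2. -/
theorem exists_wreath {a o : G} (h1 : o * o = 1) (h2 : a ^ 4 = 1) (h3 : a * (o * a * o) = o * a * o * a)
    (h4 : a * a ≠ o * (a * a) * o) : ∃ T : Subgroup G, T ≤ clos [a, o] ∧ a * o ∈ T ∧ Nat.card T = 2 ^ 5 ∧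
      ∀ x ∈ T, x ^ 4 ≠ 1 → ∃ t ∈ T, t * x * t⁻¹ ∈ zpowers (a * o) := by
  have hi := inv_eq_of_mul_eq_one_left h1
  have hb : ∀ n, (o * a * o) ^ n = o * a ^ n * o := fun n => by simpa only [hi] using conj_pow (a := o) (b := a) (i := n)
  have c : Commute a (o * a * o) := h3
  have h5 : orderOf a = 2 ^ 2 := orderOf_eq_prime_pow (fun e => h4 (by rw [← sq, show a ^ 2 = 1 from e, mul_one, h1])) h2
  have h5' : orderOf (o * a * o) = 2 ^ 2 := by simpa only [hi, h5] using orderOf_conj' o a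
  have h6 : zpowers (o * a * o) ≤ normalizer (zpowers a : Set G) := zpowers_le.2 (mem_norm_of (k := 1) (by rw [pow_one, h3]))
  have h7 : ∀ x ∈ zpowers (o * a * o) ⊔ zpowers a, ∃ i j : ℕ, x = a ^ i * (o * a * o) ^ j := fun x hx => by
    obtain ⟨u, hu, v, hv, rfl⟩ := (GT.HT.mem_sup_of_le_normalizer h6).1 (by rwa [sup_comm])
    obtain ⟨⟨i, rfl⟩, j, rfl⟩ := And.intro (mem_powers_iff_mem_zpowers.2 hu) (mem_powers_iff_mem_zpowers.2 hv)
    exact ⟨i, j, rfl⟩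
  have h8 : o ∈ normalizer ((zpowers (o * a * o) ⊔ zpowers a : Subgroup G) : Set G) :=
    mem_normalizer_of_conj_mem fun x hx => by
      obtain ⟨i, j, rfl⟩ := h7 x hx
      rw [← conj_mul, ← conj_pow, ← conj_pow, hi, show o * (o * a * o) * o = o * o * a * (o * o) by group, h1, one_mul, mul_one]
      exact mul_mem (mem_sup_left (npow_mem_zpowers _ _)) (mem_sup_right (npow_mem_zpowers _ _))
  have h9 : ∀ x ∈ zpowers (o * a * o) ⊓ zpowers a, x = 1 := fun x hx => by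
    have k : ∀ {b t : G}, orderOf b = 2 ^ 2 → t ∈ zpowers b → t * t = 1 → t ≠ 1 → t = b ^ 2 := fun {b t} k1 k2 k3 k4 => by
      obtain ⟨i, rfl⟩ := mem_powers_iff_mem_zpowers.2 k2
      rw [← sq, ← pow_mul, ← orderOf_dvd_iff_pow_eq_one, k1] at k3
      rw [Ne, ← orderOf_dvd_iff_pow_eq_one, k1] at k4
      exact pow_eq_pow_iff_modEq.2 (by rw [k1, Nat.ModEq]; omega)
    have k' : ∀ t ∈ zpowers (o * a * o) ⊓ zpowers a, t * t = 1 → t = 1 := fun t ht k1 => by_contra fun k2 =>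
      h4 (by rw [← sq, ← hb, ← k h5 ht.2 k1 k2, ← k h5' ht.1 k1 k2])
    refine k' x hx (k' _ (mul_mem hx hx) ?_)
    rw [← sq, ← sq, ← pow_mul, ← orderOf_dvd_iff_pow_eq_one]
    exact (orderOf_dvd_of_mem_zpowers hx.2).trans h5.dvd
  obtain ⟨k1, -⟩ := exists_ext (p := 2) (by rw [sq, h1]) (fun h => by
    obtain ⟨i, j, e⟩ := h7 o h
    have k : a * o = o * a := by
      rw [e]
      exact ((Commute.refl a).pow_right i).mul_right (c.pow_right j)
    exact h4 (by rw [mul_assoc, mul_assoc, k, ← mul_assoc a, k, ← mul_assoc, ← mul_assoc, h1, one_mul])) h8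
  have m1 : a ∈ clos [a, o] := mem_clos (by simp)
  have m2 : o ∈ clos [a, o] := mem_clos (by simp)
  have m3 : a ∈ zpowers o ⊔ (zpowers (o * a * o) ⊔ zpowers a) := mem_sup_right (mem_sup_right (mem_zpowers a))
  refine ⟨_, sup_le (zpowers_le.2 m2) (sup_le (zpowers_le.2 (mul_mem (mul_mem m2 m1) m2)) (zpowers_le.2 m1)),
    mul_mem m3 (mem_sup_left (mem_zpowers o)), ?_, fun x hx h => ?_⟩
  · rw [k1, GT.card_sup_of_inf_eq_bot h6 (eq_bot_iff.2 h9), Nat.card_zpowers, Nat.card_zpowers, h5, h5']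
    rfl
  obtain ⟨u, hu, v, hv, rfl⟩ := (GT.HT.mem_sup_of_le_normalizer (zpowers_le.2 h8)).1 (by rwa [sup_comm])
  obtain ⟨i, j, rfl⟩ := h7 u hu
  by_cases e : v = 1
  · exact absurd (by rw [e, mul_one, (c.pow_pow i j).mul_pow, ← pow_mul, ← pow_mul, mul_comm i, mul_comm j, pow_mul, pow_mul,
      hb 4, h2, one_pow, mul_one, h1, one_pow, mul_one]) h
  rw [eq_of_mem_zpowers_two h1 hv e, hb, mul_assoc (a ^ i), mul_assoc (o * a ^ j), h1, mul_one] at h ⊢
  have k2 : ∀ n, a ^ (j + n) * (a ^ i * (o * a ^ j)) * (a ^ (j + n))⁻¹ = a ^ ((j + n + i) % 4) * o * (a ^ n)⁻¹ := fun n => by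
    rw [← pow_eq_pow_mod _ h2]; group
  have k3 : (j + 0 + i) % 4 = 1 ∨ (j + 1 + i) % 4 = 0 := by
    by_contra k3
    refine h (conj_eq_one.1 ((conj_pow (a := a ^ (j + 0))).symm.trans ?_))
    obtain ⟨n, hn⟩ : ∃ n, (j + 0 + i) % 4 = n * 2 := ⟨(j + 0 + i) % 4 / 2, by omega⟩
    rw [k2, hn, pow_zero, inv_one, mul_one, show 4 = 2 * 2 from rfl, pow_mul (_ * o), sq (_ * o), mul_assoc, ← mul_assoc o,
      ← hb, (c.pow_pow _ _).mul_pow, ← pow_mul, ← pow_mul, show n * 2 * 2 = 4 * n by ring, pow_mul, pow_mul, hb 4, h2, one_pow,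
      mul_one, h1, one_pow, mul_one]
  rcases k3 with k3 | k3
  · exact ⟨_, pow_mem m3 _, by rw [k2, k3]; simp⟩
  · exact ⟨_, pow_mem m3 _, by rw [k2, k3, pow_zero, one_mul, pow_one, ← hi, ← mul_inv_rev, hi]; exact inv_mem (mem_zpowers _)⟩

namespace StJ

variable {z : G} {g l : ℕ → G} {π : centralizer ({z} : Set G) →* PG} {ψ : M24 →* G} (s : StJ z π g l ψ)

include s

theorem card_norm11B {a : ℕ → G} (h0 : ∀ w, lettersLt 15 w = true → evalW a w = eW z g l ψ w) {x : G}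
    (hx : orderOf x = 11) (h : x * a 10 = a 10 * x) : Nat.card (normalizer (zpowers x : Set G)) ∣ 2420 := by
  have : Fact (Nat.Prime 11) := ⟨by norm_num⟩
  rw [show a 10 = l 6 from (mul_one _).symm.trans ((h0 [10] rfl).trans (mul_one _))] at h
  have h1 := s.card_cent_le_of_mem_NV hx (s.cd 64 (by norm_num) (by decide +kernel) (mem_cen.2 (by rw [top_vv_64, h])))
  obtain ⟨m, h2, h3, -⟩ := Syl.exists_automizer hx
  rw [h3, cent_zpowers, (s.card_cent11 hx).resolve_left (by omega)]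
  exact mul_dvd_mul_right h2 242

theorem cn11 {M : Subgroup G} {x : G} (hx : orderOf x = 11) (hM : x ∈ M) {ds : List ℕ}
    (hd : ∀ j, ∀ d ∈ Nat.divisors 240, 11 ^ j ∣ Nat.card M →
      Nat.card ↥(M ⊓ normalizer (zpowers x : Set G)) ∣ 11 ^ j * d → d ∈ ds) :
    MB.anyL (fun q => cnB q q ds (Nat.card M)) [11, 121, 1331] = true := by
  have : Fact (Nat.Prime 11) := ⟨by norm_num⟩
  obtain ⟨P, hP, h0⟩ := exists_isSylIn (p := 11) (IsPGroup.of_card (n := 1) (by rw [Nat.card_zpowers, hx, pow_one]))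
    (zpowers_le.2 hM)
  obtain ⟨U, rfl⟩ := exists_syl11 M hP
  obtain ⟨d, k, h1, h5, h2⟩ := s.count_eleven U hP
  obtain ⟨j, hj⟩ := IsPGroup.iff_card.1 hP.isPGroup
  have h3 : j < 4 := not_le.1 fun h => s.not_dvd_eleven ((pow_dvd_pow 11 h).trans (hj ▸ card_subgroup_dvd_card _))
  have h4 : j ≠ 0 := fun e => by
    simpa only [hj, e, hx, pow_zero, Nat.dvd_one, OfNat.ofNat_ne_one] using orderOf_dvd_natCard _ (h0 (mem_zpowers x))
  have h6 := hd j d (by simp [h1]) (hj ▸ card_dvd_of_le inf_le_left) (hj ▸ h5 ▸ card_dvd_of_le fun y hy => ⟨hy.1,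
    s.ti_syl U y x (h0 (mem_zpowers x)).2 (fun e => by simp [e] at hx)
      (le_normalizer (h0 ((mem_normalizer_iff''.1 hy.2 _).1 (mem_zpowers x))).2)⟩)
  rw [hj] at h2
  refine MB.anyL_iff.2 ⟨11 ^ j, by interval_cases j <;> simp at h4 ⊢, Cn.cnB ⟨d, h6, _, ?_, h2⟩ Nat.card_pos.ne'⟩
  rw [Nat.mul_add_mod]
  exact Nat.mod_eq_of_lt (Nat.one_lt_pow h4 (by norm_num))

theorem cn11_seven {M : Subgroup G} {y : G} (hy : orderOf y = 7) (hM : y ∈ M) : ifD 11 (Nat.card M)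
    (bor (dvB 121 (Nat.card M)) (MB.anyL (fun q => cnB q q [2, 4, 5, 6, 8, 10, 12, 15, 16, 20, 24, 30, 40, 48, 60, 80,
      120, 240] (Nat.card M)) [11, 121, 1331])) = true := by
  have : Fact (Nat.Prime 7) := ⟨by norm_num⟩
  have : Fact (Nat.Prime 11) := ⟨by norm_num⟩
  refine ifD_of fun h => (bor_iff _ _).2 (or_iff_not_imp_left.2 fun h1 => ?_)
  obtain ⟨x, hx⟩ := exists_prime_orderOf_dvd_card' 11 h
  obtain ⟨m, hm⟩ := h
  rw [← orderOf_coe] at hx
  refine s.cn11 hx x.2 fun j d hd h2 h3 => by_contra fun h4 => ?_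
  have h5 : 11 ^ j * d ∣ 11 ^ 1 * 3 := mul_dvd_mul (pow_dvd_pow 11 (not_lt.1 fun e => h1 (dvB_iff.2
    ((pow_dvd_pow 11 e).trans h2)))) (by clear h3; revert d; decide)
  have h6 := dvd_norm_of_central (isSylIn_of_card (p := 11) (k := 1) (m := m) (zpowers_le.2 x.2)
    (by rw [Nat.card_zpowers, hx, pow_one]) (by rw [hm, pow_one]) fun e => h1 (dvB_iff.2 (hm ▸ mul_dvd_mul_left 11 e)))
    (central_of_le fun k hk => mem_cen_of_coprime this.out hx hk.2
      (orderOf_dvd_iff_pow_eq_one.1 (((orderOf_dvd_natCard _ hk).trans h3).trans h5)) (by norm_num)) (by norm_num)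
    (isSylIn_of_sq hM hy (by rw [s.card]; norm_num)) ⟨m, hm⟩
  have h7 := h6.trans (card_dvd_of_le inf_le_right)
  rw [s.card_norm7 hy] at h7
  norm_num at h7

end StJ

end Cfsg.Agent.J4T
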