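import Mathlib
import Cfsg.Agent.J4T.MaxF
import Cfsg.Agent.J4T.HypA
import Cfsg.Agent.J4T.NlA
import Cfsg.Agent.J4T.NlB
import Cfsg.Agent.J4T.NlC
import Cfsg.Agent.J4T.NlD
import Cfsg.Agent.J4T.NlE
import Cfsg.Agent.S5578
import Cfsg.Agent.Cl.USimple
import Cfsg.Agent.Spor.MX.L232Gen
import Cfsg.Agent.Spor.MX.M22Gen
import Cfsg.Agent.Spor.MX.U33Gen
import Cfsg.Agent.Spor.MX.U311Gen

/-!
The maximal subgroups that are not local.
-/

set_option autoImplicit false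

namespace Cfsg.Agent.J4T.StJ

open Cfsg.Agent.Spor Cfsg.Agent.Spor.MB Cfsg.Agent.Spor.J4C Subgroup Cfsg.Agent.Inv.Fz Cfsg.Agent.Rec Cov

variable {G : Type*} [Group G] [Finite G] [IsSimpleGroup G] {z : G} {g l : ℕ → G}
  {π : centralizer ({z} : Set G) →* PG} {ψ : M24 →* G} (s : StJ z π g l ψ)

include s

theorem max23 : ∃ M : Subgroup G, IsCoatom M ∧
    Nonempty (M ≃* GL (Fin 2) (ZMod 23) ⧸ center (GL (Fin 2) (ZMod 23))) := by
  have : Fact (Nat.Prime 11) := ⟨by norm_num⟩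
  have : Fact (Nat.Prime 23) := ⟨by norm_num⟩
  obtain ⟨a, h0, h1, h2, h3, h4⟩ := s.base23
  simp only [q23, r23, List.forall_mem_cons, evalW_powW, evalW_appL, evalW_cons, evalW_nil, mul_one, ← mul_assoc] at h1 h2
  obtain ⟨k1, k2, k3, k4, k5, k6, k7, k8, -⟩ := h1
  obtain ⟨l1, l2, l3, -⟩ := h2
  obtain ⟨H, m1, m2, ⟨φ⟩⟩ := exists_PGL2 S5578.mem_r5 (k := 5) (m := 11) rfl S5578.pow11 k1 k2 k3 k4
    (by simpa only [← mul_assoc] using k5) k6 (by simpa only [← mul_assoc] using l1)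
  have m3 := h3 H (by simp [m1, m2])
  have hH : Nat.card H = 12144 := by
    rw [Nat.card_congr φ.toEquiv]
    exact Cl.L2.card_PGL.trans (by rw [Nat.card_zmod])
  have o1 := orderOf_eq_prime k1 fun e => l1 (by simp [e])
  have o2 : orderOf (a 16) = 11 := orderOf_eq_prime (by rw [k7, ← sq, ← pow_mul, k2]) l2
  have o3 : orderOf (a 20) = 22 := orderOf_eq_of_pow_and_pow_div_prime (by norm_num) k2 fun p hp h => by
    rcases (Nat.Prime.dvd_mul hp (m := 2) (n := 11)).1 h with h | h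
    · rwa [(Nat.prime_dvd_prime_iff_eq hp Nat.prime_two).1 h]
    · rwa [(Nat.prime_dvd_prime_iff_eq hp (by norm_num)).1 h, show 22 / 11 = 2 from rfl, sq, ← k7]
  refine ⟨H, s.coatom_num hH (by norm_num)
    (L := [(2, 17), (3, 2), (5, 1), (7, 1), (11, 2), (29, 1), (31, 1), (37, 1), (43, 1)]) (by simp; norm_num) (by norm_num)
    (E := fun m => band (cnB 23 23 [22] m) (bor (Spor.allL [31] fun q => dvB q m) (ixB 11 12144 m)))
    (fun M hM => (band_iff _ _).2 ⟨?_, h4.ix (by simp [m1, m2, m3]) hH hM o2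
      (Nat.le_of_dvd (by norm_num) (s.card_norm11B h0 o2 k8)) (by norm_num) (by simp; norm_num)⟩) (by decide +kernel), ⟨φ⟩⟩
  exact cn_elt (e := 22) (d0 := 22) (by rw [s.card]; norm_num) o1
    (s.syl23 (isSylIn_of_sq (mem_top _) o1 (by rw [s.card]; norm_num)).toSylowTop).2 (hM m1)
    (Nat.Coprime.mul_dvd_of_dvd_of_dvd (by norm_num) (o1 ▸ orderOf_dvd_natCard _ ⟨hM m1, le_normalizer (mem_zpowers _)⟩)
      (o3 ▸ orderOf_dvd_natCard _ ⟨hM (m3 _ (by simp)), mem_norm_of k4⟩)) (by decide)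

theorem max32 : ∃ M : Subgroup G, IsCoatom M ∧ ∃ K : Subgroup M, K.Normal ∧ K.index = 5 ∧
    Nonempty (K ≃* Matrix.ProjectiveSpecialLinearGroup (Fin 2) Cl.GF32) := by
  have : Fact (Nat.Prime 5) := ⟨by norm_num⟩
  have : Fact (Nat.Prime 11) := ⟨by norm_num⟩
  have : Fact (Nat.Prime 31) := ⟨by norm_num⟩
  have : IsSimpleGroup (Matrix.ProjectiveSpecialLinearGroup (Fin 2) Cl.GF32) :=
    Cl.psl_fin_isSimpleGroup le_rfl fun _ => by rw [Cl.natCard_GF32]; norm_num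
  obtain ⟨a, -, h1, h2, h3, h4, h5⟩ := s.base32
  have h6 := mem_norm_words h1 (y := 19) (ix := [15, 16, 17, 18]) (by decide +kernel)
  simp only [q32, r32, List.forall_mem_cons, evalW_powW, evalW_appL, evalW_cons, evalW_nil, mul_one, ← mul_assoc,
    ← sq] at h1 h2
  obtain ⟨k1, k2, k3, k4, k5, k6, k7, -, -, -, k8, -⟩ := h1
  obtain ⟨l1, l2, l3, l4, -⟩ := h2
  obtain ⟨c1, ⟨φ⟩⟩ := exists_model MX.l32m_gen (MX.l32p_bnd (wp_rels _)) h4 rfl (i := 0) (by norm_num) l2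
  have o1 := orderOf_eq_prime k1 l1
  have o2 := orderOf_eq_prime k2 l2
  have o3 := orderOf_eq_prime k3 l3
  have o4 := orderOf_eq_prime k4 l4
  obtain ⟨c2, c3, c4⟩ := exists_ext k1 (fun h => absurd (c1 ▸ o1 ▸ orderOf_dvd_natCard _ h) (by norm_num)) h6
  rw [c1] at c2
  set H := zpowers (a 19) ⊔ clos ([15, 16, 17, 18].map a)
  have m1 : ∀ i ∈ [19, 15, 16, 17, 18], a i ∈ H := List.forall_mem_cons.2 ⟨mem_sup_left (mem_zpowers _),
    fun i hi => mem_sup_right (mem_clos (List.mem_map_of_mem hi))⟩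
  have m2 := h3 H (fun i hi => m1 i (by revert i; decide)) 26 (by simp)
  simp only [List.forall_mem_cons] at m1
  refine ⟨H, s.coatom_num c2 (by norm_num)
    (L := [(2, 16), (3, 2), (7, 1), (11, 2), (23, 1), (29, 1), (37, 1), (43, 1)]) (by simp; norm_num) (by norm_num)
    (E := fun m => band (cnB 31 31 [10] m) (band (MB.anyL (fun q => cnB q q [5, 10, 15, 20, 30, 40, 60, 80, 120, 240] m)
      [11, 121, 1331]) (bor (Spor.allL [23] fun q => dvB q m) (ixB 5 (5 * 32736) m))))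
    (fun M hM => (band_iff _ _).2 ⟨?_, (band_iff _ _).2 ⟨s.cn11 o4 (hM m2) fun j d hd _ h => ?_, h5.ix (by simp [m1, k8])
      c2 hM o1 (s.card_norm5 o1).le (by norm_num) (by simp; norm_num)⟩⟩) (by decide +kernel),
    _, c3, c4, ⟨(subgroupOfEquivOfLe le_sup_right).trans φ⟩⟩
  · exact cn_elt (e := 10) (d0 := 2 * 5) (by rw [s.card]; norm_num) o2
      (s.syl31 (isSylIn_of_sq (mem_top _) o2 (by rw [s.card]; norm_num)).toSylowTop).2 (hM m1.2.1)
      (Nat.Coprime.mul_dvd_of_dvd_of_dvd (by norm_num)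
        (o2 ▸ orderOf_dvd_natCard _ ⟨hM m1.2.1, le_normalizer (mem_zpowers _)⟩)
        (Nat.Coprime.mul_dvd_of_dvd_of_dvd (by norm_num) (o3 ▸ orderOf_dvd_natCard _ ⟨hM m1.2.2.2.2.1, mem_norm_of k5⟩)
          (o1 ▸ orderOf_dvd_natCard _ ⟨hM m1.1, mem_norm_of k7⟩))) (by decide)
  · have h7 := (Nat.Coprime.pow_right j (by norm_num : Nat.Coprime 5 11)).dvd_of_dvd_mul_left
      ((o1 ▸ orderOf_dvd_natCard _ (mem_inf.2 ⟨hM m1.1, mem_norm_of k6⟩)).trans h)
    clear h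
    revert d
    decide

omit [IsSimpleGroup G] in
theorem cn37 {M : Subgroup G} {x y : G} (hx : orderOf x = 37) (hy : orderOf y = 2) (h1 : x ∈ M) (h2 : y ∈ M)
    (h3 : y ∈ normalizer (zpowers x : Set G)) : cnB 37 37 [2, 4, 6, 12] (Nat.card M) = true :=
  have : Fact (Nat.Prime 37) := ⟨by norm_num⟩
  cn_elt (e := 12) (d0 := 2) (by rw [s.card]; norm_num) hx
    (s.syl37 (isSylIn_of_sq (mem_top _) hx (by rw [s.card]; norm_num)).toSylowTop).2 h1
    (Nat.Coprime.mul_dvd_of_dvd_of_dvd (by norm_num) (hx ▸ orderOf_dvd_natCard _ ⟨h1, le_normalizer (mem_zpowers _)⟩)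
      (hy ▸ orderOf_dvd_natCard _ ⟨h2, h3⟩)) (by decide)

omit [IsSimpleGroup G] in
theorem cn23 {M : Subgroup G} (h2 : 37 ∣ Nat.card M) (h1 : 23 ∣ Nat.card M) :
    cnB 23 23 [2, 11, 22] (Nat.card M) = true := by
  have : Fact (Nat.Prime 37) := ⟨by norm_num⟩
  have : Fact (Nat.Prime 23) := ⟨by norm_num⟩
  obtain ⟨x, hx⟩ := exists_prime_orderOf_dvd_card' 23 h1
  rw [← orderOf_coe] at hx
  have h3 : ¬ 23 * 23 ∣ Nat.card G := by rw [s.card]; norm_num
  obtain ⟨d, n, k1, k2, k3⟩ := exists_count (isSylIn_of_sq x.2 hx h3)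
  have k4 := card_dvd_of_le (inf_le_right : M ⊓ normalizer (zpowers (x : G) : Set G) ≤ _)
  rw [k1, show Nat.card (normalizer (zpowers (x : G) : Set G)) = _ from
    (s.syl23 (isSylIn_of_sq (mem_top _) hx h3).toSylowTop).2, Nat.card_zpowers, hx,
    Nat.mul_dvd_mul_iff_left (by norm_num)] at k4
  refine Cn.cnB ⟨d, (by decide : ∀ d ∈ Nat.divisors 22, d ≠ 1 → d ∈ [2, 11, 22]) d (by simp [k4]) fun e => ?_, n, k2,
    by rwa [Nat.card_zpowers, hx] at k3⟩ Nat.card_pos.ne'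
  rw [e, mul_one] at k1
  have k5 := eq_of_le_of_card_ge (le_inf (zpowers_le.2 x.2) le_normalizer) k1.le
  have k6 := not_dvd_of_central h3 (by rw [s.card]; norm_num) (fun U => (s.syl37 U).2) (by norm_num) hx x.2
    (k5 ▸ zpowers_le.2 (mem_cen.2 rfl)) (by norm_num)
  rw [dvB_iff.2 h2] at k6
  exact absurd k6 (by simp)

theorem max11u : ∃ M : Subgroup G, IsCoatom M ∧ ∃ K : Subgroup M, K.Normal ∧ K.index = 2 ∧
    Nonempty (K ≃* PSU 3 Cl.GF121 11) := by
  have : Fact (Nat.Prime 5) := ⟨by norm_num⟩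
  have : Fact (Nat.Prime 37) := ⟨by norm_num⟩
  have : IsSimpleGroup (PSU 3 Cl.GF121 11) :=
    (Cl.uField_uConj (q := 11) Cl.card_GF121).isSimpleGroup_PSU le_rfl (by norm_num)
  obtain ⟨a, -, h1, h2, h3, h4, h5⟩ := s.base11u
  have h6 := mem_norm_words h1 (y := 20) (ix := [15, 16, 17, 18, 19]) (by decide +kernel)
  simp only [q11u, r11u, List.forall_mem_cons, evalW_powW, evalW_appL, evalW_cons, evalW_nil, mul_one, ← sq] at h1 h2
  obtain ⟨k1, k2, k3, k4, k5, -⟩ := h1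
  obtain ⟨l1, l2, l3, l4, -⟩ := h2
  obtain ⟨c1, ⟨φ⟩⟩ := exists_model MX.u3m_gen (MX.u311_bnd (wp_rels _)) h4 rfl (i := 4) (by norm_num) l4
  have o1 := orderOf_eq_prime k4 l3
  have h7 : ∀ M : Subgroup G, clos ([15, 16, 17, 18, 19].map a) ≤ M → a 20 ∈ M →
      (∀ i ∈ [21, 15, 16, 17, 18, 19, 20], a i ∈ M) ∧ cnB 37 37 [2, 4, 6, 12] (Nat.card M) = true := fun M m1 m2 => by
    have m3 : ∀ i ∈ [15, 16, 17, 18, 19, 20], a i ∈ M := by simpa [m2] using clos_le.1 m1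
    have m4 := h3 M m3
    exact ⟨List.forall_mem_cons.2 ⟨m4 _ (by simp), m3⟩, s.cn37 (orderOf_eq_prime k2 l1)
      (orderOf_eq_prime (by rw [← pow_mul, k3]) l2) (m4 _ (by simp)) (pow_mem (m4 _ (by simp)) 3)
      (pow_mem (mem_norm_of k5) 3)⟩
  obtain ⟨c2, c3, c4⟩ := exists_ext k1 (fun h => absurd (c1 ▸ (h7 _ le_rfl h).2) (by decide +kernel)) h6
  rw [c1] at c2
  exact ⟨_, s.coatom_num c2 (by norm_num)
    (L := [(2, 15), (3, 1), (7, 1), (23, 1), (29, 1), (31, 1), (43, 1)]) (by simp; norm_num) (by norm_num)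
    (E := fun m => band (cnB 37 37 [2, 4, 6, 12] m) (band (ifD 23 m (cnB 23 23 [2, 11, 22] m))
      (bor (Spor.allL [23, 31] fun q => dvB q m) (ixB 5 (2 * 70915680) m))))
    (fun M hM => (band_iff _ _).2 ⟨(h7 M (le_sup_right.trans hM) (hM (mem_sup_left (mem_zpowers _)))).2,
      (band_iff _ _).2 ⟨ifD_of (s.cn23 (dvd_trans (by rw [c2]; norm_num) (card_dvd_of_le hM))),
      h5.ix (h7 _ le_sup_right (mem_sup_left (mem_zpowers _))).1 c2 hM o1 (s.card_norm5 o1).le (by norm_num)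
        (by simp; norm_num)⟩⟩) (by decide +kernel), _, c3, c4, ⟨(subgroupOfEquivOfLe le_sup_right).trans φ⟩⟩

theorem max22 : ∃ M : Subgroup G, IsCoatom M ∧ Nonempty (M ≃* MulAut Cfsg.Spor.M22) := by
  have : Fact (Nat.Prime 7) := ⟨by norm_num⟩
  have : Fact (Nat.Prime 11) := ⟨by norm_num⟩
  have := Golay.simple_M22
  obtain ⟨a, h0, h1, h2, h3, h4, h5, h6⟩ := s.base22
  have h7 := mem_norm_words h1 (y := 20) (ix := [15, 16, 17, 18, 19]) (by decide +kernel)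
  simp only [q22, r22, List.forall_mem_cons, evalW_powW, evalW_appL, evalW_cons, evalW_nil, mul_one] at h1 h2
  obtain ⟨k1, k2, -, k3, -, k4, k5, -⟩ := h1
  obtain ⟨l1, -, l2, -⟩ := h2
  obtain ⟨g₀, -, hg⟩ := MX.m22_gen
  obtain ⟨c1, ⟨φ⟩⟩ := exists_model hg (MX.m22_bnd (wp_rels _)) h4 rfl (i := 0) (by norm_num) l1
  set K := clos ([15, 16, 17, 18, 19].map a)
  have o1 := orderOf_eq_prime k2 l1
  have o2 := orderOf_eq_prime k3 l2
  have n1 := s.card_norm11B h0 o1 k5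
  have m0 : ∀ i ∈ [15, 16, 17, 18, 19], a i ∈ K := fun i hi => mem_clos (List.mem_map_of_mem hi)
  have h8 : ∀ k ∈ K, k * a 15 ≠ a 15 ^ 10 * k := fun k hk e => by
    obtain ⟨d, n, e1, e2, e3⟩ := exists_count (isSylIn_of_card (p := 11) (k := 1) (m := 40320)
      (zpowers_le.2 (m0 15 (by simp))) (by rw [Nat.card_zpowers, o1, pow_one]) c1 (by norm_num))
    have e4 := (card_dvd_of_le (inf_le_right (a := K))).trans n1
    have e5 := orderOf_dvd_natCard _ (mem_inf.2 ⟨hk, mem_norm_of e⟩)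
    rw [e1, Nat.card_zpowers, o1] at e4 e5
    rw [c1, Nat.card_zpowers, o1] at e3
    obtain rfl : d = 5 := by
      have e6 : d * n = 40320 := by linarith
      have e7 := congrArg (· % 11) e6
      simp only [Nat.mul_mod d, e2, mul_one, Nat.mod_mod] at e7
      exact (by decide : ∀ d ∈ Nat.divisors 20, d % 11 = 5 → d = 5) d (Nat.mem_divisors.2 ⟨Nat.dvd_gcd (n := 40320)
        (Nat.dvd_of_mul_dvd_mul_left (by norm_num) e4 : d ∣ 220) ⟨n, e6.symm⟩, by norm_num⟩) e7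
    have e6 : Commute (k ^ 2) (a 15) := by
      have e7 := (SemiconjBy.pow_right e 10).eq
      rw [Commute, SemiconjBy, sq, mul_assoc, e, ← mul_assoc, e7, ← pow_mul, pow_eq_pow_mod _ k2, pow_one, mul_assoc]
    have e7 := (e6.pow_left 28).eq
    rw [← pow_mul, pow_succ, orderOf_dvd_iff_pow_eq_one.1 e5, one_mul, e, mul_left_inj, pow_succ, mul_eq_right,
      ← orderOf_dvd_iff_pow_eq_one, o1] at e7
    norm_num at e7
  obtain ⟨c2, -⟩ := exists_ext (p := 2) (by rw [sq, k1]) (fun h => h8 _ h k4) h7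
  rw [c1] at c2
  have m1 : ∀ i ∈ [15, 16, 17, 18, 19, 20], a i ∈ zpowers (a 20) ⊔ K := by
    simpa [mem_sup_left (mem_zpowers (a 20))] using fun i hi => mem_sup_right (S := zpowers (a 20)) (m0 i hi)
  have h9 : Function.Injective (K.normalizerMonoidHom.comp (inclusion (sup_le (zpowers_le.2 h7) le_normalizer))) := by
    refine (injective_iff_map_eq_one _).2 fun ⟨y, hy⟩ e => Subtype.ext ?_
    have e1 : ∀ x ∈ K, x * y = y * x := by
      rwa [MonoidHom.comp_apply, ← MonoidHom.mem_ker, normalizerMonoidHom_ker, mem_subgroupOf] at e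
    obtain ⟨k, hk, v, hv, rfl⟩ := (GT.HT.mem_sup_of_le_normalizer (zpowers_le.2 h7)).1 (by rwa [sup_comm])
    by_cases e2 : v = 1
    · rw [e2, mul_one] at e1
      have e3 : φ ⟨k, hk⟩ = 1 := mem_bot.1 (HypA.center_M22 ▸ mem_center_iff.2 fun x => by
        rw [← φ.apply_symm_apply x, ← map_mul, ← map_mul]
        exact congrArg φ (Subtype.ext (e1 _ (φ.symm x).2)))
      exact (congrArg (k * ·) e2).trans ((mul_one k).trans (congrArg Subtype.val (φ.map_eq_one_iff.1 e3)))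
    · have e3 := e1 _ (m0 15 (by simp))
      rw [eq_of_mem_zpowers_two k1 hv e2, mul_assoc, k4, ← mul_assoc, ← mul_assoc, mul_left_inj] at e3
      exact absurd (by rw [inv_mul_eq_iff_eq_mul, ← mul_assoc, ← e3, mul_inv_cancel_right]) (h8 _ (inv_mem hk))
  exact ⟨_, s.coatom_num c2 (by norm_num)
    (L := [(2, 13), (3, 1), (11, 2), (23, 1), (29, 1), (31, 1), (37, 1), (43, 1)]) (by simp; norm_num) (by norm_num)
    (E := fun m => band (bor (Spor.allL [29, 31] fun q => dvB q m) (ixB 7 (2 * 443520) m))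
      (bor (Spor.allL [29, 31] fun q => dvB q m) (ixB 11 (2 * 443520) m)))
    (fun M hM => (band_iff _ _).2 ⟨h5.ix (List.forall_mem_cons.2 ⟨h3 _ m1 _ (by simp), m1⟩) c2 hM o2 (s.card_norm7 o2).le
      (by norm_num) (by simp; norm_num), h6.ix (List.forall_mem_cons.2 ⟨m1 _ (by simp), m1⟩) c2 hM o1
      (Nat.le_of_dvd (by norm_num) n1) (by norm_num) (by simp; norm_num)⟩) (by decide +kernel),
    ⟨(MulEquiv.ofBijective _ (h9.bijective_of_nat_card_le (by
      rw [c2, Nat.card_congr (MulAut.congr φ).toEquiv, HypA.card_aut]))).trans (MulAut.congr φ)⟩⟩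

theorem max33 : ∃ M : Subgroup G, IsCoatom M ∧ Nonempty (M ≃* PSU 3 Cl.GF9 3) := by
  have : Fact (Nat.Prime 7) := ⟨by norm_num⟩
  have : IsSimpleGroup (PSU 3 Cl.GF9 3) := (Cl.uField_uConj (q := 3) Cl.card_GF9).isSimpleGroup_PSU le_rfl (by norm_num)
  obtain ⟨a, h0, h1, h2, h3, h4, h5, h6⟩ := s.base33
  simp only [q33, List.forall_mem_cons] at h1
  obtain ⟨k0, h1⟩ := h1
  have hv : ∀ {w c}, band (lettersLt 15 w) (wOK w c) = true → evalW a [15] = evalW a w →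
      okH c ∧ a 15 = valH ψ (ZG z g l) c := fun h k => ⟨(s.t.m.eW_eq ((band_iff _ _).1 h).2).1, by
    rw [← (s.t.m.eW_eq ((band_iff _ _).1 h).2).2, ← h0 _ ((band_iff _ _).1 h).1, ← k, evalW_cons, evalW_nil, mul_one]⟩
  obtain ⟨e1, k0⟩ := hv (c := 0x9d4000ad1569a0d08b1a418640715e758ae9) (by decide +kernel) k0
  simp only [r33, List.forall_mem_cons, evalW_powW, evalW_cons, evalW_nil, mul_one] at h1 h2
  obtain ⟨k1, k2, k3, k4, k5, -⟩ := h1
  obtain ⟨l1, l2, l3, -⟩ := h2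
  obtain ⟨o1, n1⟩ := s.x.card_norm_eight (x := a 15) (k0 ▸ s.t.m.rp_of_rpH (by decide +kernel)) (by
    rw [k0, ← (s.t.m.zs.valH_mul e1 e1).2, ← (s.t.m.valH_qH 3185).2]
    exact congrArg _ (by decide +kernel))
  obtain ⟨c1, φ⟩ := exists_model MX.u33m_gen (MX.u33p_bnd (wp_rels _)) h4 rfl (i := 4) (by norm_num) l3
  set H := clos ([15, 16, 17, 18, 19].map a)
  have m0 : ∀ i ∈ [15, 16, 17, 18, 19], a i ∈ H := fun i hi => mem_clos (List.mem_map_of_mem hi)
  have m1 := h3 H m0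
  have o2 := orderOf_eq_prime k5 l2
  obtain ⟨T, t1, t2, t3, t4⟩ := exists_wreath k2 k3 (by simpa only [mul_assoc] using k4) (by simpa only [mul_assoc] using l1)
  rw [← k1] at t2 t4
  have t5 : T ≤ H := t1.trans (clos_le.2 (by simp [m1]))
  refine ⟨H, s.coatom_num c1 (by norm_num)
    (L := [(2, 16), (5, 1), (11, 3), (23, 1), (29, 1), (31, 1), (37, 1), (43, 1)]) (by simp; norm_num) (by norm_num)
    (E := fun m => band (bor (Spor.allL [29, 43] fun q => dvB q m) (ixB 7 6048 m))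
      (band (bor (Spor.allL [29, 43] fun q => dvB q m) (!dvB 64 m)) (band (ifD 11 m (bor (dvB 121 m) (MB.anyL (fun q =>
        cnB q q [2, 4, 5, 6, 8, 10, 12, 15, 16, 20, 24, 30, 40, 48, 60, 80, 120, 240] m) [11, 121, 1331])))
        (ifD 43 m (ifD 37 m (cnB 43 43 [2, 7, 14] m))))))
    (fun M hM => (band_iff _ _).2 ⟨h5.ix (List.forall_mem_cons.2 ⟨m1 _ (by simp), m0⟩) c1 hM o2 (s.card_norm7 o2).le
      (by norm_num) (by simp; norm_num), (band_iff _ _).2 ⟨(bor_iff _ _).2 ((h6 H M m0 hM n1).imp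
        (fun h => (Spor.allL_iff _ _).2 fun q hq => dvB_iff.2 (h q hq (by revert q; simp; norm_num))) fun h => ?_),
      (band_iff _ _).2 ⟨s.cn11_seven o2 (hM (m1 _ (by simp))), ifD_of fun h => ifD_of (s.cn43 h)⟩⟩⟩) (by decide +kernel), φ⟩
  have h7 := isSylIn_of_normalizer (isSylIn_of_card (p := 2) (m := 189) t5 t3 c1 (by norm_num)) (t5.trans hM)
    fun y y1 y2 => by
      obtain ⟨t, e3, e4⟩ := t4 _ (conj_mem_of_mem_norm y2 t2) fun e => by
        rw [conj_pow, conj_eq_one, ← orderOf_dvd_iff_pow_eq_one, o1] at e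
        norm_num at e
      exact (mul_mem_cancel_left (t5 e3)).1 (h ⟨mul_mem (hM (t5 e3)) y1, mem_normalizer_zpowers_iff.2
        (by rwa [mul_inv_rev, ← mul_assoc, mul_assoc t, mul_assoc t])⟩)
  rw [Bool.not_eq_true', ← Bool.not_eq_true, dvB_iff, ← card_mul_relIndex h7.le, t3]
  exact fun h => h7.not_dvd_relIndex (Nat.dvd_of_mul_dvd_mul_left (by norm_num : 0 < 2 ^ 5) h)

end Cfsg.Agent.J4T.StJ
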