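import Mathlib
import Cfsg.Agent.J4T.Mx
import Cfsg.Agent.Spor.MB.Fam
import Cfsg.Agent.Spor.J4.CzA

/-!
The elementary abelian subgroup `A` of order `2 ^ 10` attached to an octad, its centraliser and its normaliser in
the normaliser of `V`.
-/

set_option autoImplicit false
set_option linter.unusedSectionVars false

namespace Cfsg.Agent.J4T

open Cfsg.Agent.Spor Cfsg.Agent.Spor.MB Cfsg.Agent.Spor.J4C Cfsg.Agent.Inv.Fz Subgroup Split MulAction
open scoped Pointwise

variable {G : Type*} [Group G]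

/-- The positions of the bits of `x` below `n`. -/
def bitsW (x : ℕ) : ℕ → List ℕ
  | 0 => []
  | n + 1 => bitsW x n ++ if x.testBit n then [n] else []

theorem evalW_bitsW (g : ℕ → G) (x n : ℕ) : evalW g (bitsW x n) = gp g x n := by
  induction n with
  | zero => rfl
  | succ n ih =>
    rw [bitsW, evalW_append, ih, gp_succ]
    split_ifs <;> simp

theorem lettersLt_bitsW (x n : ℕ) : lettersLt n (bitsW x n) = true := by
  rw [lettersLt_iff]
  induction n with
  | zero => simp [bitsW]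
  | succ n ih =>
    intro y hy
    rw [bitsW, List.mem_append] at hy
    rcases hy with hy | hy
    · exact (ih y hy).trans (Nat.lt_succ_self n)
    · split_ifs at hy <;> simp_all

theorem linV_lt_pow {t : ℕ → ℕ} {k : ℕ} (h : ∀ j, t j < 2 ^ k) (x n : ℕ) : linV t x n < 2 ^ k := by
  induction n with
  | zero => exact Nat.two_pow_pos k
  | succ n ih =>
    rw [linV]
    split_ifs
    exacts [Nat.xor_lt_two_pow ih (h n), ih]

/-- Conjugation acts linearly on the coordinates of an elementary abelian group. -/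
theorem conj_gp {a : ℕ → G} {m : ℕ} (h1 : ∀ i < m, a i * a i = 1) (h2 : ∀ i < m, ∀ j < m, a i * a j = a j * a i)
    {n : G} {t : ℕ → ℕ} (h : ∀ j < m, n * a j * n⁻¹ = gp a (t j) m) (x : ℕ) :
    n * gp a x m * n⁻¹ = gp a (linV t x m) m := by
  have key : ∀ k ≤ m, n * gp a x k * n⁻¹ = gp a (linV t x k) m := fun k hk => by
    induction k with
    | zero => rw [linV, gp_zero, gp_nil, mul_one, mul_inv_cancel]
    | succ k ih =>
      rw [gp_succ, linV]
      split_ifs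
      · rw [gp_xor h1 h2, ← ih (by omega), ← h k (by omega)]; group
      · rw [mul_one, ih (by omega)]
  exact key m le_rfl

theorem ncard_conj_mul (N : Subgroup G) (x : G) :
    {v : G | ∃ n ∈ N, n * x * n⁻¹ = v}.ncard * Nat.card ↥(N ⊓ centralizer ({x} : Set G)) = Nat.card N := by
  have h := ncard_cls N x
  rw [← inf_relIndex_right, inf_comm] at h
  rw [mul_comm, ← card_mul_relIndex (inf_le_left : N ⊓ centralizer ({x} : Set G) ≤ N), ← h]
  rfl

theorem ap_land {m i : ℕ} (h : ap m i = 31) (c : ℕ) : ap (Nat.land c m) i = ap c i := by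
  unfold ap at *
  simp only [Nat.land_eq, Nat.shiftRight_eq] at *
  rw [Nat.shiftRight_and_distrib, Nat.and_assoc, h]

namespace Ten

/-- The `V`-codes of six duads of the octad. -/
def b6 (k : ℕ) : ℕ := List.getD [1871, 278, 265, 1516, 1068, 494] k 0

/-- Their span. -/
def s6 (j : ℕ) : ℕ := linV b6 j 6

/-- Membership in the span. -/
def in6 (x : ℕ) : Bool := Nat.beq (Nat.land (Nat.shiftRight (nat_lit 0x80010002000040400000020001800000000000000000000000000000000000400000020001800000800100020000400000000000000000000810002000000400000000000000000000000000000000040000200010080004000020001008000000000000000000000000000000000000081000200000040000000000000000002004000800001010000008000420000000000000000000000000000000000010000008000420000020040008000010000000000000000000024000800000010000000000000000000000000000000001000080004002000100008000400200000000000000000000000000000000000002400080000001) x) 1) 1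

/-- Generators of the pointwise stabiliser of the octad. -/
def gE (k : ℕ) : ℕ := List.getD gE0 k idc

/-- Its elements. -/
noncomputable def eE (j : ℕ) : ℕ := J4C.evC gE (bitsW j 4)

/-- The restriction of a permutation to the octad. -/
def key (c : ℕ) : ℕ := Nat.land c (nat_lit 0xf8000003e007c0000000003e0fffff)

/-- The generators of `A`. -/
noncomputable def aG (z : G) (g l : ℕ → G) (ψ : M24 →* G) (k : ℕ) : G :=
  if k < 6 then vv z g l (b6 k) else valN ψ (gE (k - 6))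

theorem gE_ok : ∀ k < 4, inM24 (gE k) = true := by decide +kernel

theorem gE_comm : ∀ i < 4, mul (gE i) (gE i) = idc ∧ (∀ j < 4, mul (gE i) (gE j) = mul (gE j) (gE i)) ∧
    ∀ j < 6, va (gE i) (b6 j) = b6 j := by decide +kernel

theorem b6_lt (k : ℕ) : b6 k < 2 ^ 11 := by
  by_cases h : k < 6
  · interval_cases k <;> decide
  · rw [b6, List.getD_eq_default _ _ (by simpa using h)]; norm_num

theorem s6_lt (j : ℕ) : s6 j < 2048 := linV_lt_pow b6_lt j 6

theorem eE_ok : ∀ j < 16, inM24 (eE j) = true ∧ key (eE j) = key idc := by decide +kernel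

theorem s6_ok : ∀ x < 1024, in6 (s6 x) = true ∧ x >>> 6 < 16 ∧ (s6 x = 0 → eE (x >>> 6) = idc → x = 0) := by
  decide +kernel

theorem in6_ok : ∀ x < 2048, in6 x = true → ∃ j < 64, s6 j = x := by decide +kernel

theorem in6_pair : ∀ i < 24, ∀ j < 24, i ≠ j →
    (in6 (lamP i ^^^ lamP j) = true ↔ Nat.testBit 8536111 i = true ∧ Nat.testBit 8536111 j = true) := by
  decide +kernel

theorem fix_two {x : ℕ} (hx : x < 2048) (h0 : va (gE 0) x = x) (h1 : va (gE 1) x = x) : in6 x = true := by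
  have h := allRange_zero (len := 2048) (f := fun x => bor (!Nat.beq (va (gE 0) x) x)
    (bor (!Nat.beq (va (gE 1) x) x) (in6 x))) (by decide +kernel) x hx
  rw [h0, h1, (nbeq_iff x x).2 rfl] at h
  exact h

theorem apply_eq_of_key {a b : PG} (h : key (code a) = key (code b)) {p : GolayPt} (hp : p ∈ O0) : a p = b p := by
  have e : ∀ i < 24, Nat.testBit 8536111 i = true → ap (nat_lit 0xf8000003e007c0000000003e0fffff) i = 31 := by
    decide +kernel
  have k := ap_land (e _ (ix_lt p) (mem_unmask.1 hp))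
  refine ix_injective ?_
  rw [← ap_code_ix, ← ap_code_ix, ← k, ← k (code b)]
  exact congrArg (ap · (ix p)) h

theorem mem_Fix_of_key {a : PG} (ha : a ∈ M24) (h : key (code a) = key idc) : a ∈ Golay.Fix O0 :=
  Golay.mem_Fix.2 ⟨ha, fun _ hp => apply_eq_of_key (b := 1) (by rwa [code_one]) hp⟩

theorem exists_two {p : GolayPt} : ∃ q ∈ O0, ∃ r ∈ O0, q ≠ p ∧ r ≠ p ∧ q ≠ r := by
  have h : 1 < (O0.erase p).card := by
    have := Finset.pred_card_le_card_erase (s := O0) (a := p)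
    rw [(mem_octads.1 O0_mem).2] at this
    omega
  obtain ⟨q, hq, r, hr, e⟩ := Finset.one_lt_card.1 h
  rw [Finset.mem_erase] at hq hr
  exact ⟨q, hq.2, r, hr.2, hq.1, hr.1, e⟩

theorem card_stab_duad : Nat.card ↥(M24 ⊓ stabilizer PG O0 ⊓ stabilizer PG (unmask 3)) ≤ 11520 := by
  have h := mul_card_inf_le (setM.le_ncard_orbit inf_le_left gens_gO0 (setM_R (m := 3) (by norm_num)) 28 30
    0x111111201111112001111112111111 (by decide +kernel))
  rw [card_stab_octad O0_mem] at h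
  exact Nat.le_of_mul_le_mul_left (h.trans_eq (by norm_num : 322560 = 28 * 11520)) (by norm_num)

end Ten

open Ten

/-- The elementary abelian subgroup of order `2 ^ 10`. -/
noncomputable def AG (z : G) (g l : ℕ → G) (ψ : M24 →* G) : Subgroup G := genLt (aG z g l ψ) 10

/-- Its elements. -/
noncomputable def av (z : G) (g l : ℕ → G) (ψ : M24 →* G) (x : ℕ) : G := gp (aG z g l ψ) x 10

namespace StM

variable [Finite G] {z : G} {g l : ℕ → G} {π : centralizer ({z} : Set G) →* PG} {ψ : M24 →* G} (s : StM z π g l ψ)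

include s

theorem conj_vvN {c : ℕ} (hc : okN c) {x : ℕ} (hx : x < 2048) :
    valN ψ c * vv z g l x * (valN ψ c)⁻¹ = vv z g l (va c x) := by
  obtain ⟨y, hy, rfl⟩ := hc
  rw [valN_coe ψ ⟨y, hy⟩]
  exact s.conj_vv ⟨y, hy⟩ hx

theorem gp_vv (b : ℕ → ℕ) (x n : ℕ) : gp (fun k => vv z g l (b k)) x n = vv z g l (linV b x n) := by
  induction n with
  | zero => rw [gp_nil, linV, s.o.x.vv_zero]
  | succ n ih =>
    rw [gp_succ, linV, ih]
    split_ifs
    · rw [s.o.x.vv_xor]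
    · rw [mul_one]

theorem conj_Z (a : ℕ) (y : M24) {u : Finset GolayPt} (hu : Even u.card) :
    vv z g l a * ψ y * ZG z g l u * (vv z g l a * ψ y)⁻¹ = ZG z g l ((y : PG) • u) := by
  rw [show vv z g l a * ψ y * ZG z g l u * (vv z g l a * ψ y)⁻¹ =
    vv z g l a * (ψ y * ZG z g l u * (ψ y)⁻¹) * (vv z g l a)⁻¹ by group, s.top_psi_conj y hu, ZG, s.vv_comm,
    mul_inv_cancel_right]

theorem smul_of_comm {a : ℕ} {y : M24} {u : Finset GolayPt} (hu : u.card = 2)
    (h : vv z g l a * ψ y * ZG z g l u = ZG z g l u * (vv z g l a * ψ y)) : (y : PG) • u = u := by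
  rw [← mul_inv_eq_iff_eq_mul, s.conj_Z a y (even_of_two hu)] at h
  exact duad_inj (by rw [Finset.card_smul_finset, hu]) hu (s.o.Z_inj h)

/-- The image in `M24` of a subgroup of the normaliser of `V`. -/
theorem exists_img {F : Subgroup G} (hF : F ≤ normalizer (VG z g l : Set G)) : ∃ E : Subgroup PG, E ≤ M24 ∧
    (∀ y : M24, (y : PG) ∈ E ↔ ∃ x < 2048, vv z g l x * ψ y ∈ F) ∧
    Nat.card F = Nat.card ↥(F ⊓ VG z g l) * Nat.card E := by
  obtain ⟨σ, h⟩ := s.exists_fr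
  obtain ⟨E, h1, h2⟩ := h.exists_image hF
  have e : ∀ x (y : M24), σ (vv z g l x * ψ y) = y := fun x y => by
    have k := le_normalizer (s.vv_mem x)
    rw [h.hom _ k _ (h.psi y).1, (h.ker _ k).2 (s.vv_mem x), one_mul, (h.psi y).2]
  refine ⟨E, fun x hx => ?_, fun y => (h1 y).trans ⟨?_, ?_⟩, h2⟩
  · obtain ⟨a, -, rfl⟩ := (h1 x).1 hx
    exact h.m24 a
  · rintro ⟨a, ha, k⟩
    obtain ⟨x, hx, y', rfl⟩ := s.mem_N.1 (hF ha)
    rw [e] at k
    exact ⟨x, hx, Subtype.ext k ▸ ha⟩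
  · rintro ⟨x, -, k⟩
    exact ⟨_, k, e x y⟩

theorem aG_lo {k : ℕ} (hk : k < 6) : aG z g l ψ k = vv z g l (b6 k) := if_pos hk

theorem aG_hi (k : ℕ) : aG z g l ψ (k + 6) = valN ψ (gE k) := if_neg (by omega)

theorem aG_sq : ∀ i < 10, aG z g l ψ i * aG z g l ψ i = 1 := fun i hi => by
  by_cases h : i < 6
  · rw [s.aG_lo h, s.vv_sq]
  · obtain ⟨k, rfl⟩ : ∃ k, i = k + 6 := ⟨i - 6, by omega⟩
    have h1 := okN_of (gE_ok k (by omega))
    rw [s.aG_hi, ← (valN_mul ψ h1 h1).2, (gE_comm k (by omega)).1, valN_one]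

theorem aG_comm : ∀ i < 10, ∀ j < 10, aG z g l ψ i * aG z g l ψ j = aG z g l ψ j * aG z g l ψ i := by
  have key : ∀ i < 6, ∀ k < 4, aG z g l ψ (k + 6) * aG z g l ψ i = aG z g l ψ i * aG z g l ψ (k + 6) :=
    fun i hi k hk => by
      rw [s.aG_lo hi, s.aG_hi, ← mul_inv_eq_iff_eq_mul, s.conj_vvN (okN_of (gE_ok k hk)) (b6_lt i),
        (gE_comm k hk).2.2 i hi]
  intro i hi j hj
  by_cases h : i < 6 <;> by_cases h' : j < 6
  · rw [s.aG_lo h, s.aG_lo h', s.vv_comm]
  · obtain ⟨k, rfl⟩ : ∃ k, j = k + 6 := ⟨j - 6, by omega⟩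
    exact (key i h k (by omega)).symm
  · obtain ⟨k, rfl⟩ : ∃ k, i = k + 6 := ⟨i - 6, by omega⟩
    exact key j h' k (by omega)
  · obtain ⟨k, rfl⟩ : ∃ k, i = k + 6 := ⟨i - 6, by omega⟩
    obtain ⟨m, rfl⟩ : ∃ k, j = k + 6 := ⟨j - 6, by omega⟩
    have h1 := okN_of (gE_ok k (by omega))
    have h2 := okN_of (gE_ok m (by omega))
    rw [s.aG_hi, s.aG_hi, ← (valN_mul ψ h1 h2).2, (gE_comm k (by omega)).2.1 m (by omega), (valN_mul ψ h2 h1).2]

theorem av_xor (a b : ℕ) : av z g l ψ (a ^^^ b) = av z g l ψ a * av z g l ψ b := gp_xor s.aG_sq s.aG_comm a b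

theorem av_mem (x : ℕ) : av z g l ψ x ∈ AG z g l ψ := gp_mem (fun _ hi => mem_genLt _ hi) x

theorem mem_AG {n : G} : n ∈ AG z g l ψ ↔ ∃ x < 1024, av z g l ψ x = n :=
  ⟨fun h => exists_gp s.aG_sq s.aG_comm h, by rintro ⟨x, -, rfl⟩; exact s.av_mem x⟩

theorem av_eq (x : ℕ) : av z g l ψ x = vv z g l (s6 x) * valN ψ (eE (x >>> 6)) := by
  rw [av, gp_add _ x 6 4, gp_congr (g' := fun k => vv z g l (b6 k)) fun k hk => s.aG_lo hk, s.gp_vv,
    eE, (valN_evC ψ gE_ok (lettersLt_bitsW _ 4)).2, evalW_bitsW, funext s.aG_hi]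
  rfl

theorem av_eq_one {x : ℕ} (hx : x < 1024) (h : av z g l ψ x = 1) : x = 0 := by
  have h1 := eE_ok _ (s6_ok x hx).2.1
  rw [s.av_eq, valN_toPerm ψ h1.1] at h
  have h2 := s.vv_psi_inj (s6_lt x) (x' := 0) (by norm_num) (y' := 1)
    (by rw [h, s.o.x.vv_zero, map_one, mul_one])
  refine (s6_ok x hx).2.2 h2.1 ?_
  rw [← code_toPerm' h1.1, ← code_one]
  exact congrArg (fun y : M24 => code y) h2.2

theorem av_inj {x y : ℕ} (hx : x < 1024) (hy : y < 1024) (h : av z g l ψ x = av z g l ψ y) : x = y := by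
  refine Nat.eq_of_xor_eq_zero (s.av_eq_one (Nat.xor_lt_two_pow (n := 10) hx hy) ?_)
  rw [s.av_xor, h, ← s.av_xor, Nat.xor_self, av, gp_zero]

theorem card_AG : Nat.card (AG z g l ψ) = 2 ^ 10 := by
  refine le_antisymm (card_genLt_le s.aG_sq s.aG_comm) ?_
  rw [← SetLike.coe_sort_coe, Nat.card_coe_set_eq]
  exact NM.le_ncard_of_injOn (Set.toFinite _) (f := av z g l ψ) (fun _ hx _ hy => s.av_inj hx hy)
    fun x _ => s.av_mem x

theorem AG_comm {a b : G} (ha : a ∈ AG z g l ψ) (hb : b ∈ AG z g l ψ) : a * b = b * a := by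
  obtain ⟨x, -, rfl⟩ := s.mem_AG.1 ha
  obtain ⟨y, -, rfl⟩ := s.mem_AG.1 hb
  rw [← s.av_xor, ← s.av_xor, Nat.xor_comm]

theorem elem_AG : Cfsg.IsElementaryAbelian 2 (AG z g l ψ) := by
  refine ⟨⟨⟨fun a b => Subtype.ext (s.AG_comm a.2 b.2)⟩⟩, fun a ha => ?_⟩
  obtain ⟨x, -, rfl⟩ := s.mem_AG.1 ha
  rw [sq, ← s.av_xor, Nat.xor_self, av, gp_zero]

theorem vv_mem_AG {x : ℕ} (hx : x < 2048) (h : in6 x = true) : vv z g l x ∈ AG z g l ψ := by
  obtain ⟨j, -, rfl⟩ := in6_ok x hx h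
  rw [s6, ← s.gp_vv]
  exact gp_mem (fun i hi => s.aG_lo hi ▸ mem_genLt _ (by omega)) j

theorem psi_mem_AG {y : M24} (h : (y : PG) ∈ Golay.Fix O0) : ψ y ∈ AG z g l ψ := by
  have k : Gens (((AG z g l ψ).comap ψ).map M24.subtype) gE0 := fun c hc => by
    obtain ⟨i, hi, rfl⟩ : ∃ i < 4, gE i = c := by
      revert c
      decide +kernel
    refine ⟨_, ⟨⟨_, toPerm_mem (gE_ok i hi)⟩, ?_, rfl⟩, code_toPerm' (gE_ok i hi)⟩
    rw [SetLike.mem_coe, mem_comap, ← valN_toPerm ψ (gE_ok i hi), ← s.aG_hi]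
    exact mem_genLt _ (by omega)
  obtain ⟨y', h1, h2⟩ := Fix_O0_le k h
  exact (Subtype.ext h2 : y' = y) ▸ h1

theorem mem_AG_iff {x : ℕ} (hx : x < 2048) {y : M24} :
    vv z g l x * ψ y ∈ AG z g l ψ ↔ in6 x = true ∧ (y : PG) ∈ Golay.Fix O0 := by
  refine ⟨fun h => ?_, fun h => mul_mem (s.vv_mem_AG hx h.1) (s.psi_mem_AG h.2)⟩
  obtain ⟨j, hj, e⟩ := s.mem_AG.1 h
  have h1 := eE_ok _ (s6_ok j hj).2.1
  rw [s.av_eq, valN_toPerm ψ h1.1] at e
  obtain ⟨rfl, rfl⟩ := s.vv_psi_inj (s6_lt j) hx e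
  exact ⟨(s6_ok j hj).1, mem_Fix_of_key (toPerm_mem h1.1) (by rw [code_toPerm' h1.1, h1.2])⟩

theorem vv_mem_AG_iff {x : ℕ} (hx : x < 2048) : vv z g l x ∈ AG z g l ψ ↔ in6 x = true :=
  ⟨fun h => ((s.mem_AG_iff hx (y := 1)).1 (by rwa [map_one, mul_one])).1, s.vv_mem_AG hx⟩

theorem AG_le_N : AG z g l ψ ≤ normalizer (VG z g l : Set G) := fun a ha => by
  obtain ⟨j, hj, rfl⟩ := s.mem_AG.1 ha
  rw [s.av_eq, valN_toPerm ψ (eE_ok _ (s6_ok j hj).2.1).1]
  exact s.mem_N.2 ⟨_, s6_lt j, _, rfl⟩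

theorem pair_mem_AG {p q : GolayPt} (h : p ≠ q) : ZG z g l {p, q} ∈ AG z g l ψ ↔ p ∈ O0 ∧ q ∈ O0 := by
  rw [ZG, s.vv_mem_AG_iff (lam_lt _), lam_pair h, in6_pair _ (ix_lt p) _ (ix_lt q) (ix_injective.ne h), mem_unmask,
    mem_unmask]

theorem fix_of_comm {x : ℕ} {y : M24}
    (h : ∀ a ∈ AG z g l ψ ⊓ VG z g l, vv z g l x * ψ y * a = a * (vv z g l x * ψ y)) : (y : PG) ∈ Golay.Fix O0 := by
  refine Golay.mem_Fix.2 ⟨y.2, fun p hp => ?_⟩
  have key : ∀ q ∈ O0, q ≠ p → y.1 p = p ∨ y.1 p = q := fun q hq e => by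
    have k := s.smul_of_comm (Finset.card_pair e.symm) (h _ ⟨(s.pair_mem_AG e.symm).2 ⟨hp, hq⟩, s.vv_mem _⟩)
    rw [smul_pair] at k
    have : y.1 p ∈ ({p, q} : Finset GolayPt) := k ▸ Finset.mem_insert_self _ _
    simpa using this
  obtain ⟨q, hq, r, hr, h1, h2, h3⟩ := exists_two (p := p)
  rcases key q hq h1 with k | k
  · exact k
  · exact (key r hr h2).resolve_right fun k' => h3 (k.symm.trans k')

theorem stab_of_norm {x : ℕ} {y : M24} (h : vv z g l x * ψ y ∈ normalizer (AG z g l ψ : Set G)) :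
    (y : PG) • O0 = O0 := by
  refine smul_eq_of_forall_mem fun p hp => ?_
  obtain ⟨q, hq, -, -, h1, -⟩ := exists_two (p := p)
  have k := Rec.conj_mem_of_mem_norm h ((s.pair_mem_AG h1.symm).2 ⟨hp, hq⟩)
  rw [s.conj_Z x y (even_of_two (Finset.card_pair h1.symm)), smul_pair,
    s.pair_mem_AG (y.1.injective.ne h1.symm)] at k
  exact k.1

theorem not_norm : vv z g l 24 ∉ normalizer (AG z g l ψ : Set G) := fun h => by
  have h0 := gE_ok 0 (by norm_num)
  have k := Rec.conj_mem_of_mem_norm h (mem_genLt (aG z g l ψ) (m := 10) (x := 0 + 6) (by norm_num))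
  rw [s.aG_hi, s.vv_inv, valN_toPerm ψ h0, mul_assoc, s.psi_vv _ (by norm_num), ← mul_assoc, ← s.o.x.vv_xor,
    s.mem_AG_iff (xor_lt (by norm_num) (va_lt _ _)), code_toPerm' h0] at k
  exact absurd k.1 (by decide +kernel)

end StM

namespace StJ

variable [Finite G] {z : G} {g l : ℕ → G} {π : centralizer ({z} : Set G) →* PG} {ψ : M24 →* G} (s : StJ z π g l ψ)

include s

theorem av_one : av z g l ψ 1 = vv z g l 1871 := (gp_two_pow (k := 0) _ (by norm_num)).trans (s.t.m.aG_lo (by norm_num))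

theorem cent_av_one : centralizer ({av z g l ψ 1} : Set G) ≤ normalizer (VG z g l : Set G) :=
  s.av_one ▸ s.cd 1871 (by norm_num) (by decide +kernel)

theorem cent_AG : centralizer (AG z g l ψ : Set G) = AG z g l ψ := by
  refine le_antisymm (fun n hn => ?_) fun a ha b hb => s.t.m.AG_comm hb ha
  have h1 : ∀ a ∈ AG z g l ψ, n * a = a * n := fun a ha => (hn a ha).symm
  obtain ⟨x, hx, y, rfl⟩ := s.t.m.mem_N.1 (s.cent_av_one (Rec.mem_cen.2 (h1 _ (s.t.m.av_mem 1))))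
  have h2 := s.t.m.fix_of_comm fun a ha => h1 a ha.1
  have h3 : ∀ k < 4, va (gE k) x = x := fun k hk => by
    have ha : valN ψ (gE k) ∈ AG z g l ψ := s.t.m.aG_hi k ▸ mem_genLt _ (by omega)
    have k1 := h1 _ ha
    rw [mul_assoc, s.t.m.AG_comm (s.t.m.psi_mem_AG h2) ha, ← mul_assoc, ← mul_assoc, mul_left_inj,
      eq_comm, ← mul_inv_eq_iff_eq_mul, s.t.m.conj_vvN (okN_of (gE_ok k hk)) hx] at k1
    exact s.x.vv_inj (va_lt _ _) hx k1
  exact (s.t.m.mem_AG_iff hx).2 ⟨fix_two hx (h3 0 (by norm_num)) (h3 1 (by norm_num)), h2⟩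

theorem card_norm_cent_le :
    Nat.card ↥(normalizer (AG z g l ψ : Set G) ⊓ centralizer ({av z g l ψ 1} : Set G)) ≤ 1024 * 11520 := by
  obtain ⟨E, h1, h2, h3⟩ := s.t.m.exists_img (inf_le_right.trans s.cent_av_one :
    normalizer (AG z g l ψ : Set G) ⊓ centralizer ({av z g l ψ 1} : Set G) ≤ _)
  rw [h3]
  refine Nat.mul_le_mul ?_ ((card_le_of_le fun y hy => ?_).trans Ten.card_stab_duad)
  · have k1 := card_dvd_of_le (inf_le_right : normalizer (AG z g l ψ : Set G) ⊓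
      centralizer ({av z g l ψ 1} : Set G) ⊓ VG z g l ≤ _)
    have k2 := card_lt_of_lt (lt_of_le_of_ne (inf_le_right : normalizer (AG z g l ψ : Set G) ⊓
      centralizer ({av z g l ψ 1} : Set G) ⊓ VG z g l ≤ _) fun e => s.t.m.not_norm (e.ge (s.t.m.vv_mem 24)).1.1)
    rw [s.x.card_V] at k1 k2
    obtain ⟨k, hk, e⟩ := (Nat.dvd_prime_pow Nat.prime_two).1 k1
    rw [e] at k2 ⊢
    exact Nat.pow_le_pow_right (i := k) (j := 10) (by norm_num)
      (Nat.lt_succ_iff.1 ((Nat.pow_lt_pow_iff_right (by norm_num)).1 k2))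
  · obtain ⟨x, -, k⟩ := (h2 ⟨y, h1 hy⟩).1 hy
    refine ⟨⟨h1 hy, s.t.m.stab_of_norm k.1⟩, s.t.m.smul_of_comm (y := ⟨y, h1 hy⟩) (a := x) (by decide +kernel) ?_⟩
    rw [ZG, mask_unmask (by norm_num), show lam 3 = 1871 by decide +kernel, ← s.av_one]
    exact Rec.mem_cen.1 k.2

end StJ

end Cfsg.Agent.J4T
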