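import Mathlib
import Cfsg.Agent.J4T.Ten
import Cfsg.Agent.J4T.PenA
import Cfsg.Agent.Sym.Present
import Cfsg.Agent.GT.PGroupExtraspecial

/-!
The special subgroup of order `2 ^ 15` attached to a trio.
-/

set_option autoImplicit false
set_option linter.unusedSectionVars false

namespace Cfsg.Agent.J4T

open Cfsg.Agent.Spor Cfsg.Agent.Spor.MB Cfsg.Agent.Spor.J4C Cfsg.Agent.Inv.Fz Cfsg.Agent.Rec Subgroup Split Equiv

variable {G : Type*} [Group G]

namespace Pen

/-- A basis of the vectors that are even on the octads of the trio. -/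
def b9 (k : ℕ) : ℕ := List.getD [1, 2, 4, 8, 16, 32, 128, 832, 1024] k 0

/-- Membership in their span. -/
def in9 (x : ℕ) : Bool := Nat.beq (x >>> 6 &&& 13) 0 || Nat.beq (x >>> 6 &&& 13) 13

/-- A basis of the centre. -/
def bz (k : ℕ) : ℕ := List.getD [1024, 5, 10] k 0

/-- Generators of the largest normal 2-subgroup of the trio group. -/
def g6 : List ℕ := [754757334725859761028257155375442945,
  64030498400050090697203117896113906,
  432324161138667630613030318758791854,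
  973134348124687883839041810137989152,
  17062103190023601397878370327731799,
  22248735858101554773713639256952407]

/-- An element of order seven. -/
def cS : ℕ := 20064594566556054774720099127504554

/-- An involution. -/
def cT : ℕ := 6904141979233867980070877206457943

/-- An element of order three normalising `cS`. -/
def cR : ℕ := 974879626329294347602351821286384778

/-- The elements of the 2-group. -/
noncomputable def EL : List ℕ := walk mul g6 idc 63 0x121312141213121512131214121312161213121412131215121312141213121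

/-- The elements of `L3(2)`. -/
noncomputable def KL : List ℕ := walk mul [cS, cT] idc 222
  0x111111200000000000000001111112000000000011111120011111120000111111201111112000011111120111111201111112001111112011111120111111200111111201111112011111120111111200111111201111112011111120111111201111112011111121111112111111

/-- Words for the generators of `L`, of `S5` and of `L3(2)`. -/
def WP : List (List ℕ) := [[4],
  [5],
  [6],
  [7],
  [8],
  [9],
  [11],
  [10, 12, 13],
  [14],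
  [2, 0, 1, 0, 2, 0, 1, 0, 2, 0, 1],
  [0, 2, 0, 1, 0, 2, 0, 1, 0, 2, 0, 1, 0],
  [1, 0, 2, 0, 1, 0, 1, 0, 1, 0, 1, 0, 2, 0, 1, 0, 2, 0, 2, 0, 1, 0, 1, 0, 2, 0, 1, 0, 2, 0, 1, 0, 2, 0, 1, 0, 2],
  [0, 1, 0, 2, 0, 1, 0, 1, 0, 1, 0, 1, 0, 2, 0, 1, 0, 2, 0, 2, 0, 1, 0, 1, 0, 2, 0, 1, 0, 2, 0, 1, 0, 2, 0, 1, 0, 2, 0],
  [1, 0, 1, 0, 2, 0, 2, 0, 1, 0, 1, 0, 1, 0, 2, 0, 1, 0, 2, 0, 1, 0, 2, 0, 1, 0, 2, 0, 2, 0, 2, 0, 1, 0, 1, 0, 2, 0, 2],
  [2, 0, 2, 0, 2, 0, 1, 0, 1, 0, 2, 0, 2, 0, 2, 0, 1, 0, 2, 0, 1, 0, 2, 0, 1, 0, 1, 0, 1, 0, 2, 0, 2, 0, 1, 0, 1, 0, 1],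
  [2, 0, 1, 0, 2, 0, 1, 0, 2, 0, 1, 0, 2, 0, 1, 0, 2, 0, 1, 0, 1, 0, 1, 0, 2, 0, 1, 0, 1, 0, 2, 0, 2, 0, 2, 0, 1, 0, 1, 0, 1, 0, 2, 0, 2, 0, 1, 0, 2, 0, 1, 0, 1],
  [0, 1, 0, 2, 0, 1, 0, 1, 0, 2, 0, 2, 0, 1, 0, 2, 0, 1, 0, 2, 0, 1, 0, 1, 0, 1, 0, 1, 0, 2, 0, 2, 0, 2, 0, 1, 0, 1, 0, 2, 0, 1, 0, 2, 0, 1, 0, 2, 0, 1, 0, 1],
  [4, 6, 7, 8, 9, 12, 2, 0, 1, 0, 2, 0, 1, 0, 2, 0, 1, 0, 2, 0, 1, 0, 2, 0, 1, 0, 1, 0, 1, 0, 2, 0, 1, 0, 1, 0, 2, 0, 2, 0, 2, 0, 1, 0, 1, 0, 1, 0, 2, 0, 2, 0, 1, 0, 2, 0, 1, 0, 1],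
  [3],
  [0, 2, 0, 2, 0, 2, 0, 2, 0, 2, 0, 2, 0, 1, 0, 2, 0, 1, 0, 1, 0, 1, 0, 2, 0, 1, 0, 1, 0, 2],
  [1, 0, 1, 0, 1, 0, 2, 0, 1, 0, 2, 0, 2, 0, 2]]

/-- The action of the last six on `L`. -/
def nm (i k : ℕ) : ℕ := List.getD (List.getD [[1, 2, 4, 8, 279, 297, 389, 325, 256, 12800, 22528, 4096, 2048, 14336, 7168],
  [319, 277, 314, 287, 263, 9, 207, 128, 256, 25088, 8704, 6144, 4096, 26112, 1536],
  [1, 2, 4, 8, 279, 297, 389, 325, 256, 12923, 22690, 4389, 2092, 14568, 7528],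
  [29697, 27650, 29700, 27656, 23056, 2080, 9280, 24704, 256, 512, 1024, 2048, 4096, 8192, 16384],
  [201, 3, 460, 259, 288, 325, 63, 315, 15, 8704, 6656, 9216, 24576, 18432, 28160],
  [1, 450, 4, 456, 346, 367, 69, 128, 261, 512, 25600, 11264, 28672, 16384, 8192]] i []) k 0

/-- Words for the basis of the centre. -/
def zW (j : ℕ) : List ℕ := List.getD [[8], [0, 2], [1, 3]] j []

/-- Two words have the same matrix. -/
noncomputable def eqW (c u v : List ℕ) : Bool := Nat.beq (Rec.evC arM c u) (Rec.evC arM c v)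

/-- Generators of the centraliser of `z` acting on `Q`. -/
noncomputable def cH (i : ℕ) : ℕ := Bool.rec (inn 64) (cL i) (blt i 11)

theorem b9_lt (k : ℕ) : b9 k < 2 ^ 11 := by
  by_cases h : k < 9
  · interval_cases k <;> decide
  · rw [b9, List.getD_eq_default _ _ (by simpa using h)]; norm_num

theorem bz_lt (k : ℕ) : bz k < 2 ^ 11 := by
  by_cases h : k < 3
  · interval_cases k <;> decide
  · rw [bz, List.getD_eq_default _ _ (by simpa using h)]; norm_num

theorem in9_ok : ∀ x < 2048, in9 x = true → x % 64 + 64 * (x / 128 % 2) + 128 * (x / 512) < 2 ^ 9 ∧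
    linV b9 (x % 64 + 64 * (x / 128 % 2) + 128 * (x / 512)) 9 = x := by decide +kernel

theorem s9_ok : ∀ j < 2 ^ 9, in9 (linV b9 j 9) = true ∧ (linV b9 j 9 = 0 → j = 0) := by decide +kernel

theorem gens_g6 : Gens M24 g6 := gens_M24 (by decide +kernel)

theorem gens_K : Gens M24 [cS, cT] := gens_M24 (by decide +kernel)

theorem list_E : listGrp g6 64 63 0x121312141213121512131214121312161213121412131215121312141213121 = true := by
  decide +kernel

theorem list_K : listGrp [cS, cT] 168 222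
    0x111111200000000000000001111112000000000011111120011111120000111111201111112000011111120111111201111112001111112011111120111111200111111201111112011111120111111200111111201111112011111120111111201111112011111121111112111111 = true := by
  decide +kernel

theorem g6_ok : ∀ i < 6, inM24 (g6.getD i idc) = true ∧ mul (g6.getD i idc) (g6.getD i idc) = idc ∧
    (∀ j < 6, mul (g6.getD i idc) (g6.getD j idc) = mul (g6.getD j idc) (g6.getD i idc)) ∧
    (∀ k < 9, in9 (va (g6.getD i idc) (b9 k)) = true ∧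
      ∃ j < 2 ^ 3, linV bz j 3 = va (g6.getD i idc) (b9 k) ^^^ b9 k) ∧
    (∀ j < 3, va (g6.getD i idc) (bz j) = bz j) ∧ in9 (317 ^^^ va (g6.getD i idc) 317) = true ∧
    in9 (1829 ^^^ va (g6.getD i idc) 1829) = true := by decide +kernel

theorem EL_ok : ∀ c ∈ EL, ((∀ k < 9, va c (b9 k) = b9 k) → c = idc) ∧ (mul cS c = mul c cS → c = idc) ∧
    (va (mul c cT) 317 = 317 → va (mul c cT) 1829 ≠ 1829) := by decide +kernel

theorem KL_ok : ∀ c ∈ KL, (∀ j < 3, va c (bz j) = bz j) → c = idc := by decide +kernel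

theorem fix_E {x : ℕ} (hx : x < 2048) (h1 : in9 x = true) (h2 : ∀ i < 6, va (g6.getD i idc) x = x) :
    ∃ j < 2 ^ 3, linV bz j 3 = x :=
  (by decide +kernel : ∀ x < 2048, in9 x = true → (∀ i < 6, va (g6.getD i idc) x = x) →
    ∃ j < 2 ^ 3, linV bz j 3 = x) x hx h1 h2

theorem fix_S : ∀ x < 2048, in9 x = true → va cS x = x → x = 0 := by decide +kernel

theorem WP_lo : ∀ k < 9, wOK (nth [] WP k) (vH (b9 k)) = true := by decide +kernel

theorem WP_hi : ∀ k < 6, wOK (nth [] WP (k + 9)) (g6.getD k idc) = true := by decide +kernel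

theorem WP_K : ∀ k < 2, wOK (nth [] WP (19 + k)) ([cS, cT].getD k idc) = true := by decide +kernel

theorem norm_ok : withL (WP.map mxW) (fun c => allLt 6 fun i => allLt 15 fun k =>
    eqW c [15 + i, k] (bitsW (nm i k) 15 ++ [15 + i])) = true := by decide +kernel

theorem cox_ok : withL (WP.map mxW) (fun c => band (!eqW c [15 + 0] [15 + 1]) (allLt 4 fun i =>
    band (eqW c [15 + i, 15 + i] []) (band (allLt 4 fun j =>
      band (bor (!Nat.beq (i + 1) j) (eqW c [15 + i, 15 + j, 15 + i] [15 + j, 15 + i, 15 + j]))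
        (bor (!blt (i + 1) j) (eqW c [15 + i, 15 + j] [15 + j, 15 + i])))
    (band (allLt 3 fun j => eqW c (zW j ++ [15 + i]) ([15 + i] ++ zW j))
    (band (eqW c [15 + i, 19 + 0] [19 + 0, 15 + i])
      (eqW c [15 + i, 19 + 1] (bitsW (List.getD [0, 0, 459, 0] i 0) 15 ++ [19 + 1, 15 + i]))))))) = true := by
  decide +kernel

theorem lift_ok : withL (WP.map mxW) (fun c => eqW c (bitsW 18032 15 ++ [19 + 1, 15 + 0, 15 + 1, 15 + 2, 15 + 3])
    ([15 + 0, 15 + 1, 15 + 2, 15 + 3] ++ (bitsW 18032 15 ++ [19 + 1]))) = true := by decide +kernel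

theorem orb_ok : distinct (fun x => x) 1386 (walk (fun i x => app (cH i) x) [0, 10, 1, 2, 3, 4, 5, 11, 6, 7, 8, 9] 5 2247
    0x112118000000000000000000000000000000000000000000000000000000000000000000000000000000000000000000000000000000000000000000000000000000000000000000000000000000000000000000000000000000000000000000000000000000000000000000000000000000000000000000000000000000000000000000000000000000000000000011211300011211500000000000000000000000000000000000000000000000000000000000000000000000000000000000000000000000000000000000000000000000000000000000000000000000000000000000000000000000000000000000000000000000000000000000000000000000000000000000000000000000000000000000000000000000000000000000000000000000000000000000000000000000000000000000000000000000000000000000000000000000000000000000000000011c0000000000000000000000000000000000000000000000000000000000000000000000000000000000000000001160000000000000000000000000000000000000000000000000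000011400011311511311411b000000112116112113112114112113112113112113112118000011611211311211311211311211411211311211b00000011211a00000000000011400011311511311411c11211300011211600011211511211311211c00000000011211311211311211311211411211311211511211311211b00000011311411511711511411311a11311211411211611211311211411211311211311211311211611311211411211511211411211311211311211311211611211311211311211311211911211311211311211311211411211311211311211311211411211311211311211311211511211311211311211311211411211311211311211311211411211311211311211311211511311211311411311211311811411311211311411311211411211311211b00011211311211311211311211411211311211311211311211411211311211311211311211811211311211311211311211411211311211311211311211411211311211311211311211511211311211311211311211411211511211311211311211311211411211311211611211511211311211311211311211411211311211511211711211311211311211311211411211311211611211311211811211611211311211311211311211411211311211711211311211511211311211411211311211311211311211611211311211311211311211411211311211511211311211411211311211311211311211611211311211311211311211411211311211b11511411311711311411511611911211311211411211311211311211311211611311211311711211311211311211311211411211311211511211511211311211411211311211311211311211511211311211311211311211411211311211311211311211411211311211311211311211711211311211311211311211411211311211311211311211411211311211311211311211511311211311)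 = true := by
  decide +kernel

theorem cent_of_gen {a : ℕ → G} {m : ℕ} {x : G} (h : ∀ i < m, a i * x = x * a i) :
    x ∈ centralizer (genLt a m : Set G) := fun _ hy =>
  mem_centralizer_singleton_iff.1 (genLt_le (K := centralizer {x})
    (fun i hi => mem_centralizer_singleton_iff.2 (h i hi)) hy)

/-- The image of a subgroup of `M24`. -/
def PM (ψ : M24 →* G) (gs : List ℕ) : Subgroup G := ((clo gs).subgroupOf M24).map ψ

theorem genLt_PM (ψ : M24 →* G) {gs : List ℕ} (h : Gens M24 gs) :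
    genLt (fun i => valN ψ (gs.getD i idc)) gs.length = PM ψ gs := by
  refine le_antisymm (genLt_le fun i hi => ?_) ?_
  · have k : gs.getD i idc ∈ gs := by rw [List.getD_eq_getElem _ _ hi]; exact List.getElem_mem hi
    obtain ⟨y, hy, e⟩ := h _ k
    exact ⟨⟨y, hy⟩, subset_closure (e ▸ k :), by rw [← e, ← valN_coe]⟩
  · rintro _ ⟨y, hy, rfl⟩
    have k : Gens (((genLt (fun i => valN ψ (gs.getD i idc)) gs.length).comap ψ).map M24.subtype) gs :=
      fun c hc => by
        obtain ⟨x, hx, rfl⟩ := h c hc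
        obtain ⟨i, hi, e⟩ := List.getElem_of_mem hc
        refine ⟨x, ⟨⟨x, hx⟩, ?_, rfl⟩, rfl⟩
        rw [SetLike.mem_coe, mem_comap, ← valN_coe, ← e, ← List.getD_eq_getElem _ idc hi]
        exact mem_genLt (fun i => valN ψ (gs.getD i idc)) hi
    obtain ⟨y', h1, h2⟩ := k.clo_le hy
    exact (Subtype.ext h2 : y' = y) ▸ h1

end Pen

open Pen

/-- The span of some vectors of `V`. -/
def VS (z : G) (g l : ℕ → G) (b : ℕ → ℕ) (n : ℕ) : Subgroup G := genLt (fun k => vv z g l (b k)) n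

/-- The generators of `L`, of `S5` and of `L3(2)`. -/
noncomputable def pG (z : G) (g l : ℕ → G) (ψ : M24 →* G) : ℕ → G := nth 1 (WP.map (eW z g l ψ))

/-- The special group of order `2 ^ 15`. -/
noncomputable def LG (z : G) (g l : ℕ → G) (ψ : M24 →* G) : Subgroup G := genLt (pG z g l ψ) 15

namespace StM

variable [Finite G] {z : G} {g l : ℕ → G} {π : centralizer ({z} : Set G) →* PG} {ψ : M24 →* G} (s : StM z π g l ψ)

include s

theorem mem_VS {b : ℕ → ℕ} {n : ℕ} {y : G} : y ∈ VS z g l b n ↔ ∃ j < 2 ^ n, vv z g l (linV b j n) = y := by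
  simp only [← s.gp_vv]
  exact ⟨exists_gp (fun i _ => s.vv_sq _) fun i _ j _ => s.vv_comm _ _, by
    rintro ⟨j, -, rfl⟩
    exact gp_mem (fun i hi => mem_genLt (fun k => vv z g l (b k)) hi) j⟩

theorem card_VS {b : ℕ → ℕ} {n : ℕ} (h1 : ∀ k, b k < 2 ^ 11) (h2 : ∀ j < 2 ^ n, linV b j n = 0 → j = 0) :
    Nat.card (VS z g l b n) = 2 ^ n := by
  refine le_antisymm (card_genLt_le (fun i _ => s.vv_sq _) fun i _ j _ => s.vv_comm _ _) ?_
  rw [← SetLike.coe_sort_coe, Nat.card_coe_set_eq]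
  refine NM.le_ncard_of_injOn (Set.toFinite _) (f := fun j => vv z g l (linV b j n)) (fun x hx y hy e => ?_)
    fun x hx => s.mem_VS.2 ⟨x, hx, rfl⟩
  refine Nat.eq_of_xor_eq_zero (h2 _ (Nat.xor_lt_two_pow hx hy) (s.o.x.vv_inj (linV_lt_pow h1 _ _) (by norm_num) ?_))
  rw [← s.gp_vv, gp_xor (fun i _ => s.vv_sq _) fun i _ j _ => s.vv_comm _ _, s.gp_vv, s.gp_vv, s.o.x.vv_zero]
  exact (congrArg (· * _) e).trans (s.vv_sq _)

theorem psi_injective : Function.Injective ψ := fun _ _ e =>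
  (s.vv_psi_inj (x := 0) (x' := 0) (by norm_num) (by norm_num) (by rw [e])).2

theorem card_PM {gs : List ℕ} (h : Gens M24 gs) : Nat.card (PM ψ gs) = Nat.card (clo gs) := by
  rw [PM, card_map_of_injective s.psi_injective, Nat.card_congr (subgroupOfEquivOfLe h.clo_le).toEquiv]

theorem pG_lo {k : ℕ} (hk : k < 9) : pG z g l ψ k = vv z g l (b9 k) := by
  rw [pG, nth_map_of_lt [] 1 _ (lt_of_lt_of_le hk (by decide)), (s.eW_eq (WP_lo k hk)).2, s.valH_vH]

theorem pG_hi {k : ℕ} (hk : k < 6) : pG z g l ψ (k + 9) = valN ψ (g6.getD k idc) := by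
  rw [pG, nth_map_of_lt [] 1 _ (lt_of_lt_of_le (Nat.add_lt_add_right hk 9) (by decide)), (s.eW_eq (WP_hi k hk)).2,
    s.zs.valH_of_okN (okN_of (g6_ok k hk).1)]

theorem pG_K {k : ℕ} (hk : k < 2) : pG z g l ψ (19 + k) = valN ψ ([cS, cT].getD k idc) := by
  rw [pG, nth_map_of_lt [] 1 _ (lt_of_lt_of_le (Nat.add_lt_add_left hk 19) (by decide)), (s.eW_eq (WP_K k hk)).2,
    s.zs.valH_of_okN (gens_K.getD k)]

theorem vv_mem_W {x : ℕ} (hx : x < 2048) (h : in9 x = true) : vv z g l x ∈ VS z g l b9 9 :=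
  s.mem_VS.2 ⟨_, (in9_ok x hx h).1, by rw [(in9_ok x hx h).2]⟩

theorem E_le_norm : PM ψ g6 ≤ normalizer (VS z g l b9 9 : Set G) :=
  genLt_PM ψ gens_g6 ▸ genLt_le fun i hi => norm_of_gen fun k hk => by
    rw [s.conj_vvN (okN_of (g6_ok i hi).1) (b9_lt k)]
    exact s.vv_mem_W (va_lt _ _) ((g6_ok i hi).2.2.2.1 k hk).1

theorem LG_ind {P : G → Prop} (h1 : ∀ k < 9, P (vv z g l (b9 k))) (h2 : ∀ k < 6, P (valN ψ (g6.getD k idc))) :
    ∀ i < 15, P (pG z g l ψ i) := fun i hi => by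
  by_cases h : i < 9
  · exact s.pG_lo h ▸ h1 i h
  · obtain ⟨k, rfl⟩ : ∃ k, i = k + 9 := ⟨i - 9, by omega⟩
    exact s.pG_hi (k := k) (by omega) ▸ h2 k (by omega)

theorem LG_eq : LG z g l ψ = PM ψ g6 ⊔ VS z g l b9 9 := by
  rw [← genLt_PM ψ gens_g6]
  refine le_antisymm (genLt_le (s.LG_ind (P := fun x => x ∈ _ ⊔ VS z g l b9 9)
    (fun k hk => mem_sup_right (mem_genLt (fun k => vv z g l (b9 k)) hk))
    fun k hk => mem_sup_left (mem_genLt (fun i => valN ψ (g6.getD i idc)) hk)))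
    (sup_le (genLt_le fun k hk => ?_) (genLt_le fun k hk => ?_))
  · exact s.pG_hi hk ▸ mem_genLt _ (Nat.add_lt_add_right hk 9)
  · exact s.pG_lo hk ▸ mem_genLt _ (by omega)

theorem mem_LG {n : G} :
    n ∈ LG z g l ψ ↔ ∃ x < 2048, in9 x = true ∧ ∃ y : M24, (y : PG) ∈ clo g6 ∧ n = vv z g l x * ψ y := by
  rw [s.LG_eq]
  refine ⟨fun h => ?_, ?_⟩
  · obtain ⟨a, ha, b, hb, rfl⟩ := (mem_sup_iff_of_le_normalizer s.E_le_norm).1 h
    obtain ⟨j, hj, e⟩ := s.mem_VS.1 (conj_mem (s.E_le_norm ha) hb)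
    obtain ⟨y, hy, rfl⟩ := ha
    exact ⟨_, linV_lt_pow b9_lt j 9, (s9_ok j hj).1, y, hy, by rw [e, inv_mul_cancel_right]⟩
  · rintro ⟨x, hx, h, y, hy, rfl⟩
    exact mul_mem (mem_sup_right (s.vv_mem_W hx h)) (mem_sup_left ⟨y, hy, rfl⟩)

theorem vv_mem_LG {x : ℕ} (hx : x < 2048) (h : in9 x = true) : vv z g l x ∈ LG z g l ψ :=
  s.LG_eq ▸ mem_sup_right (s.vv_mem_W hx h)

theorem card_LG : Nat.card (LG z g l ψ) = 2 ^ 15 := by
  rw [s.LG_eq, GT.card_sup_of_inf_eq_bot s.E_le_norm, s.card_PM gens_g6, card_clo_of_listGrp gens_g6 list_E,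
    s.card_VS b9_lt fun j hj => (s9_ok j hj).2]
  · norm_num
  · refine eq_bot_iff.2 ?_
    rintro _ ⟨⟨y, -, rfl⟩, h⟩
    obtain ⟨j, -, e⟩ := s.mem_VS.1 h
    rw [s.inj y (e ▸ s.vv_mem _), map_one]
    exact one_mem _

theorem card_Z : Nat.card (VS z g l bz 3) = 2 ^ 3 := s.card_VS bz_lt (by decide +kernel)

theorem Z_le_L : VS z g l bz 3 ≤ LG z g l ψ := genLt_le fun j hj =>
  s.vv_mem_LG (bz_lt j) ((by decide +kernel : ∀ j < 3, in9 (bz j) = true) j hj)

theorem L_le_cent : LG z g l ψ ≤ centralizer (VS z g l bz 3 : Set G) :=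
  genLt_le (s.LG_ind (P := fun x => x ∈ centralizer (VS z g l bz 3 : Set G))
    (fun k _ => cent_of_gen fun j _ => s.vv_comm _ _) fun k hk => cent_of_gen fun j hj => by
      rw [eq_comm, ← mul_inv_eq_iff_eq_mul, s.conj_vvN (okN_of (g6_ok k hk).1) (bz_lt j),
        (g6_ok k hk).2.2.2.2.1 j hj])

theorem cen_LG : LG z g l ψ ⊓ centralizer (LG z g l ψ : Set G) = VS z g l bz 3 := by
  refine le_antisymm (fun n hn => ?_) (le_inf s.Z_le_L (le_centralizer_iff.1 s.L_le_cent))
  obtain ⟨x, hx, h1, y, hy, rfl⟩ := s.mem_LG.1 hn.1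
  have h2 : y = 1 := Subtype.ext (eq_one_iff_code.2 ((EL_ok _ (mem_walk_of_listGrp list_E _ hy)).1 fun k hk =>
    (s.comm_vv_iff x y (b9_lt k)).1 (hn.2 _ (s.pG_lo hk ▸ mem_genLt _ (by omega))).symm))
  rw [h2, map_one, mul_one] at hn ⊢
  obtain ⟨j, hj, e⟩ := fix_E hx h1 fun i hi => by
    have k := hn.2 _ (mem_genLt (pG z g l ψ) (by omega : i + 9 < 15))
    rw [s.pG_hi hi, ← mul_inv_eq_iff_eq_mul, s.conj_vvN (okN_of (g6_ok i hi).1) hx] at k
    exact s.o.x.vv_inj (va_lt _ _) hx k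
  exact s.mem_VS.2 ⟨j, hj, by rw [e]⟩

theorem comm_eq {i k : ℕ} (hi : i < 6) : valN ψ (g6.getD i idc) * vv z g l (b9 k) * (valN ψ (g6.getD i idc))⁻¹ *
    (vv z g l (b9 k))⁻¹ = vv z g l (va (g6.getD i idc) (b9 k) ^^^ b9 k) := by
  rw [s.conj_vvN (okN_of (g6_ok i hi).1) (b9_lt k), s.vv_inv, s.o.x.vv_xor]

theorem comm_mem {x y : G} (hx : x ∈ LG z g l ψ) (hy : y ∈ LG z g l ψ) : x * y * x⁻¹ * y⁻¹ ∈ VS z g l bz 3 := by
  have h1 : ∀ i < 15, pG z g l ψ i ∈ normalizer (VS z g l bz 3 : Set G) := fun i hi =>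
    centralizer_le_normalizer _ (s.L_le_cent (mem_genLt _ hi))
  have h2 : ∀ i < 6, ∀ k < 9, valN ψ (g6.getD i idc) * vv z g l (b9 k) * (valN ψ (g6.getD i idc))⁻¹ *
      (vv z g l (b9 k))⁻¹ ∈ VS z g l bz 3 := fun i hi k hk => by
    obtain ⟨j, hj, e⟩ := ((g6_ok i hi).2.2.2.1 k hk).2
    exact s.mem_VS.2 ⟨j, hj, by rw [e, s.comm_eq hi]⟩
  refine comm_of_gen h1 h1 (s.LG_ind (P := fun x => ∀ j < 15, x * pG z g l ψ j * x⁻¹ * (pG z g l ψ j)⁻¹ ∈ _)
    (fun k hk => s.LG_ind (P := fun y => vv z g l (b9 k) * y * (vv z g l (b9 k))⁻¹ * y⁻¹ ∈ VS z g l bz 3)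
      (fun m _ => ?_) fun m hm => comm_symm (h2 m hm k hk))
    fun k hk => s.LG_ind (P := fun y => valN ψ (g6.getD k idc) * y * (valN ψ (g6.getD k idc))⁻¹ * y⁻¹ ∈
      VS z g l bz 3) (h2 k hk) fun m hm => ?_) hx hy
  · rw [s.vv_comm, mul_inv_cancel_right, mul_inv_cancel]
    exact one_mem _
  · have k1 := okN_of (g6_ok k hk).1
    have k2 := okN_of (g6_ok m hm).1
    rw [← (valN_mul ψ k1 k2).2, (g6_ok k hk).2.2.1 m hm, (valN_mul ψ k2 k1).2, mul_inv_cancel_right, mul_inv_cancel]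
    exact one_mem _

theorem special_LG : Cfsg.IsSpecial 2 (LG z g l ψ) := by
  refine (GT.PG.isSpecial_subgroup_iff (IsPGroup.of_card s.card_LG)).2 ⟨?_, fun x hx => ?_⟩
  · rw [s.cen_LG]
    refine le_antisymm (commutator_le.2 fun x hx y hy => s.comm_mem hx hy) (genLt_le fun j hj => ?_)
    obtain ⟨i, hi, k, hk, e⟩ := (by decide +kernel :
      ∀ j < 3, ∃ i < 6, ∃ k < 9, va (g6.getD i idc) (b9 k) ^^^ b9 k = bz j) j hj
    rw [← e, ← s.comm_eq hi]
    exact commutator_mem_commutator (s.pG_hi hi ▸ mem_genLt _ (by omega)) (s.pG_lo hk ▸ mem_genLt _ (by omega))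
  · refine (s.cen_LG.ge ?_).2
    rw [sq]
    refine sq_of_gen (fun x hx y hy => s.comm_mem hx hy) (s.LG_ind (P := fun x => x * x = 1)
      (fun k _ => s.vv_sq _) fun k hk => ?_) hx
    have k1 := okN_of (g6_ok k hk).1
    rw [← (valN_mul ψ k1 k1).2, (g6_ok k hk).2.1, valN_one]

theorem elem_Z : Cfsg.IsElementaryAbelian 2 (VS z g l bz 3) := by
  refine ⟨⟨⟨fun a b => Subtype.ext (s.L_le_cent (s.Z_le_L b.2) _ a.2)⟩⟩, fun a ha => ?_⟩
  obtain ⟨j, -, rfl⟩ := s.mem_VS.1 ha
  rw [sq, s.vv_sq]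

theorem norm_le : normalizer (LG z g l ψ : Set G) ≤ normalizer (VS z g l bz 3 : Set G) :=
  s.cen_LG ▸ GT.PG.le_normalizer_inf le_rfl (normalizer_le_normalizer_centralizer _)

theorem K_inf : PM ψ [cS, cT] ⊓ centralizer (VS z g l bz 3 : Set G) = ⊥ := by
  refine eq_bot_iff.2 ?_
  rintro _ ⟨⟨y, hy, rfl⟩, h⟩
  have k : y = 1 := Subtype.ext (eq_one_iff_code.2 (KL_ok _ (mem_walk_of_listGrp list_K _ hy) fun j hj =>
    (s.comm_vv_iff 0 y (bz_lt j)).1 (by
      rw [s.o.x.vv_zero, one_mul]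
      exact (h _ (mem_genLt (fun k => vv z g l (bz k)) hj)).symm)))
  rw [k, map_one]
  exact one_mem _

theorem card_K : Nat.card (PM ψ [cS, cT]) = 168 := (s.card_PM gens_K).trans (card_clo_of_listGrp gens_K list_K)

theorem card_norm_LG : Nat.card (normalizer (LG z g l ψ : Set G)) ≤ 2 ^ 15 * 20160 := by
  have hz : z ∈ VS z g l bz 3 := s.mem_VS.2 ⟨1, by norm_num, s.o.x.vv_z⟩
  have hv : vv z g l 5 ∈ VS z g l bz 3 := mem_genLt (fun k => vv z g l (bz k)) (m := 3) (x := 1) (by norm_num)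
  have h0 := Orb.ncard_ne_one (VS z g l bz 3)
  rw [s.card_Z] at h0
  have h1 := ncard_conj_mul (normalizer (LG z g l ψ : Set G)) z
  have h2 := ncard_conj_mul (normalizer (LG z g l ψ : Set G) ⊓ centralizer {z}) (vv z g l 5)
  have h3 := ncard_conj_mul (centralizer ({z} : Set G)) (vv z g l 5)
  have h4 : {v : G | ∃ n ∈ normalizer (LG z g l ψ : Set G), n * z * n⁻¹ = v}.ncard ≤ 7 := by
    refine (Set.ncard_le_ncard (t := {y | y ∈ VS z g l bz 3 ∧ y ≠ 1}) ?_).trans (by omega)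
    rintro _ ⟨n, hn, rfl⟩
    exact ⟨conj_mem (s.norm_le hn) hz, fun e => s.z_ne (conj_eq_one.1 e)⟩
  have h5 : {v : G | ∃ n ∈ normalizer (LG z g l ψ : Set G) ⊓ centralizer {z}, n * vv z g l 5 * n⁻¹ = v}.ncard ≤ 6 := by
    refine (Set.ncard_le_ncard (t := {y | y ∈ VS z g l bz 3 ∧ y ≠ 1} \ {z}) ?_).trans
      (by rw [Set.ncard_sdiff_singleton_of_mem (by exact ⟨hz, s.z_ne⟩)]; omega)
    rintro _ ⟨n, hn, rfl⟩
    refine ⟨⟨conj_mem (s.norm_le hn.1) hv, fun e => ?_⟩, fun e => ?_⟩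
    · exact absurd (s.o.x.vv_inj (by norm_num) (by norm_num) ((conj_eq_one.1 e).trans s.o.x.vv_zero.symm))
        (by norm_num)
    · rw [Set.mem_singleton_iff, mul_inv_eq_iff_eq_mul, ← mem_centralizer_singleton_iff.1 hn.2, mul_right_inj] at e
      exact absurd (s.o.x.vv_inj (by norm_num) (by norm_num) (e.trans s.o.x.vv_z.symm)) (by norm_num)
  have h6 : 1386 ≤ {v : G | ∃ n ∈ centralizer ({z} : Set G), n * vv z g l 5 * n⁻¹ = v}.ncard := by
    refine le_ncard_of_codes (R := fun m v => m < 8192 ∧ qv z g m = v) (Set.toFinite _)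
      (fun m m' v h1 h2 => s.o.x.q.qv_inj h1.1 h2.1 (h1.2.trans h2.2.symm)) (fun m hm => ?_) orb_ok
    have k := walk_spec (P := fun m => m < 8192 ∧ ∃ n ∈ centralizer ({z} : Set G), n * vv z g l 5 * n⁻¹ = qv z g m)
      (fun i _ y hy => ?_) ⟨by norm_num, 1, one_mem _, by
        rw [one_mul, inv_one, mul_one, s.o.x.vv_eq_qv (by norm_num) (by norm_num)]; rfl⟩ _ _ m hm
    · exact ⟨_, k.2, k.1, rfl⟩
    obtain ⟨h, n, hn, e⟩ := hy
    obtain ⟨a, ha⟩ : ∃ a, Rp z g a (cH i) := by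
      unfold cH
      cases hi : blt i 11
      exacts [⟨_, s.o.x.q.rp_qv (by norm_num)⟩, ⟨_, s.o.x.rp i ((blt_iff _ _).1 hi)⟩]
    refine ⟨app_lt _ _, a * n, mul_mem (mem_centralizer_singleton_iff.2 ha.1) hn, ?_⟩
    rw [← s.o.x.q.rp_app ha h, ← e]
    group
  have h7 := card_le_of_le (inf_le_inf_right (centralizer ({vv z g l 5} : Set G))
    (inf_le_right : normalizer (LG z g l ψ : Set G) ⊓ centralizer {z} ≤ _))
  rw [s.o.x.card_H] at h3
  have h8 := Nat.le_of_mul_le_mul_left ((Nat.mul_le_mul_right _ h6).trans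
    (h3.trans (by norm_num : 21799895040 = 1386 * 15728640)).le) (by norm_num)
  rw [← h1, ← h2]
  exact (Nat.mul_le_mul h4 (Nat.mul_le_mul h5 (h7.trans h8))).trans (by norm_num)

theorem vv_mem_norm {d : ℕ} (hd : d < 2048) (h : ∀ i < 6, in9 (d ^^^ va (g6.getD i idc) d) = true) :
    vv z g l d ∈ normalizer (LG z g l ψ : Set G) :=
  norm_of_gen (s.LG_ind (P := fun x => vv z g l d * x * (vv z g l d)⁻¹ ∈ LG z g l ψ) (fun k hk => by
    rw [s.vv_comm, mul_inv_cancel_right]
    exact s.pG_lo hk ▸ mem_genLt _ (by omega)) fun k hk => by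
      rw [s.vv_inv, mul_assoc, ← mul_inv_cancel_right (valN ψ _ * _) (valN ψ (g6.getD k idc))⁻¹,
        s.conj_vvN (okN_of (g6_ok k hk).1) hd, inv_inv, ← mul_assoc, ← s.o.x.vv_xor]
      exact mul_mem (s.vv_mem_LG (xor_lt hd (va_lt _ _)) (h k hk)) (s.pG_hi hk ▸ mem_genLt _ (by omega)))

theorem no_compl (h : PM ψ [cS, cT] ≤ normalizer (LG z g l ψ : Set G)) (K : Subgroup (normalizer (LG z g l ψ : Set G))) :
    ¬ ((LG z g l ψ).subgroupOf (normalizer (LG z g l ψ : Set G))).IsComplement' K := by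
  obtain ⟨a, ha, ea⟩ := gens_K cS (by simp)
  obtain ⟨b, hb, eb⟩ := gens_K cT (by simp)
  refine Pen.no_compl (s := ψ ⟨a, ha⟩) (c := ψ ⟨b, hb⟩) (v := vv z g l 317) (w := vv z g l 1829)
    (h ⟨_, subset_closure (by simp [ea]), rfl⟩) (fun n hn e => ?_)
    (s.vv_mem_norm (by norm_num) fun i hi => (g6_ok i hi).2.2.2.2.2.1)
    (s.vv_mem_norm (by norm_num) fun i hi => (g6_ok i hi).2.2.2.2.2.2)
    (h ⟨_, subset_closure (by simp [eb]), rfl⟩) ?_ ?_ ?_ ?_ (fun n hn e1 e2 => ?_) K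
  · obtain ⟨x, hx, h1, y, hy, rfl⟩ := s.mem_LG.1 hn
    have k := e
    rw [← mul_assoc, s.psi_vv _ hx, mul_assoc, mul_assoc, ← map_mul, ← map_mul] at k
    have k1 := congrArg (fun y : M24 => code y) (s.vv_psi_inj (va_lt _ _) hx k).2
    simp only [coe_mul, code_mul, ea] at k1
    have k2 : y = 1 := Subtype.ext (eq_one_iff_code.2 ((EL_ok _ (mem_walk_of_listGrp list_E _ hy)).2.1 k1))
    have k3 := (s.vv_psi_inj (va_lt _ _) hx k).1
    simp only [ea] at k3
    rw [k2, fix_S x hx h1 k3, s.o.x.vv_zero, map_one, mul_one]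
  · rw [s.psi_vv _ (by norm_num), ea, show va cS 317 = 317 by decide +kernel]
  · rw [s.psi_vv _ (by norm_num), ea, show va cS 1829 = 1829 by decide +kernel]
  · rw [s.conj_vv _ (by norm_num), eb, s.vv_inv, ← s.o.x.vv_xor]
    exact s.vv_mem_LG (by decide +kernel) (by decide +kernel)
  · rw [s.conj_vv _ (by norm_num), eb, s.vv_inv, ← s.o.x.vv_xor]
    exact s.vv_mem_LG (by decide +kernel) (by decide +kernel)
  · obtain ⟨x, hx, -, y, hy, rfl⟩ := s.mem_LG.1 hn
    rw [mul_assoc (vv z g l x), ← map_mul, s.comm_vv_iff _ _ (by norm_num), coe_mul, code_mul, eb] at e1 e2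
    exact (EL_ok _ (mem_walk_of_listGrp list_E _ hy)).2.2 e1 e2

end StM

namespace StJ

variable [Finite G] {z : G} {g l : ℕ → G} {π : centralizer ({z} : Set G) →* PG} {ψ : M24 →* G} (s : StJ z π g l ψ)

include s

theorem eqW_iff {u v : List ℕ} :
    eqW (WP.map mxW) u v = true ↔ evalW (pG z g l ψ) u = evalW (pG z g l ψ) v := by
  obtain ⟨C, hC⟩ := s.exists_cod_words
  exact (nbeq_iff _ _).trans (((hC WP).word _).eq_iff ((hC WP).word _))

theorem pG_mem {i : ℕ} (hi : i < 6) : pG z g l ψ (15 + i) ∈ normalizer (LG z g l ψ : Set G) :=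
  norm_of_gen fun k hk => by
    have h := norm_ok
    rw [withL_eq, allLt_iff] at h
    have h1 := s.eqW_iff.1 ((allLt_iff _ _).1 (h i hi) k hk)
    rw [evalW_append, evalW_bitsW, evalW_cons, evalW_cons, evalW_cons, evalW_nil, mul_one, mul_one] at h1
    rw [h1, mul_inv_cancel_right]
    exact gp_mem (fun _ hi => mem_genLt _ hi) _

theorem K_eq : PM ψ [cS, cT] = genLt (fun j => pG z g l ψ (19 + j)) 2 := by
  rw [← genLt_PM ψ gens_K]
  exact le_antisymm (genLt_le fun j hj => s.t.m.pG_K hj ▸ mem_genLt (fun j => pG z g l ψ (19 + j)) hj)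
    (genLt_le fun j hj => s.t.m.pG_K hj ▸ mem_genLt (fun i => valN ψ ([cS, cT].getD i idc)) hj)

theorem K_le : PM ψ [cS, cT] ≤ normalizer (LG z g l ψ : Set G) :=
  s.K_eq ▸ genLt_le fun j hj => by
    rw [show 19 + j = 15 + (4 + j) by omega]
    exact s.pG_mem (by omega)

theorem exists_hom : ∃ φ : Perm (Fin 5) →* G, φ (swap 0 1) ≠ φ (swap 1 2) ∧
    (∀ a, φ a ∈ normalizer (LG z g l ψ : Set G)) ∧ (∀ a, φ a ∈ centralizer (VS z g l bz 3 : Set G)) ∧
    (∀ a, φ a * valN ψ cS = valN ψ cS * φ a) ∧ (∀ a, ∀ b ∈ PM ψ [cS, cT], φ a * b * (φ a)⁻¹ * b⁻¹ ∈ LG z g l ψ) ∧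
    PM ψ [cS, cT] ≤ normalizer (LG z g l ψ : Set G) ⊓ centralizer ({φ Pen.c5} : Set G) ⊔
      centralizer (VS z g l bz 3 : Set G) := by
  have h := cox_ok
  simp only [withL_eq, band_iff, allLt_iff, bor_iff, Bool.not_eq_true', ← Bool.not_eq_true, s.eqW_iff, nbeq_iff,
    blt_iff, evalW_cons, evalW_nil, evalW_append, evalW_bitsW, mul_one, ← mul_assoc] at h
  obtain ⟨h0, h⟩ := h
  obtain ⟨φ, hφ⟩ := Sym.exists_hom_of_coxeter 4 (fun i => pG z g l ψ (15 + i)) (fun i => (h i i.2).1)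
    (fun i j e => ((h i i.2).2.1 j j.2).1.resolve_left fun k => k e)
    fun i j e => ((h i i.2).2.1 j j.2).2.resolve_left fun k => k e
  have h1 : ∀ a, φ a ∈ genLt (fun i => pG z g l ψ (15 + i)) 4 := fun a => by
    have k : closure (Set.range fun i : Fin 4 => swap i.castSucc i.succ) ≤
        (genLt (fun i => pG z g l ψ (15 + i)) 4).comap φ := (closure_le _).2 (by
      rintro _ ⟨i, rfl⟩
      exact mem_comap.2 (hφ i ▸ mem_genLt (fun i => pG z g l ψ (15 + i)) i.2))
    exact k (Sym.closure_swap_castSucc_succ 4 ▸ mem_top a)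
  have h2 : ∀ a, φ a * pG z g l ψ (19 + 0) = pG z g l ψ (19 + 0) * φ a := fun a =>
    cent_of_gen (fun i hi => (h i hi).2.2.2.1) _ (h1 a)
  have h3 : φ Pen.c5 = evalW (pG z g l ψ) [15 + 0, 15 + 1, 15 + 2, 15 + 3] := by
    simp only [Pen.c5, map_mul, evalW_cons, evalW_nil, mul_one, ← mul_assoc]
    exact congrArg₂ _ (congrArg₂ _ (congrArg₂ _ (hφ 0) (hφ 1)) (hφ 2)) (hφ 3)
  refine ⟨φ, fun e => h0 ((hφ 0).symm.trans (e.trans (hφ 1))),
    fun a => genLt_le (fun i hi => s.pG_mem (by omega)) (h1 a),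
    fun a => genLt_le (fun i hi => cent_of_gen fun j hj => ?_) (h1 a), s.t.m.pG_K (k := 0) (by norm_num) ▸ h2,
    fun a b hb => comm_of_gen (fun i hi => s.pG_mem (by omega)) (fun j hj => s.K_le (s.K_eq ▸
      mem_genLt (fun j => pG z g l ψ (19 + j)) hj)) (fun i hi j hj => ?_) (h1 a) (s.K_eq ▸ hb), ?_⟩
  · have k := (h i hi).2.2.1 j hj
    have e : evalW (pG z g l ψ) (zW j) = vv z g l (bz j) := by
      interval_cases j <;>
        simp only [zW, List.getD_cons_zero, List.getD_cons_succ, evalW_cons, evalW_nil, mul_one] <;>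
        (repeat rw [s.t.m.pG_lo (by norm_num)]) <;> first | rfl | exact (s.x.vv_xor _ _).symm
    rwa [e] at k
  · interval_cases j
    · rw [(h i hi).2.2.2.1, mul_inv_cancel_right, mul_inv_cancel]
      exact one_mem _
    · rw [(h i hi).2.2.2.2, mul_inv_cancel_right, mul_inv_cancel_right]
      exact gp_mem (fun _ hi => mem_genLt _ hi) _
  · rw [s.K_eq]
    refine genLt_le fun j hj => ?_
    have k0 : pG z g l ψ (19 + j) ∈ normalizer (LG z g l ψ : Set G) :=
      s.K_le (s.K_eq ▸ mem_genLt (fun j => pG z g l ψ (19 + j)) hj)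
    interval_cases j
    · exact mem_sup_left ⟨k0, mem_centralizer_singleton_iff.2 (h2 Pen.c5).symm⟩
    · have k := lift_ok
      rw [withL_eq, s.eqW_iff, evalW_append, evalW_append, evalW_append, evalW_bitsW, evalW_cons, ← h3, ← mul_assoc,
        evalW_cons, evalW_nil, mul_one] at k
      have k1 : gp (pG z g l ψ) 18032 15 ∈ LG z g l ψ := gp_mem (fun _ hi => mem_genLt _ hi) _
      exact (mul_mem_cancel_left (mem_sup_right (s.t.m.L_le_cent k1))).1
        (mem_sup_left ⟨mul_mem (le_normalizer k1) k0, mem_centralizer_singleton_iff.2 k⟩)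

theorem seven : orderOf (valN ψ cS) = 7 ∧ valN ψ cS ∈ PM ψ [cS, cT] ∧
    ∃ r ∈ PM ψ [cS, cT], r * valN ψ cS * r⁻¹ = valN ψ cS * valN ψ cS := by
  obtain ⟨a, ha, ea⟩ := gens_K cS (by simp)
  have h1 : Gens (clo [cS, cT]) [cS, cT] := fun c hc => by
    obtain ⟨y, -, rfl⟩ := gens_K c hc
    exact ⟨y, subset_closure hc, rfl⟩
  obtain ⟨r, hr, er⟩ := h1.walk _ _ cR (by decide +kernel : cR ∈ KL)
  have : Fact (Nat.Prime 7) := ⟨by norm_num⟩
  rw [← ea, show valN ψ (code a) = ψ ⟨a, ha⟩ from valN_coe ψ ⟨a, ha⟩, ea]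
  refine ⟨?_, ⟨_, subset_closure (by simp [ea]), rfl⟩, ψ ⟨r, gens_K.clo_le hr⟩, ⟨_, hr, rfl⟩, ?_⟩
  · rw [orderOf_injective ψ s.t.m.psi_injective, ← orderOf_coe]
    exact orderOf_of_code (by rw [ea]; decide +kernel) (by rw [ea]; decide +kernel)
  · rw [← map_inv, ← map_mul, ← map_mul, ← map_mul]
    refine congrArg ψ (Subtype.ext (code_injective ?_))
    simp only [coe_mul, coe_inv, code_mul, code_inv, ea, er]
    decide +kernel

end StJ

end Cfsg.Agent.J4T
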