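import Mathlib
import Cfsg.Agent.J4T.Ten
import Cfsg.Agent.Rec.L52.Final

/-!
The normaliser of the elementary abelian subgroup of order `2 ^ 10` is a split extension by `L5(2)`.
-/

set_option autoImplicit false
set_option linter.unusedSectionVars false

namespace Cfsg.Agent.J4T

open Cfsg.Agent.Spor Cfsg.Agent.Spor.MB Cfsg.Agent.Spor.J4C Cfsg.Agent.Inv.Fz Cfsg.Agent.Rec Subgroup Split Ten

universe u

variable {G : Type u} [Group G]

namespace Ten

/-- Words for the generators of `A` and for three elements of the complement. -/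
def WB : List (List ℕ) := [[4, 5, 6, 7, 10, 12, 13, 14],
  [5, 6, 8, 12],
  [4, 7, 12],
  [6, 7, 9, 10, 11, 12, 14],
  [6, 7, 9, 14],
  [5, 6, 7, 9, 10, 11, 12],
  [2, 0, 2, 0, 2, 0, 2, 0, 2, 0, 1, 0, 1, 0, 1, 0, 1, 0, 1, 0, 1, 0, 1, 0, 1, 0, 1, 0, 2, 0, 1, 0, 1, 0, 1, 0, 1, 0, 2, 0, 2, 0, 2, 0, 2, 0, 2],
  [1, 0, 1, 0, 1, 0, 1, 0, 2, 0, 1, 0, 2, 0, 2, 0, 2, 0, 2, 0, 2, 0, 1, 0, 1, 0, 1, 0, 2, 0, 1, 0, 1, 0, 1, 0, 1, 0, 1, 0, 1, 0, 1, 0, 1, 0, 1, 0, 2],
  [0, 1, 0, 1, 0, 2, 0, 2, 0, 2, 0, 2, 0, 2, 0, 2, 0, 2, 0, 2, 0, 2, 0, 1, 0, 2, 0, 2, 0, 2, 0, 1, 0, 2, 0, 2, 0, 2, 0, 2, 0, 2, 0, 2, 0, 1, 0, 1, 0, 2, 0, 2],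
  [1, 0, 1, 0, 2, 0, 1, 0, 1, 0, 1, 0, 1, 0, 1, 0, 2, 0, 2, 0, 2, 0, 1, 0, 1, 0, 1, 0, 1, 0, 1, 0, 2, 0, 2, 0, 2, 0, 1, 0, 1, 0, 1, 0, 1, 0, 1, 0, 2, 0, 1, 0, 2],
  [4, 6, 8, 0, 2, 0, 1, 0, 1, 0, 1, 0, 2, 0, 1, 0, 2, 0, 2, 0, 2, 0, 2, 0, 2, 0, 1, 0, 1, 0, 2, 0, 1, 0, 1, 0, 1, 0, 1, 0, 1, 0, 1, 0, 1, 0],
  [5, 7, 8, 9, 10, 11, 14, 0, 2, 0, 2, 0, 1, 0, 2, 0, 1, 0, 2, 0, 2, 0, 2, 0, 2, 0, 1, 0, 1, 0, 1, 0, 1, 0, 1, 0, 2, 0, 2, 0, 2, 0, 1, 0, 1, 0, 2, 3, 4, 6, 8, 9, 10, 11, 12, 1, 0, 1, 0, 2, 0, 1, 0, 2, 0, 1, 0, 2, 0, 1, 0, 1, 0, 1, 0, 1, 0, 1, 0, 2, 0, 2, 0, 1, 0, 2, 0, 2, 0, 2, 0, 1, 0, 2, 0, 1, 0, 2],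
  [1, 0, 2, 0, 1, 0, 2, 0, 1, 0, 1, 0, 1, 0, 2, 0, 1, 0, 1, 0, 2, 0, 2, 0, 2, 0, 2, 0, 2, 0, 1, 0, 2, 0, 1, 0, 2, 0, 1, 0, 2, 0, 2, 12, 11, 10, 9, 8, 6, 4, 3, 1, 0, 2, 0, 2, 0, 1, 0, 1, 0, 1, 0, 2, 0, 2, 0, 2, 0, 2, 0, 2, 0, 1, 0, 1, 0, 1, 0, 1, 0, 2, 0, 1, 0, 2, 0, 1, 0, 1, 0, 14, 11, 10, 9, 8, 7, 5]]

/-- Words for the standard letters of `L5(2)`. -/
def W16 : List (List ℕ) := [[10, 11, 10, 12, 10, 11, 10, 12],
  [10, 11, 10, 11, 10, 12, 10, 12, 10, 11, 10, 11, 10, 12, 10, 12],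
  [10, 11, 10, 11, 10, 11, 10, 12, 10, 12, 10, 12, 10, 11, 10, 11, 10, 11, 10, 12, 10, 12, 10, 12],
  [11, 10, 12],
  [11, 10, 11, 10, 12, 10, 11, 10, 12, 12],
  [11, 10, 11, 10, 11, 10, 12, 10, 12, 10, 11, 10, 11, 10, 12, 10, 12, 12],
  [11, 11, 10, 12, 12],
  [11, 11, 10, 11, 10, 12, 10, 11, 10, 11, 11],
  [12, 12, 10, 11, 11],
  [10],
  [10, 11, 10, 12, 10, 12, 10, 12, 10, 11, 10, 11, 10, 11, 10, 12, 10, 12, 10, 12, 10, 11, 10, 11],
  [10, 12, 10, 12, 10, 12, 10, 11, 10, 11, 10, 11, 10, 12, 10, 12, 10, 12, 10, 11, 10, 11, 10, 11],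
  [10, 11, 10, 11, 10, 11, 10, 11, 10, 12, 10, 12, 10, 12, 10, 11, 10, 11, 10, 11, 10, 12, 10, 12, 10, 12, 12],
  [11, 10, 11, 10, 11, 10, 11, 10, 12, 10, 12, 10, 12, 10, 11, 10, 11, 10, 11, 10, 12, 10, 12, 10, 12, 12, 10],
  [10, 11, 10, 11, 11, 10, 12, 10, 12, 10, 12, 10, 12, 10, 11, 10, 11, 10, 11, 10, 12, 10, 12, 10, 12, 10, 11],
  [10, 11, 10, 11, 10, 12, 10, 12, 10, 12, 10, 11, 10, 11, 10, 11, 10, 12, 10, 12, 10, 12, 10, 12, 10, 11, 11]]

/-- The action of the three elements on `A`. -/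
def lm (i k : ℕ) : ℕ := List.getD (List.getD [[6, 5, 4, 20, 12, 59, 91, 498, 283, 519],
  [786, 112, 728, 401, 852, 656, 128, 158, 167, 139],
  [422, 378, 979, 668, 245, 591, 696, 64, 283, 149]] i []) k 0

/-- The action on codes. -/
noncomputable def aT (i x : ℕ) : ℕ := Bool.rec x (linV (lm i) x 10) (blt i 3)

theorem WB_ok : ∀ k < 10, wOK (nth [] WB k) (if k < 6 then vH (b6 k) else gE (k - 6)) = true := by decide +kernel

theorem lm_lt (i k : ℕ) : lm i k < 2 ^ 10 := by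
  have h : ∀ i < 3, ∀ k < 10, lm i k < 2 ^ 10 := by decide +kernel
  by_cases hi : i < 3
  · by_cases hk : k < 10
    · exact h i hi k hk
    · rw [lm, List.getD_eq_default _ _ (by interval_cases i <;> simpa using hk)]; norm_num
  · rw [lm, List.getD_eq_default _ [] (by simpa using hi)]; simp

theorem act_ok : withL (WB.map mxW) (fun c => allLt 3 fun i => allLt 10 fun k =>
    Nat.beq (Rec.evC arM c [10 + i, k]) (Rec.evC arM c (bitsW (lm i k) 10 ++ [10 + i]))) = true := by decide +kernel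

theorem rel_ok : withL (WB.map mxW) (fun c => withL (W16.map (Rec.evC arM c)) fun c' =>
    Spor.allL (L52.relG false false) fun w => Nat.beq (Rec.evC arM c' w) arM.one) = true := by decide +kernel

theorem orb_z : distinct (fun x => x) 155 (walk aT [0, 1, 2] 7 302
    0x22000000000000000000000000000000000000000000000000000000000000022000000000000000122221200000000020000000000030002121221200000300000022000002012200000003021220030000000030212201200312121221212212122121300013131212131212221302121200000222212122212121221301312131331221212121212131212121221221212121212212) = true := by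
  decide +kernel

theorem orb_d : distinct (fun x => x) 868 (walk aT [0, 1, 2] 1 1565
    0x2000300000000000000000000000000000000000000000000000000000000000000120000000120000000000000000000000000000000000000000000000000000000030000000000000021300000030000000000000000000000000000000000000000000000000000000000000000000000000200000000000000000000000000000000000000000000000000000000030000000000000000000000300000000000000000002000000013312000030000300000000000001301313000000012012000000000000000122130000000000000000003000000200001300000131300000003000000000000000000000012000000000000013013120000000000013000000000000000020122002121200030001300000000000012012012012121300000000000020000000300003312122000000000000000031302120121300013021313313013120000213121222121212000000020120000030000001200000200012120002000000001300121300121201212122121313131200030000000130131301313121212131213120122120121312130012130000130000000001200000000013003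0213130131212131331313130131201201213121213131201212012121220122121212121312122131200302122120121312131213121212131201212130000000000000312012120002212131302121200300021212131312121212130213312212121300030212131312121212000012012120121212121212131212121301312121212121213121213013121220000000030212213013122121213122122131212130212121213121212130212121312121213312121212121212212012212012121213121212121212121312121212121221212121212120121212121312121312121212121221212121221212120121213121312122131212121212121212121312121212212121212121212121312221212121212130131212121221212121212121212121221212120121212121212212121212122121212121221213121212131212121212121212121212121212131212212121212121212121212121212121212121) = true := by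
  decide +kernel

end Ten

/-- The orbit of an element under the normaliser of `A`. -/
def orbN (A : Subgroup G) (a : G) : Set G := {v : G | ∃ n ∈ normalizer (A : Set G), n * a * n⁻¹ = v}

theorem orbN_subset {A : Subgroup G} {a : G} (ha : a ∈ A) (h1 : a ≠ 1) : orbN A a ⊆ {y | y ∈ A ∧ y ≠ 1} := by
  rintro _ ⟨n, hn, rfl⟩
  exact ⟨conj_mem_of_mem_norm hn ha, fun e => h1 (conj_eq_one.1 e)⟩

theorem orbN_le {A W : Subgroup G} (h : normalizer (A : Set G) ≤ normalizer (W : Set G)) {a w : G} (hw : w ∈ W)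
    (ha : w ∈ orbN A a) : orbN A a ⊆ W := by
  obtain ⟨n, hn, rfl⟩ := ha
  rintro _ ⟨m, hm, rfl⟩
  have k := conj_mem_of_mem_norm (h (mul_mem hm (inv_mem hn))) hw
  rwa [show m * n⁻¹ * (n * a * n⁻¹) * (m * n⁻¹)⁻¹ = m * a * m⁻¹ by group] at k

theorem ncard_orbN_cj (c : G) (A : Subgroup G) (a : G) :
    (orbN (cj c A) (c * a * c⁻¹)).ncard = (orbN A a).ncard := by
  have e : orbN (cj c A) (c * a * c⁻¹) = MulAut.conj c '' orbN A a := by
    ext v
    constructor
    · rintro ⟨n, hn, rfl⟩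
      rw [← cj_normalizer, Inv.Fz.mem_cj] at hn
      exact ⟨_, ⟨_, hn, rfl⟩, by rw [MulAut.conj_apply]; group⟩
    · rintro ⟨_, ⟨n, hn, rfl⟩, rfl⟩
      exact ⟨c * n * c⁻¹, by rwa [← cj_normalizer, conj_mem_cj], by rw [MulAut.conj_apply]; group⟩
  rw [e, Set.ncard_image_of_injective _ (MulAut.conj c).injective]

namespace StJ

variable [Finite G] {z : G} {g l : ℕ → G} {π : centralizer ({z} : Set G) →* PG} {ψ : M24 →* G} (s : StJ z π g l ψ)

include s

theorem nth_WB {k : ℕ} (hk : k < 10) : nth 1 (WB.map (eW z g l ψ)) k = aG z g l ψ k := by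
  rw [nth_map_of_lt [] 1 _ (lt_of_lt_of_le hk (by decide)), (s.t.m.eW_eq (WB_ok k hk)).2, aG]
  split_ifs
  · exact s.t.m.valH_vH _
  · exact s.t.m.zs.valH_of_okN (okN_of (gE_ok _ (by omega)))

theorem conj_aG {i : ℕ} (hi : i < 3) : ∀ k < 10, nth 1 (WB.map (eW z g l ψ)) (10 + i) * aG z g l ψ k *
    (nth 1 (WB.map (eW z g l ψ)) (10 + i))⁻¹ = gp (aG z g l ψ) (lm i k) 10 := fun k hk => by
  obtain ⟨C, hC⟩ := s.exists_cod_words
  have h := act_ok
  rw [withL_eq, allLt_iff] at h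
  have h1 := (((hC WB).word _).eq_iff ((hC WB).word _)).1 ((nbeq_iff _ _).1 ((allLt_iff _ _).1 (h i hi) k hk))
  rw [evalW_append, evalW_bitsW, gp_congr fun k hk => s.nth_WB hk, evalW_cons, evalW_cons, evalW_cons, evalW_nil,
    mul_one, mul_one, s.nth_WB hk] at h1
  rw [h1, mul_inv_cancel_right]

theorem conj_av {i : ℕ} (hi : i < 3) (x : ℕ) : nth 1 (WB.map (eW z g l ψ)) (10 + i) * av z g l ψ x *
    (nth 1 (WB.map (eW z g l ψ)) (10 + i))⁻¹ = av z g l ψ (linV (lm i) x 10) :=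
  conj_gp s.t.m.aG_sq s.t.m.aG_comm (s.conj_aG hi) x

theorem nth_mem (i : ℕ) : nth 1 (WB.map (eW z g l ψ)) i ∈ normalizer (AG z g l ψ : Set G) := by
  by_cases h : i < 10
  · exact s.nth_WB h ▸ le_normalizer (mem_genLt _ h)
  by_cases h' : i < 13
  · obtain ⟨j, rfl⟩ : ∃ j, i = 10 + j := ⟨i - 10, by omega⟩
    refine mem_normalizer_of_conj_mem fun a ha => ?_
    obtain ⟨x, -, rfl⟩ := s.t.m.mem_AG.1 ha
    exact s.conj_av (i := j) (by omega) x ▸ s.t.m.av_mem _
  · rw [nth_of_ge _ _ (by rw [List.length_map]; exact not_lt.1 h')]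
    exact one_mem _

theorem le_ncard_orb {x n f c : ℕ} (hx : x < 1024) (h : distinct (fun x => x) n (walk aT [0, 1, 2] x f c) = true) :
    n ≤ (orbN (AG z g l ψ) (av z g l ψ x)).ncard := by
  refine le_ncard_of_codes (R := fun m v => m < 1024 ∧ av z g l ψ m = v) (Set.toFinite _)
    (fun m m' v h1 h2 => s.t.m.av_inj h1.1 h2.1 (h1.2.trans h2.2.symm)) (fun m hm => ?_) h
  have k := walk_spec (a := aT) (gs := [0, 1, 2])
    (P := fun m => m < 1024 ∧ av z g l ψ m ∈ orbN (AG z g l ψ) (av z g l ψ x)) (fun i _ y hy => ?_)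
    ⟨hx, 1, one_mem _, by rw [one_mul, inv_one, mul_one]⟩ f c m hm
  · exact ⟨_, k.2, k.1, rfl⟩
  unfold aT
  cases hi : blt i 3
  · exact hy
  · obtain ⟨-, n, hn, e⟩ := hy
    refine ⟨linV_lt_pow (lm_lt i) y 10, _, mul_mem (s.nth_mem (10 + i)) hn, ?_⟩
    rw [← s.conj_av ((blt_iff _ _).1 hi), ← e]
    group

theorem orbits : (orbN (AG z g l ψ) (av z g l ψ 7)).ncard = 155 ∧ (orbN (AG z g l ψ) (av z g l ψ 1)).ncard = 868 ∧
    Disjoint (orbN (AG z g l ψ) (av z g l ψ 7)) (orbN (AG z g l ψ) (av z g l ψ 1)) ∧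
    orbN (AG z g l ψ) (av z g l ψ 7) ∪ orbN (AG z g l ψ) (av z g l ψ 1) = {y | y ∈ AG z g l ψ ∧ y ≠ 1} := by
  have h1 := s.le_ncard_orb (by norm_num) orb_z
  have h2 := s.le_ncard_orb (by norm_num) orb_d
  have h3 : IsConj z (av z g l ψ 7) := by
    rw [s.t.m.av_eq, show eE (7 >>> 6) = idc by decide +kernel, valN_one, mul_one]
    exact (s.t.m.o.fus _ (s6_lt _) (by decide +kernel)).2 (by decide +kernel)
  have h4 : ¬ IsConj z (av z g l ψ 1) := s.av_one ▸ s.t.m.not_conj (by norm_num) (by decide +kernel)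
  have h5 : Disjoint (orbN (AG z g l ψ) (av z g l ψ 7)) (orbN (AG z g l ψ) (av z g l ψ 1)) := by
    rw [Set.disjoint_left]
    rintro _ ⟨n, -, rfl⟩ ⟨m, -, e⟩
    exact h4 ((isConj_conj_iff m).1 (e ▸ (isConj_conj_iff n).2 h3))
  have h6 := Set.union_subset
    (orbN_subset (s.t.m.av_mem 7) fun e => absurd (s.t.m.av_eq_one (by norm_num) e) (by norm_num))
    (orbN_subset (s.t.m.av_mem 1) fun e => absurd (s.t.m.av_eq_one (by norm_num) e) (by norm_num))
  have h7 := Set.ncard_le_ncard h6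
  have h8 := Set.ncard_union_eq h5
  have h9 := Orb.ncard_ne_one (AG z g l ψ)
  rw [s.t.m.card_AG] at h9
  exact ⟨by omega, by omega, h5, Set.eq_of_subset_of_ncard_le h6 (by omega)⟩

theorem card_norm_le : Nat.card (normalizer (AG z g l ψ : Set G)) ≤ 9999360 * 2 ^ 10 := by
  rw [← ncard_conj_mul _ (av z g l ψ 1)]
  exact (Nat.mul_le_mul s.orbits.2.1.le s.card_norm_cent_le).trans (by norm_num)

theorem irred {W : Subgroup G} (h1 : W ≤ AG z g l ψ)
    (h2 : normalizer (AG z g l ψ : Set G) ≤ normalizer (W : Set G)) : W = ⊥ ∨ W = AG z g l ψ := by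
  obtain ⟨k1, k2, k3, k4⟩ := s.orbits
  have hd := card_dvd_of_le h1
  have hc := Orb.ncard_ne_one W
  have hp : 0 < Nat.card W := Nat.card_pos
  rw [s.t.m.card_AG] at hd
  by_cases h : ∃ w ∈ W, w ∈ orbN (AG z g l ψ) (av z g l ψ 1)
  · obtain ⟨w, hw, h⟩ := h
    have k5 := Set.ncard_le_ncard (orbN_le h2 hw h)
    rw [k2, ← Nat.card_coe_set_eq, SetLike.coe_sort_coe] at k5
    refine .inr (eq_of_le_of_card_ge h1 ?_)
    obtain ⟨k, hk, e⟩ := (Nat.dvd_prime_pow Nat.prime_two).1 hd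
    rw [e] at k5
    rw [s.t.m.card_AG, e]
    interval_cases k <;> omega
  refine (W.bot_or_exists_ne_one).imp_right ?_
  rintro ⟨w, hw, h3⟩
  have h4 : ∀ w ∈ W, w ≠ 1 → w ∈ orbN (AG z g l ψ) (av z g l ψ 7) := fun w hw h3 =>
    ((k4.ge ⟨h1 hw, h3⟩ :)).resolve_right fun k => h ⟨w, hw, k⟩
  have k5 : {y | y ∈ W ∧ y ≠ 1} = orbN (AG z g l ψ) (av z g l ψ 7) :=
    Set.Subset.antisymm (fun y hy => h4 y hy.1 hy.2) fun y hy =>
      ⟨orbN_le h2 hw (h4 w hw h3) hy, (k4.le (Or.inl hy)).2⟩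
  rw [k5, k1] at hc
  rw [show Nat.card W = 156 by omega] at hd
  exact absurd hd (by norm_num)

theorem exists_compl : ∃ B : Subgroup G, B ≤ normalizer (AG z g l ψ : Set G) ∧ B ⊓ AG z g l ψ = ⊥ ∧
    B ⊔ AG z g l ψ = normalizer (AG z g l ψ : Set G) ∧ Nonempty (B ≃* L52.SL5) := by
  obtain ⟨C, hC⟩ := s.exists_cod_words
  have h := rel_ok
  rw [withL_eq, withL_eq] at h
  have h1 := (repL_words (hC WB) W16).sat h
  obtain ⟨e₀, h2, h3, h4⟩ := L52.gen_SL5
  have := L52.simple_SL5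
  set e := W16.map (evalW (nth 1 (WB.map (eW z g l ψ)))) with he
  have h5 : clos e ≠ ⊥ := fun k => by
    have k1 : nth 1 (WB.map (eW z g l ψ)) (10 + 0) = 1 := by
      have k2 : evalW (nth 1 (WB.map (eW z g l ψ))) [10] ∈ clos e := mem_clos (List.mem_map_of_mem (by decide))
      rwa [k, mem_bot, evalW_cons, evalW_nil, mul_one] at k2
    have k3 := s.conj_av (i := 0) (by norm_num) 1
    rw [k1, one_mul, inv_one, mul_one] at k3
    exact absurd (s.t.m.av_inj (by norm_num) (linV_lt_pow (lm_lt 0) 1 10) k3) (by decide +kernel)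
  obtain ⟨φ⟩ := L52.presLL.{u}.nonempty_equiv h3 h1 h2 (List.length_map _) h4 L52.card_SL5 h5
  have h6 : clos e ≤ normalizer (AG z g l ψ : Set G) := clos_le.2 fun x hx => by
    obtain ⟨w, -, rfl⟩ := List.mem_map.1 hx
    exact evalW_mem fun i _ => s.nth_mem i
  have h7 : Nat.card (clos e) = 9999360 := (Nat.card_congr φ.toEquiv).trans L52.card_SL5
  have h8 : clos e ⊓ AG z g l ψ = ⊥ := by
    have := φ.isSimpleGroup
    rcases (normal_subgroupOf_of_le_normalizer h6).eq_bot_or_eq_top with k | k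
    · rwa [subgroupOf_eq_bot, disjoint_iff, inf_comm] at k
    · have k1 := card_le_of_le (subgroupOf_eq_top.1 k)
      rw [h7, s.t.m.card_AG] at k1
      omega
  refine ⟨_, h6, h8, eq_of_le_of_card_ge (sup_le h6 le_normalizer) ?_, ⟨φ⟩⟩
  rw [GT.card_sup_of_inf_eq_bot h6 h8, h7, s.t.m.card_AG]
  exact s.card_norm_le

end StJ

end Cfsg.Agent.J4T
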